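import Cfsg.Agent.Helper17.SuzP2TC.Lemmas

set_option autoImplicit false
set_option linter.all false

noncomputable section

namespace Cfsg.Agent.Helper17.SuzP2TC

theorem F1 : act 0 n0 = n0 := d12_0 B0 
theorem F2 : act 1 n0 = n0 := d13_0 B1 
theorem F3 : act 2 n0 = n0 := d14_0 B2 
theorem F4 : act 3 n0 = n0 := d15_0 B3 
def n1 : Q := act 4 n0
theorem D1 : act 4 n0 = n1 := rfl
theorem F5 : act 0 n1 = n1 := d3_1 D1 (iv D1) F1
theorem F6 : act 1 n1 = n1 := d6_1 D1 (iv D1) F2
theorem F7 : act 2 n1 = n1 := d8_1 D1 (iv D1) F3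
def n2 : Q := act 3 n1
theorem D2 : act 3 n1 = n2 := rfl
theorem F8 : act 0 n2 = n2 := d2_1 D2 (iv D2) F5
theorem F9 : act 1 n2 = n2 := d5_1 D2 (iv D2) F6
theorem F10 : act 4 n2 = n2 := d9_2 D1 D2 (iv D2) (iv D1) F4
def n3 : Q := act 2 n2
theorem D3 : act 2 n2 = n3 := rfl
theorem F11 : act 0 n3 = n3 := d1_1 D3 (iv D3) F8
theorem F12 : act 4 n3 = n3 := d8_2 F10 D3 (iv D3)
def n4 : Q := act 1 n3
theorem D4 : act 1 n3 = n4 := rfl
theorem F13 : act 2 n4 = n4 := d4_2 D3 D4 (iv D4) (iv D3) F9
theorem F14 : act 4 n4 = n4 := d6_2 F12 D4 (iv D4)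
def n5 : Q := act 3 n3
theorem D5 : act 3 n3 = n5 := rfl
theorem F15 : act 0 n5 = n5 := d2_1 D5 (iv D5) F11
theorem F16 : act 2 n5 = n5 := d10_2 D3 D5 (iv D5) (iv D3) (iv D2) F7 D2 F8
def n6 : Q := act 0 n4
theorem D6 : act 0 n4 = n6 := rfl
theorem F17 : act 2 n6 = n6 := d1_2 F13 D6 (iv D6)
theorem F18 : act 4 n6 = n6 := d3_2 F14 D6 (iv D6)
def n7 : Q := act 3 n4
theorem D7 : act 3 n4 = n7 := rfl
theorem F19 : act 1 n7 = n5 := d5_1 D7 (iv D5) D4
def n8 : Q := act 4 n5
theorem D8 : act 4 n5 = n8 := rfl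
theorem F20 : act 0 n8 = n8 := d3_1 D8 (iv D8) F15
theorem F21 : act 2 n8 = n8 := d8_1 D8 (iv D8) F16
theorem F22 : act 3 n8 = n8 := d9_1 D8 (iv D8) (iv D5) F12 D5
def n9 : Q := act 1 n6
theorem D9 : act 1 n6 = n9 := rfl
theorem F23 : act 4 n9 = n9 := d6_2 F18 D9 (iv D9)
def n10 : Q := act 3 n6
theorem D10 : act 3 n6 = n10 := rfl
theorem F24 : act 0 n10 = n7 := d2_1 D10 (iv D7) D6
def n11 : Q := act 2 n7
theorem D11 : act 2 n7 = n11 := rfl
theorem F25 : act 1 n11 = n11 := d4_1 D11 (iv D11) F19 F16 (iv F19)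
def n12 : Q := act 4 n7
theorem D12 : act 4 n7 = n12 := rfl
theorem F26 : act 1 n12 = n8 := d6_1 D12 (iv D8) (iv F19)
theorem F27 : act 3 n12 = n12 := d9_1 D12 (iv D12) (iv D7) F14 D7
def n13 : Q := act 0 n9
theorem D13 : act 0 n9 = n13 := rfl
theorem F28 : act 1 n13 = n13 := d0_2 D9 D13 (iv D13) (iv D9) (iv D6) (iv D4) F11 D4 D6
theorem F29 : act 4 n13 = n13 := d3_2 F23 D13 (iv D13)
def n14 : Q := act 2 n9
theorem D14 : act 2 n9 = n14 := rfl
theorem F30 : act 1 n14 = n14 := d4_1 D14 (iv D14) (iv D9) F17 D9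
def n15 : Q := act 3 n9
theorem D15 : act 3 n9 = n15 := rfl
theorem F32 : act 1 n15 = n10 := d5_1 D15 (iv D10) D9
def n16 : Q := act 2 n10
theorem D16 : act 2 n10 = n16 := rfl
theorem F33 : act 0 n16 = n11 := d1_1 D16 (iv D11) (iv F24)
def n17 : Q := act 4 n10
theorem D17 : act 4 n10 = n17 := rfl
theorem F34 : act 0 n17 = n12 := d3_1 D17 (iv D12) (iv F24)
theorem F35 : act 3 n17 = n17 := d9_1 D17 (iv D17) (iv D10) F18 D10
def n18 : Q := act 3 n11
theorem D18 : act 3 n11 = n18 := rfl
theorem F36 : act 1 n18 = n18 := d5_1 D18 (iv D18) F25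
def n19 : Q := act 4 n11
theorem D19 : act 4 n11 = n19 := rfl
theorem F37 : act 1 n19 = n19 := d6_1 D19 (iv D19) F25
theorem F38 : act 2 n19 = n12 := d8_1 D19 (iv D12) D11
def n20 : Q := act 2 n13
theorem D20 : act 2 n13 = n20 := rfl
theorem F39 : act 0 n20 = n14 := d1_1 D20 (iv D14) D13
def n21 : Q := act 3 n13
theorem D21 : act 3 n13 = n21 := rfl
theorem F41 : act 0 n21 = n15 := d2_1 D21 (iv D15) D13
theorem F42 : act 1 n21 = n21 := d5_1 D21 (iv D21) F28
def n22 : Q := act 3 n14
theorem D22 : act 3 n14 = n22 := rfl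
theorem F43 : act 1 n22 = n22 := d5_1 D22 (iv D22) F30
def n23 : Q := act 2 n15
theorem D23 : act 2 n15 = n23 := rfl
def n24 : Q := act 4 n15
theorem D24 : act 4 n15 = n24 := rfl
theorem F44 : act 1 n24 = n17 := d6_1 D24 (iv D17) (iv F32)
theorem F45 : act 3 n24 = n24 := d9_1 D24 (iv D24) (iv D15) F23 D15
def n25 : Q := act 1 n16
theorem D25 : act 1 n16 = n25 := rfl
def n26 : Q := act 3 n16
theorem D26 : act 3 n16 = n26 := rfl
theorem F46 : act 0 n26 = n18 := d2_1 D26 (iv D18) (iv F33)
theorem F47 : act 2 n26 = n18 := d10_2 D16 D26 (iv D18) (iv D11) (iv D7) F13 D7 (iv F24)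
def n27 : Q := act 4 n16
theorem D27 : act 4 n16 = n27 := rfl
theorem F48 : act 0 n27 = n19 := d3_1 D27 (iv D19) (iv F33)
theorem F49 : act 2 n27 = n17 := d8_1 D27 (iv D17) D16
def n28 : Q := act 4 n18
theorem D28 : act 4 n18 = n28 := rfl
theorem F50 : act 1 n28 = n28 := d6_1 D28 (iv D28) F36
def n29 : Q := act 3 n19
theorem D29 : act 3 n19 = n29 := rfl
theorem F51 : act 1 n29 = n29 := d5_1 D29 (iv D29) F37
def n30 : Q := act 1 n20
theorem D30 : act 1 n20 = n30 := rfl
theorem F52 : act 2 n30 = n30 := d4_2 D20 D30 (iv D30) (iv D20) F28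
def n31 : Q := act 3 n20
theorem D31 : act 3 n20 = n31 := rfl
theorem F54 : act 0 n31 = n22 := d2_1 D31 (iv D22) (iv F39)
def n32 : Q := act 2 n21
theorem D32 : act 2 n21 = n32 := rfl
theorem F55 : act 0 n32 = n23 := d1_1 D32 (iv D23) (iv F41)
def n33 : Q := act 4 n21
theorem D33 : act 4 n21 = n33 := rfl
theorem F56 : act 0 n33 = n24 := d3_1 D33 (iv D24) (iv F41)
theorem F57 : act 1 n33 = n33 := d6_1 D33 (iv D33) F42
theorem F58 : act 3 n33 = n33 := d9_1 D33 (iv D33) (iv D21) F29 D21
def n34 : Q := act 2 n22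
theorem D34 : act 2 n22 = n34 := rfl
def n36 : Q := act 1 n23
theorem D36 : act 1 n23 = n36 := rfl
theorem F61 : act 2 n36 = n25 := d4_2 D23 D36 (iv D25) (iv D16) (iv F32)
def n37 : Q := act 3 n23
theorem D37 : act 3 n23 = n37 := rfl
def n38 : Q := act 4 n23
theorem D38 : act 4 n23 = n38 := rfl
theorem F62 : act 2 n38 = n24 := d8_1 D38 (iv D24) D23
def n39 : Q := act 0 n25
theorem D39 : act 0 n25 = n39 := rfl
def n40 : Q := act 3 n25
theorem D40 : act 3 n25 = n40 := rfl
theorem F63 : act 1 n40 = n26 := d5_1 D40 (iv D26) D25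
theorem F64 : act 2 n40 = n40 := d4_0 F63 F47 F36 (iv F47) (iv F63)
def n41 : Q := act 4 n25
theorem D41 : act 4 n25 = n41 := rfl
theorem F65 : act 1 n41 = n27 := d6_1 D41 (iv D27) D25
def n42 : Q := act 4 n26
theorem D42 : act 4 n26 = n42 := rfl
theorem F66 : act 0 n42 = n28 := d3_1 D42 (iv D28) (iv F46)
theorem F67 : act 2 n42 = n28 := d8_1 D42 (iv D28) (iv F47)
def n43 : Q := act 3 n27
theorem D43 : act 3 n27 = n43 := rfl
theorem F68 : act 0 n43 = n29 := d2_1 D43 (iv D29) (iv F48)
def n44 : Q := act 3 n28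
theorem D44 : act 3 n28 = n44 := rfl
theorem F69 : act 1 n44 = n44 := d5_1 D44 (iv D44) F50
theorem F70 : act 4 n44 = n29 := d9_2 D28 D44 (iv D29) (iv D19) D18
def n45 : Q := act 2 n29
theorem D45 : act 2 n29 = n45 := rfl
def n46 : Q := act 0 n30
theorem D46 : act 0 n30 = n46 := rfl
def n47 : Q := act 3 n30
theorem D47 : act 3 n30 = n47 := rfl
theorem F73 : act 1 n47 = n31 := d5_1 D47 (iv D31) D30
def n48 : Q := act 2 n31
theorem D48 : act 2 n31 = n48 := rfl
theorem F74 : act 0 n48 = n34 := d1_1 D48 (iv D34) (iv F54)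
def n50 : Q := act 1 n32
theorem D50 : act 1 n32 = n50 := rfl
theorem F77 : act 2 n50 = n50 := d4_2 D32 D50 (iv D50) (iv D32) F42
def n51 : Q := act 3 n32
theorem D51 : act 3 n32 = n51 := rfl
theorem F78 : act 0 n51 = n37 := d2_1 D51 (iv D37) (iv F55)
def n52 : Q := act 4 n32
theorem D52 : act 4 n32 = n52 := rfl
theorem F79 : act 0 n52 = n38 := d3_1 D52 (iv D38) (iv F55)
theorem F80 : act 2 n52 = n33 := d8_1 D52 (iv D33) D32
def n53 : Q := act 1 n34
theorem D53 : act 1 n34 = n53 := rfl
theorem F81 : act 2 n53 = n53 := d4_2 D34 D53 (iv D53) (iv D34) F43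
def n54 : Q := act 3 n34
theorem D54 : act 3 n34 = n54 := rfl
theorem F82 : act 2 n54 = n51 := d10_2 D34 D54 (iv D51) (iv D32) (iv D21) D20 D31 F54
def n55 : Q := act 4 n34
theorem D55 : act 4 n34 = n55 := rfl
def n56 : Q := act 0 n36
theorem D56 : act 0 n36 = n56 := rfl
theorem F84 : act 2 n56 = n39 := d1_2 (iv F61) D56 (iv D39)
def n57 : Q := act 3 n36
theorem D57 : act 3 n36 = n57 := rfl
theorem F85 : act 1 n57 = n37 := d5_1 D57 (iv D37) D36
def n58 : Q := act 4 n36
theorem D58 : act 4 n36 = n58 := rfl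
theorem F86 : act 1 n58 = n38 := d6_1 D58 (iv D38) D36
theorem F87 : act 2 n58 = n41 := d8_1 D58 (iv D41) (iv F61)
def n59 : Q := act 2 n37
theorem D59 : act 2 n37 = n59 := rfl
theorem F88 : act 0 n59 = n54 := d1_1 D59 F82 F78
theorem F89 : act 3 n59 = n48 := d7_2 D37 D59 (iv D48) (iv D31) (iv D20) D21 D32 D51 (iv F82) (iv D54) (iv D34) (iv D22) (iv D14) D15 D23
def n60 : Q := act 4 n37
theorem D60 : act 4 n37 = n60 := rfl
def n61 : Q := act 3 n38
theorem D61 : act 3 n38 = n61 := rfl
def n62 : Q := act 1 n39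
theorem D62 : act 1 n39 = n62 := rfl
theorem F90 : act 0 n62 = n62 := d0_1 D62 (iv D62) (iv D39) (iv D25) F33 F25 (iv F33) D25 D39
def n63 : Q := act 3 n39
theorem D63 : act 3 n39 = n63 := rfl
theorem F91 : act 0 n63 = n40 := d2_1 D63 (iv D40) D39
theorem F92 : act 2 n63 = n63 := d1_0 F91 F64 (iv F91)
def n64 : Q := act 4 n39
theorem D64 : act 4 n39 = n64 := rfl
theorem F93 : act 0 n64 = n41 := d3_1 D64 (iv D41) D39
def n65 : Q := act 4 n40
theorem D65 : act 4 n40 = n65 := rfl
theorem F94 : act 1 n65 = n42 := d6_1 D65 (iv D42) (iv F63)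
theorem F95 : act 2 n65 = n65 := d8_1 D65 (iv D65) F64
def n66 : Q := act 3 n41
theorem D66 : act 3 n41 = n66 := rfl
theorem F96 : act 1 n66 = n43 := d5_1 D66 (iv D43) (iv F65)
def n67 : Q := act 3 n42
theorem D67 : act 3 n42 = n67 := rfl
theorem F97 : act 0 n67 = n44 := d2_1 D67 (iv D44) (iv F66)
theorem F98 : act 4 n67 = n43 := d9_2 D42 D67 (iv D43) (iv D27) D26
def n68 : Q := act 2 n43
theorem D68 : act 2 n43 = n68 := rfl
theorem F99 : act 0 n68 = n45 := d1_1 D68 (iv D45) (iv F68)
theorem F100 : act 3 n68 = n45 := d10_1 D68 (iv D45) (iv D29) F38 F27 (iv F38) D29 (iv F68)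
def n69 : Q := act 2 n44
theorem D69 : act 2 n44 = n69 := rfl
theorem F101 : act 4 n69 = n45 := d8_2 (iv F70) D69 (iv D45)
def n70 : Q := act 1 n45
theorem D70 : act 1 n45 = n70 := rfl
theorem F102 : act 2 n70 = n70 := d4_2 D45 D70 (iv D70) (iv D45) F51
def n72 : Q := act 3 n46
theorem D72 : act 3 n46 = n72 := rfl
theorem F105 : act 0 n72 = n47 := d2_1 D72 (iv D47) D46
def n73 : Q := act 2 n47
theorem D73 : act 2 n47 = n73 := rfl
def n75 : Q := act 1 n48
theorem D75 : act 1 n48 = n75 := rfl
def n76 : Q := act 4 n48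
theorem D76 : act 4 n48 = n76 := rfl
theorem F108 : act 0 n76 = n55 := d3_1 D76 (iv D55) (iv F74)
def n77 : Q := act 0 n50
theorem D77 : act 0 n50 = n77 := rfl
def n78 : Q := act 3 n50
theorem D78 : act 3 n50 = n78 := rfl
theorem F111 : act 1 n78 = n51 := d5_1 D78 (iv D51) D50
def n79 : Q := act 4 n50
theorem D79 : act 4 n50 = n79 := rfl
theorem F112 : act 1 n79 = n52 := d6_1 D79 (iv D52) D50
theorem F113 : act 2 n79 = n79 := d8_1 D79 (iv D79) F77
def n80 : Q := act 4 n51
theorem D80 : act 4 n51 = n80 := rfl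
theorem F114 : act 0 n80 = n60 := d3_1 D80 (iv D60) (iv F78)
def n81 : Q := act 3 n52
theorem D81 : act 3 n52 = n81 := rfl
theorem F115 : act 0 n81 = n61 := d2_1 D81 (iv D61) (iv F79)
def n82 : Q := act 0 n53
theorem D82 : act 0 n53 = n82 := rfl
def n83 : Q := act 3 n53
theorem D83 : act 3 n53 = n83 := rfl
theorem F117 : act 1 n83 = n54 := d5_1 D83 (iv D54) D53
def n84 : Q := act 4 n53
theorem D84 : act 4 n53 = n84 := rfl
theorem F118 : act 1 n84 = n55 := d6_1 D84 (iv D55) D53
theorem F119 : act 2 n84 = n84 := d8_1 D84 (iv D84) F81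
def n85 : Q := act 4 n54
theorem D85 : act 4 n54 = n85 := rfl
theorem F120 : act 2 n85 = n80 := d8_1 D85 (iv D80) (iv F82)
def n86 : Q := act 3 n55
theorem D86 : act 3 n55 = n86 := rfl
def n87 : Q := act 1 n56
theorem D87 : act 1 n56 = n87 := rfl
def n88 : Q := act 3 n56
theorem D88 : act 3 n56 = n88 := rfl
theorem F121 : act 0 n88 = n57 := d2_1 D88 (iv D57) D56
theorem F122 : act 2 n88 = n57 := d10_2 (iv F84) D88 (iv D57) F61 D40 F64 (iv D40) D39
def n89 : Q := act 4 n56
theorem D89 : act 4 n56 = n89 := rfl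
theorem F123 : act 0 n89 = n58 := d3_1 D89 (iv D58) D56
theorem F124 : act 2 n89 = n64 := d8_1 D89 (iv D64) (iv F84)
def n90 : Q := act 4 n57
theorem D90 : act 4 n57 = n90 := rfl
theorem F125 : act 1 n90 = n60 := d6_1 D90 (iv D60) (iv F85)
def n91 : Q := act 3 n58
theorem D91 : act 3 n58 = n91 := rfl
theorem F126 : act 1 n91 = n61 := d5_1 D91 (iv D61) (iv F86)
def n92 : Q := act 1 n59
theorem D92 : act 1 n59 = n92 := rfl
theorem F127 : act 3 n92 = n75 := d5_2 (iv F89) D92 (iv D75)
def n93 : Q := act 4 n59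
theorem D93 : act 4 n59 = n93 := rfl
theorem F128 : act 0 n93 = n85 := d3_1 D93 (iv D85) (iv F88)
theorem F129 : act 2 n93 = n60 := d8_1 D93 (iv D60) D59
def n94 : Q := act 3 n60
theorem D94 : act 3 n60 = n94 := rfl
theorem F130 : act 4 n94 = n61 := d9_2 D60 D94 (iv D61) (iv D38) D37
def n95 : Q := act 2 n61
theorem D95 : act 2 n61 = n95 := rfl
def n96 : Q := act 2 n62
theorem D96 : act 2 n62 = n96 := rfl
theorem F131 : act 0 n96 = n96 := d1_1 D96 (iv D96) F90
def n97 : Q := act 3 n62
theorem D97 : act 3 n62 = n97 := rfl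
theorem F132 : act 0 n97 = n97 := d2_1 D97 (iv D97) F90
theorem F133 : act 1 n97 = n63 := d5_1 D97 (iv D63) D62
def n98 : Q := act 4 n62
theorem D98 : act 4 n62 = n98 := rfl
theorem F134 : act 0 n98 = n98 := d3_1 D98 (iv D98) F90
theorem F135 : act 1 n98 = n64 := d6_1 D98 (iv D64) D62
def n99 : Q := act 4 n63
theorem D99 : act 4 n63 = n99 := rfl
theorem F136 : act 0 n99 = n65 := d3_1 D99 (iv D65) (iv F91)
theorem F137 : act 2 n99 = n99 := d8_1 D99 (iv D99) F92
def n100 : Q := act 3 n64
theorem D100 : act 3 n64 = n100 := rfl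
theorem F138 : act 0 n100 = n66 := d2_1 D100 (iv D66) (iv F93)
def n101 : Q := act 3 n65
theorem D101 : act 3 n65 = n101 := rfl
theorem F139 : act 1 n101 = n67 := d5_1 D101 (iv D67) (iv F94)
theorem F140 : act 4 n101 = n66 := d9_2 D65 D101 (iv D66) (iv D41) D40
def n102 : Q := act 2 n66
theorem D102 : act 2 n66 = n102 := rfl
def n103 : Q := act 2 n67
theorem D103 : act 2 n67 = n103 := rfl
theorem F141 : act 0 n103 = n69 := d1_1 D103 (iv D69) (iv F97)
theorem F142 : act 4 n103 = n68 := d8_2 (iv F98) D103 (iv D68)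
def n104 : Q := act 1 n68
theorem D104 : act 1 n68 = n104 := rfl
theorem F143 : act 3 n104 = n70 := d5_2 (iv F100) D104 (iv D70)
def n105 : Q := act 1 n69
theorem D105 : act 1 n69 = n105 := rfl
theorem F144 : act 2 n105 = n105 := d4_2 D69 D105 (iv D105) (iv D69) F69
theorem F145 : act 4 n105 = n70 := d6_2 (iv F101) D105 (iv D70)
def n106 : Q := act 3 n69
theorem D106 : act 3 n69 = n106 := rfl
theorem F146 : act 2 n106 = n106 := d10_2 D69 D106 (iv D106) (iv D69) (iv D44) (iv F67) D67 F97
def n107 : Q := act 0 n70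
theorem D107 : act 0 n70 = n107 := rfl
theorem F147 : act 2 n107 = n107 := d1_2 F102 D107 (iv D107)
def n110 : Q := act 2 n72
theorem D110 : act 2 n72 = n110 := rfl
theorem F153 : act 0 n110 = n73 := d1_1 D110 (iv D73) (iv F105)
def n112 : Q := act 1 n73
theorem D112 : act 1 n73 = n112 := rfl
theorem F156 : act 2 n112 = n75 := d4_2 D73 D112 (iv D75) (iv D48) (iv F73)
def n113 : Q := act 3 n73
theorem D113 : act 3 n73 = n113 := rfl
def n115 : Q := act 0 n75
theorem D115 : act 0 n75 = n115 := rfl
def n116 : Q := act 4 n75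
theorem D116 : act 4 n75 = n116 := rfl
theorem F158 : act 1 n116 = n76 := d6_1 D116 (iv D76) D75
def n118 : Q := act 1 n77
theorem D118 : act 1 n77 = n118 := rfl
def n119 : Q := act 3 n77
theorem D119 : act 3 n77 = n119 := rfl
theorem F160 : act 0 n119 = n78 := d2_1 D119 (iv D78) D77
def n121 : Q := act 2 n78
theorem D121 : act 2 n78 = n121 := rfl
def n122 : Q := act 4 n78
theorem D122 : act 4 n78 = n122 := rfl
theorem F163 : act 1 n122 = n80 := d6_1 D122 (iv D80) (iv F111)
def n123 : Q := act 3 n79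
theorem D123 : act 3 n79 = n123 := rfl
theorem F164 : act 1 n123 = n81 := d5_1 D123 (iv D81) (iv F112)
def n124 : Q := act 3 n80
theorem D124 : act 3 n80 = n124 := rfl
theorem F165 : act 0 n124 = n94 := d2_1 D124 (iv D94) (iv F114)
theorem F166 : act 4 n124 = n81 := d9_2 D80 D124 (iv D81) (iv D52) D51
def n125 : Q := act 2 n81
theorem D125 : act 2 n81 = n125 := rfl
theorem F167 : act 0 n125 = n95 := d1_1 D125 (iv D95) (iv F115)
theorem F168 : act 3 n125 = n95 := d10_1 D125 (iv D95) (iv D61) F62 F45 (iv F62) D61 (iv F115)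
def n126 : Q := act 1 n82
theorem D126 : act 1 n82 = n126 := rfl
def n127 : Q := act 3 n82
theorem D127 : act 3 n82 = n127 := rfl
theorem F169 : act 0 n127 = n83 := d2_1 D127 (iv D83) D82
def n128 : Q := act 4 n82
theorem D128 : act 4 n82 = n128 := rfl
theorem F170 : act 0 n128 = n84 := d3_1 D128 (iv D84) D82
def n129 : Q := act 2 n83
theorem D129 : act 2 n83 = n129 := rfl
theorem F172 : act 1 n129 = n121 := d4_1 D129 (iv D121) F111 (iv F82) (iv F117)
def n130 : Q := act 4 n83
theorem D130 : act 4 n83 = n130 := rfl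
def n131 : Q := act 3 n84
theorem D131 : act 3 n84 = n131 := rfl
def n132 : Q := act 3 n85
theorem D132 : act 3 n85 = n132 := rfl
theorem F175 : act 4 n132 = n86 := d9_2 D85 D132 (iv D86) (iv D55) D54
def n133 : Q := act 2 n86
theorem D133 : act 2 n86 = n133 := rfl
def n134 : Q := act 0 n87
theorem D134 : act 0 n87 = n134 := rfl
def n135 : Q := act 2 n87
theorem D135 : act 2 n87 = n135 := rfl
theorem F176 : act 1 n135 = n96 := d4_1 D135 (iv D96) (iv D62) (iv F84) D87
def n136 : Q := act 3 n87
theorem D136 : act 3 n87 = n136 := rfl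
theorem F177 : act 1 n136 = n88 := d5_1 D136 (iv D88) D87
theorem F178 : act 2 n92 = n136 := d4_0 F177 F122 F85 D59 D92
def n137 : Q := act 4 n87
theorem D137 : act 4 n87 = n137 := rfl
theorem F179 : act 1 n137 = n89 := d6_1 D137 (iv D89) D87
def n138 : Q := act 4 n88
theorem D138 : act 4 n88 = n138 := rfl
theorem F180 : act 0 n138 = n90 := d3_1 D138 (iv D90) (iv F121)
theorem F181 : act 2 n138 = n90 := d8_1 D138 (iv D90) (iv F122)
def n139 : Q := act 3 n89
theorem D139 : act 3 n89 = n139 := rfl
theorem F182 : act 0 n139 = n91 := d2_1 D139 (iv D91) (iv F123)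
def n140 : Q := act 3 n90
theorem D140 : act 3 n90 = n140 := rfl
theorem F183 : act 1 n140 = n94 := d5_1 D140 (iv D94) (iv F125)
theorem F184 : act 4 n140 = n91 := d9_2 D90 D140 (iv D91) (iv D58) D57
def n141 : Q := act 2 n91
theorem D141 : act 2 n91 = n141 := rfl
def n142 : Q := act 0 n92
theorem D142 : act 0 n92 = n142 := rfl
theorem F185 : act 3 n142 = n115 := d2_2 (iv F127) D142 (iv D115)
def n144 : Q := act 3 n93
theorem D144 : act 3 n93 = n144 := rfl
theorem F187 : act 0 n144 = n132 := d2_1 D144 (iv D132) (iv F128)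
def n145 : Q := act 2 n94
theorem D145 : act 2 n94 = n145 := rfl
theorem F189 : act 4 n145 = n95 := d8_2 (iv F130) D145 (iv D95)
def n146 : Q := act 1 n95
theorem D146 : act 1 n95 = n146 := rfl
def n147 : Q := act 3 n96
theorem D147 : act 3 n96 = n147 := rfl
theorem F190 : act 0 n147 = n147 := d2_1 D147 (iv D147) F131
def n148 : Q := act 4 n96
theorem D148 : act 4 n96 = n148 := rfl
theorem F191 : act 0 n148 = n148 := d3_1 D148 (iv D148) F131
theorem F192 : act 2 n148 = n98 := d8_1 D148 (iv D98) D96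
def n149 : Q := act 2 n97
theorem D149 : act 2 n97 = n149 := rfl
theorem F193 : act 0 n149 = n149 := d1_1 D149 (iv D149) F132
theorem F194 : act 1 n149 = n149 := d4_1 D149 (iv D149) F133 F92 (iv F133)
def n150 : Q := act 4 n97
theorem D150 : act 4 n97 = n150 := rfl
theorem F195 : act 0 n150 = n150 := d3_1 D150 (iv D150) F132
theorem F196 : act 1 n150 = n99 := d6_1 D150 (iv D99) (iv F133)
def n151 : Q := act 3 n98
theorem D151 : act 3 n98 = n151 := rfl
theorem F197 : act 0 n151 = n151 := d2_1 D151 (iv D151) F134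
theorem F198 : act 1 n151 = n100 := d5_1 D151 (iv D100) (iv F135)
def n152 : Q := act 3 n99
theorem D152 : act 3 n99 = n152 := rfl
theorem F199 : act 0 n152 = n101 := d2_1 D152 (iv D101) (iv F136)
theorem F200 : act 4 n152 = n100 := d9_2 D99 D152 (iv D100) (iv D64) D63
def n153 : Q := act 2 n100
theorem D153 : act 2 n100 = n153 := rfl
theorem F201 : act 0 n153 = n102 := d1_1 D153 (iv D102) (iv F138)
def n154 : Q := act 2 n101
theorem D154 : act 2 n101 = n154 := rfl
theorem F202 : act 4 n154 = n102 := d8_2 (iv F140) D154 (iv D102)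
def n155 : Q := act 1 n102
theorem D155 : act 1 n102 = n155 := rfl
theorem F203 : act 2 n155 = n104 := d4_2 D102 D155 (iv D104) (iv D68) (iv F96)
def n156 : Q := act 3 n102
theorem D156 : act 3 n102 = n156 := rfl
def n157 : Q := act 1 n103
theorem D157 : act 1 n103 = n157 := rfl
theorem F204 : act 4 n157 = n104 := d6_2 (iv F142) D157 (iv D104)
def n158 : Q := act 3 n103
theorem D158 : act 3 n103 = n158 := rfl
theorem F205 : act 0 n158 = n106 := d2_1 D158 (iv D106) (iv F141)
theorem F206 : act 2 n158 = n158 := d7_1 D158 (iv D158) (iv D103) (iv D67) F67 D44 D69 D106 F146 (iv D106) (iv D69) (iv D44) (iv F67) D67 D103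
theorem F207 : act 4 n158 = n106 := d9_2 (iv F142) D158 (iv D106) F101 (iv F100)
def n159 : Q := act 0 n104
theorem D159 : act 0 n104 = n159 := rfl
theorem F208 : act 3 n159 = n107 := d2_2 (iv F143) D159 (iv D107)
def n160 : Q := act 0 n105
theorem D160 : act 0 n105 = n160 := rfl
theorem F209 : act 2 n160 = n160 := d1_2 F144 D160 (iv D160)
theorem F210 : act 4 n160 = n107 := d3_2 (iv F145) D160 (iv D107)
def n161 : Q := act 3 n105
theorem D161 : act 3 n105 = n161 := rfl
theorem F211 : act 1 n161 = n106 := d5_1 D161 (iv D106) D105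
def n162 : Q := act 1 n107
theorem D162 : act 1 n107 = n162 := rfl
def n166 : Q := act 1 n110
theorem D166 : act 1 n110 = n166 := rfl
def n167 : Q := act 3 n110
theorem D167 : act 3 n110 = n167 := rfl
theorem F219 : act 2 n167 = n113 := d10_2 D110 D167 (iv D113) (iv D73) (iv D47) F52 D47 (iv F105)
def n169 : Q := act 0 n112
theorem D169 : act 0 n112 = n169 := rfl
theorem F222 : act 2 n169 = n115 := d1_2 (iv F156) D169 (iv D115)
def n170 : Q := act 3 n112
theorem D170 : act 3 n112 = n170 := rfl
theorem F223 : act 1 n170 = n113 := d5_1 D170 (iv D113) D112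
def n171 : Q := act 4 n112
theorem D171 : act 4 n112 = n171 := rfl
theorem F225 : act 2 n171 = n116 := d8_1 D171 (iv D116) (iv F156)
def n174 : Q := act 1 n115
theorem D174 : act 1 n115 = n174 := rfl
def n178 : Q := act 0 n118
theorem D178 : act 0 n118 = n178 := rfl
theorem F230 : act 1 n178 = n134 := d0_2 D118 D178 (iv D134) (iv D87) (iv D56) (iv D36) (iv F55) D50 D77
def n180 : Q := act 3 n118
theorem D180 : act 3 n118 = n180 := rfl
theorem F232 : act 1 n180 = n119 := d5_1 D180 (iv D119) D118
def n182 : Q := act 2 n119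
theorem D182 : act 2 n119 = n182 := rfl
def n185 : Q := act 3 n121
theorem D185 : act 3 n121 = n185 := rfl
def n186 : Q := act 4 n121
theorem D186 : act 4 n121 = n186 := rfl
theorem F237 : act 2 n186 = n122 := d8_1 D186 (iv D122) D121
def n187 : Q := act 3 n122
theorem D187 : act 3 n122 = n187 := rfl
theorem F238 : act 1 n187 = n124 := d5_1 D187 (iv D124) (iv F163)
theorem F239 : act 4 n187 = n123 := d9_2 D122 D187 (iv D123) (iv D79) D78
def n188 : Q := act 2 n123
theorem D188 : act 2 n123 = n188 := rfl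
def n189 : Q := act 2 n124
theorem D189 : act 2 n124 = n189 := rfl
theorem F240 : act 0 n189 = n145 := d1_1 D189 (iv D145) (iv F165)
theorem F241 : act 4 n189 = n125 := d8_2 (iv F166) D189 (iv D125)
def n190 : Q := act 1 n125
theorem D190 : act 1 n125 = n190 := rfl
theorem F242 : act 3 n190 = n146 := d5_2 (iv F168) D190 (iv D146)
def n191 : Q := act 0 n126
theorem D191 : act 0 n126 = n191 := rfl
def n193 : Q := act 3 n126
theorem D193 : act 3 n126 = n193 := rfl
theorem F244 : act 1 n193 = n127 := d5_1 D193 (iv D127) D126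
def n195 : Q := act 2 n127
theorem D195 : act 2 n127 = n195 := rfl
theorem F246 : act 0 n195 = n129 := d1_1 D195 (iv D129) (iv F169)
def n196 : Q := act 4 n127
theorem D196 : act 4 n127 = n196 := rfl
theorem F247 : act 0 n196 = n130 := d3_1 D196 (iv D130) (iv F169)
def n197 : Q := act 3 n128
theorem D197 : act 3 n128 = n197 := rfl
theorem F248 : act 0 n197 = n131 := d2_1 D197 (iv D131) (iv F170)
def n198 : Q := act 3 n129
theorem D198 : act 3 n129 = n198 := rfl
theorem F249 : act 1 n198 = n185 := d5_1 D198 (iv D185) (iv F172)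
def n199 : Q := act 4 n129
theorem D199 : act 4 n129 = n199 := rfl
theorem F250 : act 1 n199 = n186 := d6_1 D199 (iv D186) (iv F172)
def n200 : Q := act 3 n130
theorem D200 : act 3 n130 = n200 := rfl
theorem F253 : act 4 n200 = n131 := d9_2 D130 D200 (iv D131) (iv D84) D83
def n201 : Q := act 2 n131
theorem D201 : act 2 n131 = n201 := rfl
def n202 : Q := act 2 n132
theorem D202 : act 2 n132 = n202 := rfl
theorem F254 : act 4 n202 = n133 := d8_2 (iv F175) D202 (iv D133)
def n204 : Q := act 2 n134
theorem D204 : act 2 n134 = n204 := rfl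
theorem F255 : act 0 n204 = n135 := d1_1 D204 (iv D135) D134
def n205 : Q := act 3 n134
theorem D205 : act 3 n134 = n205 := rfl
theorem F256 : act 0 n205 = n136 := d2_1 D205 (iv D136) D134
theorem F257 : act 2 n142 = n205 := d1_0 F256 (iv F178) D142
def n207 : Q := act 3 n135
theorem D207 : act 3 n135 = n207 := rfl
theorem F259 : act 1 n207 = n147 := d5_1 D207 (iv D147) (iv F176)
def n208 : Q := act 4 n135
theorem D208 : act 4 n135 = n208 := rfl
theorem F260 : act 1 n208 = n148 := d6_1 D208 (iv D148) (iv F176)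
theorem F261 : act 2 n208 = n137 := d8_1 D208 (iv D137) D135
def n209 : Q := act 4 n136
theorem D209 : act 4 n136 = n209 := rfl
theorem F262 : act 1 n209 = n138 := d6_1 D209 (iv D138) (iv F177)
def n210 : Q := act 3 n137
theorem D210 : act 3 n137 = n210 := rfl
theorem F264 : act 1 n210 = n139 := d5_1 D210 (iv D139) (iv F179)
def n211 : Q := act 3 n138
theorem D211 : act 3 n138 = n211 := rfl
theorem F265 : act 0 n211 = n140 := d2_1 D211 (iv D140) (iv F180)
theorem F266 : act 4 n211 = n139 := d9_2 D138 D211 (iv D139) (iv D89) D88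
def n212 : Q := act 2 n139
theorem D212 : act 2 n139 = n212 := rfl
theorem F267 : act 0 n212 = n141 := d1_1 D212 (iv D141) (iv F182)
def n213 : Q := act 2 n140
theorem D213 : act 2 n140 = n213 := rfl
theorem F268 : act 4 n213 = n141 := d8_2 (iv F184) D213 (iv D141)
def n214 : Q := act 1 n141
theorem D214 : act 1 n141 = n214 := rfl
theorem F269 : act 2 n214 = n146 := d4_2 D141 D214 (iv D146) (iv D95) (iv F126)
def n215 : Q := act 3 n141
theorem D215 : act 3 n141 = n215 := rfl
def n216 : Q := act 1 n142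
theorem D216 : act 1 n142 = n216 := rfl
theorem F270 : act 3 n216 = n174 := d5_2 (iv F185) D216 (iv D174)
def n220 : Q := act 1 n145
theorem D220 : act 1 n145 = n220 := rfl
theorem F276 : act 4 n220 = n146 := d6_2 (iv F189) D220 (iv D146)
def n221 : Q := act 3 n145
theorem D221 : act 3 n145 = n221 := rfl
def n222 : Q := act 0 n146
theorem D222 : act 0 n146 = n222 := rfl
def n223 : Q := act 2 n147
theorem D223 : act 2 n147 = n223 := rfl
def n225 : Q := act 3 n148
theorem D225 : act 3 n148 = n225 := rfl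
theorem F279 : act 0 n225 = n225 := d2_1 D225 (iv D225) F191
def n226 : Q := act 3 n149
theorem D226 : act 3 n149 = n226 := rfl
theorem F280 : act 0 n226 = n226 := d2_1 D226 (iv D226) F193
theorem F281 : act 1 n226 = n226 := d5_1 D226 (iv D226) F194
def n227 : Q := act 4 n149
theorem D227 : act 4 n149 = n227 := rfl
theorem F282 : act 0 n227 = n227 := d3_1 D227 (iv D227) F193
theorem F283 : act 1 n227 = n227 := d6_1 D227 (iv D227) F194
theorem F284 : act 2 n227 = n150 := d8_1 D227 (iv D150) D149
def n228 : Q := act 3 n150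
theorem D228 : act 3 n150 = n228 := rfl
theorem F285 : act 0 n228 = n228 := d2_1 D228 (iv D228) F195
theorem F286 : act 1 n228 = n152 := d5_1 D228 (iv D152) (iv F196)
theorem F287 : act 4 n228 = n151 := d9_2 D150 D228 (iv D151) (iv D98) D97
def n229 : Q := act 2 n151
theorem D229 : act 2 n151 = n229 := rfl
theorem F288 : act 0 n229 = n229 := d1_1 D229 (iv D229) F197
def n230 : Q := act 2 n152
theorem D230 : act 2 n152 = n230 := rfl
theorem F289 : act 0 n230 = n154 := d1_1 D230 (iv D154) (iv F199)
theorem F290 : act 4 n230 = n153 := d8_2 (iv F200) D230 (iv D153)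
def n231 : Q := act 1 n153
theorem D231 : act 1 n153 = n231 := rfl
def n232 : Q := act 3 n153
theorem D232 : act 3 n153 = n232 := rfl
theorem F291 : act 0 n232 = n156 := d2_1 D232 (iv D156) (iv F201)
theorem F292 : act 2 n232 = n215 := d10_2 D153 D232 (iv D215) (iv D141) (iv D91) F87 D66 (iv F138)
def n233 : Q := act 1 n154
theorem D233 : act 1 n154 = n233 := rfl
theorem F293 : act 2 n233 = n157 := d4_2 D154 D233 (iv D157) (iv D103) (iv F139)
theorem F294 : act 4 n233 = n155 := d6_2 (iv F202) D233 (iv D155)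
def n234 : Q := act 3 n154
theorem D234 : act 3 n154 = n234 := rfl
def n235 : Q := act 0 n155
theorem D235 : act 0 n155 = n235 := rfl
theorem F295 : act 2 n235 = n159 := d1_2 (iv F203) D235 (iv D159)
def n236 : Q := act 3 n155
theorem D236 : act 3 n155 = n236 := rfl
theorem F296 : act 1 n236 = n156 := d5_1 D236 (iv D156) D155
def n237 : Q := act 2 n156
theorem D237 : act 2 n156 = n237 := rfl
theorem F297 : act 0 n237 = n215 := d1_1 D237 (iv F292) F291
theorem F298 : act 3 n237 = n212 := d7_2 D156 D237 (iv D212) (iv D139) F124 D100 D153 D232 F292 (iv D215) (iv D141) (iv D91) F87 D66 D102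
def n238 : Q := act 4 n156
theorem D238 : act 4 n156 = n238 := rfl
def n239 : Q := act 0 n157
theorem D239 : act 0 n157 = n239 := rfl
theorem F299 : act 4 n239 = n159 := d3_2 (iv F204) D239 (iv D159)
def n240 : Q := act 3 n157
theorem D240 : act 3 n157 = n240 := rfl
theorem F300 : act 1 n240 = n158 := d5_1 D240 (iv D158) D157
theorem F301 : act 4 n240 = n161 := d9_2 (iv F204) D240 (iv D161) F145 (iv F143)
def n241 : Q := act 1 n159
theorem D241 : act 1 n159 = n241 := rfl
theorem F302 : act 3 n241 = n162 := d5_2 (iv F208) D241 (iv D162)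
def n242 : Q := act 1 n160
theorem D242 : act 1 n160 = n242 := rfl
theorem F303 : act 4 n242 = n162 := d6_2 (iv F210) D242 (iv D162)
def n243 : Q := act 3 n160
theorem D243 : act 3 n160 = n243 := rfl
theorem F304 : act 0 n243 = n161 := d2_1 D243 (iv D161) D160
def n244 : Q := act 2 n161
theorem D244 : act 2 n161 = n244 := rfl
theorem F305 : act 1 n244 = n244 := d4_1 D244 (iv D244) F211 F146 (iv F211)
def n245 : Q := act 0 n162
theorem D245 : act 0 n162 = n245 := rfl
def n246 : Q := act 2 n162
theorem D246 : act 2 n162 = n246 := rfl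
theorem F306 : act 1 n246 = n246 := d4_1 D246 (iv D246) (iv D162) F147 D162
def n252 : Q := act 0 n166
theorem D252 : act 0 n166 = n252 := rfl
def n253 : Q := act 3 n166
theorem D253 : act 3 n166 = n253 := rfl
theorem F315 : act 1 n253 = n167 := d5_1 D253 (iv D167) D166
def n257 : Q := act 1 n169
theorem D257 : act 1 n169 = n257 := rfl
def n258 : Q := act 3 n169
theorem D258 : act 3 n169 = n258 := rfl
theorem F320 : act 0 n258 = n170 := d2_1 D258 (iv D170) D169
theorem F321 : act 2 n258 = n207 := d10_2 (iv F222) D258 (iv D207) (iv D135) D136 (iv F178) F127 D115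
def n259 : Q := act 4 n169
theorem D259 : act 4 n169 = n259 := rfl
theorem F322 : act 0 n259 = n171 := d3_1 D259 (iv D171) D169
def n260 : Q := act 2 n170
theorem D260 : act 2 n170 = n260 := rfl
theorem F324 : act 0 n260 = n207 := d1_1 D260 (iv F321) F320
def n265 : Q := act 0 n174
theorem D265 : act 0 n174 = n265 := rfl
def n266 : Q := act 2 n174
theorem D266 : act 2 n174 = n266 := rfl
def n272 : Q := act 3 n178
theorem D272 : act 3 n178 = n272 := rfl
theorem F334 : act 0 n272 = n180 := d2_1 D272 (iv D180) D178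
theorem F335 : act 1 n272 = n205 := d5_1 D272 (iv D205) (iv F230)
def n276 : Q := act 2 n180
theorem D276 : act 2 n180 = n276 := rfl
def n279 : Q := act 1 n182
theorem D279 : act 1 n182 = n279 := rfl
def n280 : Q := act 3 n182
theorem D280 : act 3 n182 = n280 := rfl
theorem F344 : act 2 n280 = n185 := d10_2 D182 D280 (iv D185) (iv D121) (iv D78) F77 D78 (iv F160)
def n284 : Q := act 4 n185
theorem D284 : act 4 n185 = n284 := rfl
def n285 : Q := act 3 n186
theorem D285 : act 3 n186 = n285 := rfl
def n286 : Q := act 2 n187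
theorem D286 : act 2 n187 = n286 := rfl
theorem F350 : act 4 n286 = n188 := d8_2 (iv F239) D286 (iv D188)
def n287 : Q := act 1 n188
theorem D287 : act 1 n188 = n287 := rfl
theorem F351 : act 2 n287 = n190 := d4_2 D188 D287 (iv D190) (iv D125) (iv F164)
def n288 : Q := act 3 n188
theorem D288 : act 3 n188 = n288 := rfl
def n289 : Q := act 1 n189
theorem D289 : act 1 n189 = n289 := rfl
theorem F352 : act 4 n289 = n190 := d6_2 (iv F241) D289 (iv D190)
def n290 : Q := act 3 n189
theorem D290 : act 3 n189 = n290 := rfl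
theorem F353 : act 0 n290 = n221 := d2_1 D290 (iv D221) (iv F240)
theorem F354 : act 4 n290 = n221 := d9_2 (iv F241) D290 (iv D221) F189 (iv F168)
def n291 : Q := act 0 n190
theorem D291 : act 0 n190 = n291 := rfl
theorem F355 : act 3 n291 = n222 := d2_2 (iv F242) D291 (iv D222)
def n293 : Q := act 3 n191
theorem D293 : act 3 n191 = n293 := rfl
theorem F357 : act 0 n293 = n193 := d2_1 D293 (iv D193) D191
def n300 : Q := act 1 n195
theorem D300 : act 1 n195 = n300 := rfl
def n301 : Q := act 3 n195
theorem D301 : act 3 n195 = n301 := rfl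
theorem F364 : act 0 n301 = n198 := d2_1 D301 (iv D198) (iv F246)
theorem F365 : act 2 n301 = n198 := d10_2 D195 D301 (iv D198) (iv D129) (iv D83) F81 D83 (iv F169)
def n302 : Q := act 4 n195
theorem D302 : act 4 n195 = n302 := rfl
theorem F366 : act 0 n302 = n199 := d3_1 D302 (iv D199) (iv F246)
def n303 : Q := act 3 n196
theorem D303 : act 3 n196 = n303 := rfl
theorem F368 : act 0 n303 = n200 := d2_1 D303 (iv D200) (iv F247)
def n304 : Q := act 2 n197
theorem D304 : act 2 n197 = n304 := rfl
theorem F370 : act 0 n304 = n201 := d1_1 D304 (iv D201) (iv F248)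
def n307 : Q := act 2 n200
theorem D307 : act 2 n200 = n307 := rfl
theorem F373 : act 4 n307 = n201 := d8_2 (iv F253) D307 (iv D201)
def n309 : Q := act 3 n201
theorem D309 : act 3 n201 = n309 := rfl
def n311 : Q := act 3 n202
theorem D311 : act 3 n202 = n311 := rfl
theorem F376 : act 2 n311 = n221 := d10_2 D202 D311 (iv D221) (iv D145) (iv D94) (iv F129) D144 F187
def n313 : Q := act 1 n204
theorem D313 : act 1 n204 = n313 := rfl
def n319 : Q := act 3 n209
theorem D319 : act 3 n209 = n319 := rfl
theorem F384 : act 1 n319 = n211 := d5_1 D319 (iv D211) (iv F262)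
theorem F385 : act 4 n319 = n210 := d9_2 D209 D319 (iv D210) (iv D137) D136
def n320 : Q := act 2 n210
theorem D320 : act 2 n210 = n320 := rfl
def n321 : Q := act 2 n211
theorem D321 : act 2 n211 = n321 := rfl
theorem F386 : act 0 n321 = n213 := d1_1 D321 (iv D213) (iv F265)
theorem F387 : act 4 n321 = n212 := d8_2 (iv F266) D321 (iv D212)
def n322 : Q := act 1 n212
theorem D322 : act 1 n212 = n322 := rfl
def n323 : Q := act 1 n213
theorem D323 : act 1 n213 = n323 := rfl
theorem F388 : act 2 n323 = n220 := d4_2 D213 D323 (iv D220) (iv D145) (iv F183)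
theorem F389 : act 4 n323 = n214 := d6_2 (iv F268) D323 (iv D214)
def n324 : Q := act 3 n213
theorem D324 : act 3 n213 = n324 := rfl
theorem F390 : act 2 n324 = n324 := d10_2 D213 D324 (iv D324) (iv D213) (iv D140) (iv F181) D211 F265
def n325 : Q := act 0 n214
theorem D325 : act 0 n214 = n325 := rfl
theorem F391 : act 2 n325 = n222 := d1_2 (iv F269) D325 (iv D222)
def n326 : Q := act 3 n214
theorem D326 : act 3 n214 = n326 := rfl
theorem F392 : act 1 n326 = n215 := d5_1 D326 (iv D215) D214
def n327 : Q := act 4 n215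
theorem D327 : act 4 n215 = n327 := rfl
def n328 : Q := act 0 n216
theorem D328 : act 0 n216 = n328 := rfl
theorem F393 : act 1 n328 = n293 := d0_2 D216 D328 F357 F244 F169 F117 (iv F88) D92 D142
theorem F394 : act 3 n328 = n265 := d2_2 (iv F270) D328 (iv D265)
def n329 : Q := act 2 n216
theorem D329 : act 2 n216 = n329 := rfl
def n335 : Q := act 0 n220
theorem D335 : act 0 n220 = n335 := rfl
theorem F403 : act 4 n335 = n222 := d3_2 (iv F276) D335 (iv D222)
def n336 : Q := act 3 n220
theorem D336 : act 3 n220 = n336 := rfl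
theorem F404 : act 1 n336 = n221 := d5_1 D336 (iv D221) D220
def n337 : Q := act 1 n222
theorem D337 : act 1 n222 = n337 := rfl
def n338 : Q := act 1 n223
theorem D338 : act 1 n223 = n338 := rfl
def n339 : Q := act 3 n223
theorem D339 : act 3 n223 = n339 := rfl
theorem F406 : act 2 n339 = n226 := d10_2 D223 D339 (iv D226) (iv D149) (iv D97) D96 D147 F190
def n342 : Q := act 2 n225
theorem D342 : act 2 n225 = n342 := rfl
def n343 : Q := act 4 n226
theorem D343 : act 4 n226 = n343 := rfl
def n344 : Q := act 3 n227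
theorem D344 : act 3 n227 = n344 := rfl
def n345 : Q := act 2 n228
theorem D345 : act 2 n228 = n345 := rfl
theorem F416 : act 0 n345 = n345 := d1_1 D345 (iv D345) F285
theorem F417 : act 4 n345 = n229 := d8_2 (iv F287) D345 (iv D229)
def n346 : Q := act 1 n229
theorem D346 : act 1 n229 = n346 := rfl
theorem F418 : act 2 n346 = n231 := d4_2 D229 D346 (iv D231) (iv D153) (iv F198)
def n347 : Q := act 3 n229
theorem D347 : act 3 n229 = n347 := rfl
theorem F419 : act 0 n347 = n347 := d2_1 D347 (iv D347) F288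
def n348 : Q := act 1 n230
theorem D348 : act 1 n230 = n348 := rfl
theorem F420 : act 4 n348 = n231 := d6_2 (iv F290) D348 (iv D231)
def n349 : Q := act 3 n230
theorem D349 : act 3 n230 = n349 := rfl
theorem F421 : act 0 n349 = n234 := d2_1 D349 (iv D234) (iv F289)
theorem F422 : act 2 n349 = n234 := d10_2 D230 D349 (iv D234) (iv D154) (iv D101) F95 D101 (iv F199)
def n350 : Q := act 0 n231
theorem D350 : act 0 n231 = n350 := rfl
def n351 : Q := act 3 n231
theorem D351 : act 3 n231 = n351 := rfl
theorem F423 : act 1 n351 = n232 := d5_1 D351 (iv D232) D231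
def n352 : Q := act 4 n232
theorem D352 : act 4 n232 = n352 := rfl
theorem F424 : act 0 n352 = n238 := d3_1 D352 (iv D238) (iv F291)
theorem F425 : act 2 n352 = n327 := d8_1 D352 (iv D327) (iv F292)
def n353 : Q := act 0 n233
theorem D353 : act 0 n233 = n353 := rfl
theorem F426 : act 2 n353 = n239 := d1_2 (iv F293) D353 (iv D239)
theorem F427 : act 4 n353 = n235 := d3_2 (iv F294) D353 (iv D235)
def n354 : Q := act 3 n233
theorem D354 : act 3 n233 = n354 := rfl
theorem F428 : act 1 n354 = n234 := d5_1 D354 (iv D234) D233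
def n355 : Q := act 4 n234
theorem D355 : act 4 n234 = n355 := rfl
theorem F429 : act 3 n355 = n238 := d9_1 D355 (iv D238) (iv D156) (iv F202) D234
def n356 : Q := act 1 n235
theorem D356 : act 1 n235 = n356 := rfl
def n357 : Q := act 3 n235
theorem D357 : act 3 n235 = n357 := rfl
theorem F430 : act 0 n357 = n236 := d2_1 D357 (iv D236) D235
theorem F431 : act 2 n357 = n236 := d10_2 (iv F295) D357 (iv D236) F203 F143 F102 (iv F143) D159
def n358 : Q := act 4 n236
theorem D358 : act 4 n236 = n358 := rfl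
def n359 : Q := act 1 n237
theorem D359 : act 1 n237 = n359 := rfl
theorem F433 : act 3 n359 = n322 := d5_2 (iv F298) D359 (iv D322)
def n360 : Q := act 4 n237
theorem D360 : act 4 n237 = n360 := rfl
theorem F434 : act 0 n360 = n327 := d3_1 D360 (iv D327) (iv F297)
theorem F435 : act 2 n360 = n238 := d8_1 D360 (iv D238) D237
def n361 : Q := act 1 n239
theorem D361 : act 1 n239 = n361 := rfl
theorem F436 : act 4 n361 = n241 := d6_2 (iv F299) D361 (iv D241)
def n362 : Q := act 3 n239
theorem D362 : act 3 n239 = n362 := rfl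
theorem F437 : act 0 n362 = n240 := d2_1 D362 (iv D240) D239
theorem F438 : act 4 n362 = n243 := d9_2 (iv F299) D362 (iv D243) F210 (iv F208)
def n363 : Q := act 2 n240
theorem D363 : act 2 n240 = n363 := rfl
theorem F439 : act 1 n363 = n363 := d4_1 D363 (iv D363) F300 F206 (iv F300)
theorem F440 : act 4 n363 = n244 := d8_2 (iv F301) D363 (iv D244)
def n364 : Q := act 0 n241
theorem D364 : act 0 n241 = n364 := rfl
theorem F441 : act 1 n364 = n245 := d0_2 D241 D364 (iv D245) (iv D162) (iv D107) (iv D70) (iv F99) D104 D159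
theorem F442 : act 3 n364 = n245 := d2_2 (iv F302) D364 (iv D245)
def n365 : Q := act 2 n241
theorem D365 : act 2 n241 = n365 := rfl
def n366 : Q := act 0 n242
theorem D366 : act 0 n242 = n366 := rfl
theorem F443 : act 4 n366 = n245 := d3_2 (iv F303) D366 (iv D245)
def n367 : Q := act 2 n242
theorem D367 : act 2 n242 = n367 := rfl
theorem F444 : act 1 n367 = n367 := d4_1 D367 (iv D367) (iv D242) F209 D242
theorem F445 : act 4 n367 = n246 := d8_2 (iv F303) D367 (iv D246)
def n368 : Q := act 3 n242
theorem D368 : act 3 n242 = n368 := rfl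
theorem F446 : act 1 n368 = n243 := d5_1 D368 (iv D243) D242
def n369 : Q := act 2 n243
theorem D369 : act 2 n243 = n369 := rfl
theorem F447 : act 0 n369 = n244 := d1_1 D369 (iv D244) (iv F304)
def n370 : Q := act 3 n244
theorem D370 : act 3 n244 = n370 := rfl
theorem F448 : act 1 n370 = n370 := d5_1 D370 (iv D370) F305
def n371 : Q := act 2 n245
theorem D371 : act 2 n245 = n371 := rfl
theorem F449 : act 0 n371 = n246 := d1_1 D371 (iv D246) D245
def n372 : Q := act 3 n246
theorem D372 : act 3 n246 = n372 := rfl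
theorem F450 : act 1 n372 = n372 := d5_1 D372 (iv D372) F306
def n381 : Q := act 1 n252
theorem D381 : act 1 n252 = n381 := rfl
def n382 : Q := act 3 n252
theorem D382 : act 3 n252 = n382 := rfl
theorem F462 : act 0 n382 = n253 := d2_1 D382 (iv D253) D252
def n384 : Q := act 2 n253
theorem D384 : act 2 n253 = n384 := rfl
theorem F464 : act 1 n384 = n260 := d4_1 D384 (iv D260) F223 (iv F219) (iv F315)
def n389 : Q := act 0 n257
theorem D389 : act 0 n257 = n389 := rfl
def n390 : Q := act 2 n257
theorem D390 : act 2 n257 = n390 := rfl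
theorem F472 : act 1 n390 = n266 := d4_1 D390 (iv D266) (iv D174) (iv F222) D257
def n391 : Q := act 3 n257
theorem D391 : act 3 n257 = n391 := rfl
theorem F473 : act 1 n391 = n258 := d5_1 D391 (iv D258) D257
theorem F474 : act 2 n338 = n391 := d4_0 F473 F321 F259 D223 D338
def n392 : Q := act 4 n257
theorem D392 : act 4 n257 = n392 := rfl
theorem F475 : act 1 n392 = n259 := d6_1 D392 (iv D259) D257
def n400 : Q := act 2 n265
theorem D400 : act 2 n265 = n400 := rfl
theorem F484 : act 0 n400 = n266 := d1_1 D400 (iv D266) D265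
def n402 : Q := act 3 n266
theorem D402 : act 3 n266 = n402 := rfl
def n412 : Q := act 2 n272
theorem D412 : act 2 n272 = n412 := rfl
theorem F496 : act 0 n412 = n276 := d1_1 D412 (iv D276) (iv F334)
theorem F497 : act 1 n412 = n329 := d4_1 D412 (iv D329) (iv D216) F257 (iv F335)
def n418 : Q := act 1 n276
theorem D418 : act 1 n276 = n418 := rfl
theorem F504 : act 2 n418 = n279 := d4_2 D276 D418 (iv D279) (iv D182) (iv F232)
def n424 : Q := act 3 n279
theorem D424 : act 3 n279 = n424 := rfl
theorem F508 : act 1 n424 = n280 := d5_1 D424 (iv D280) D279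
def n431 : Q := act 3 n284
theorem D431 : act 3 n284 = n431 := rfl
theorem F517 : act 4 n431 = n285 := d9_2 D284 D431 (iv D285) (iv D186) D185
def n433 : Q := act 1 n286
theorem D433 : act 1 n286 = n433 := rfl
theorem F518 : act 2 n433 = n289 := d4_2 D286 D433 (iv D289) (iv D189) (iv F238)
theorem F519 : act 4 n433 = n287 := d6_2 (iv F350) D433 (iv D287)
def n434 : Q := act 3 n286
theorem D434 : act 3 n286 = n434 := rfl
def n435 : Q := act 0 n287
theorem D435 : act 0 n287 = n435 := rfl
theorem F520 : act 2 n435 = n291 := d1_2 (iv F351) D435 (iv D291)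
def n436 : Q := act 3 n287
theorem D436 : act 3 n287 = n436 := rfl
theorem F521 : act 1 n436 = n288 := d5_1 D436 (iv D288) D287
def n437 : Q := act 4 n288
theorem D437 : act 4 n288 = n437 := rfl
def n438 : Q := act 0 n289
theorem D438 : act 0 n289 = n438 := rfl
theorem F522 : act 4 n438 = n291 := d3_2 (iv F352) D438 (iv D291)
def n439 : Q := act 3 n289
theorem D439 : act 3 n289 = n439 := rfl
theorem F523 : act 1 n439 = n290 := d5_1 D439 (iv D290) D289
theorem F524 : act 4 n439 = n336 := d9_2 (iv F352) D439 (iv D336) F276 (iv F242)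
def n440 : Q := act 1 n291
theorem D440 : act 1 n291 = n440 := rfl
theorem F525 : act 3 n440 = n337 := d5_2 (iv F355) D440 (iv D337)
def n456 : Q := act 3 n300
theorem D456 : act 3 n300 = n456 := rfl
theorem F538 : act 1 n456 = n301 := d5_1 D456 (iv D301) D300
theorem F539 : act 2 n424 = n456 := d4_0 F538 F365 F249 (iv F344) (iv F508)
def n460 : Q := act 2 n303
theorem D460 : act 2 n303 = n460 := rfl
theorem F544 : act 0 n460 = n307 := d1_1 D460 (iv D307) (iv F368)
def n462 : Q := act 3 n304
theorem D462 : act 3 n304 = n462 := rfl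
theorem F546 : act 0 n462 = n309 := d2_1 D462 (iv D309) (iv F370)
theorem F547 : act 2 n462 = n309 := d10_2 D304 D462 (iv D309) (iv D201) (iv D131) F119 D131 (iv F248)
def n473 : Q := act 0 n313
theorem D473 : act 0 n313 = n473 := rfl
theorem F556 : act 1 n473 = n473 := d0_2 D313 D473 (iv D473) (iv D313) F255 F176 F131 (iv F176) (iv F255)
def n481 : Q := act 1 n320
theorem D481 : act 1 n320 = n481 := rfl
theorem F565 : act 2 n481 = n322 := d4_2 D320 D481 (iv D322) (iv D212) (iv F264)
def n483 : Q := act 1 n321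
theorem D483 : act 1 n321 = n483 := rfl
theorem F566 : act 4 n483 = n322 := d6_2 (iv F387) D483 (iv D322)
def n484 : Q := act 3 n321
theorem D484 : act 3 n321 = n484 := rfl
theorem F567 : act 0 n484 = n324 := d2_1 D484 (iv D324) (iv F386)
theorem F568 : act 2 n484 = n484 := d7_1 D484 (iv D484) (iv D321) (iv D211) F181 D140 D213 D324 F390 (iv D324) (iv D213) (iv D140) (iv F181) D211 D321
def n485 : Q := act 0 n322
theorem D485 : act 0 n322 = n485 := rfl
def n486 : Q := act 0 n323
theorem D486 : act 0 n323 = n486 := rfl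
theorem F569 : act 2 n486 = n335 := d1_2 (iv F388) D486 (iv D335)
theorem F570 : act 4 n486 = n325 := d3_2 (iv F389) D486 (iv D325)
def n487 : Q := act 3 n323
theorem D487 : act 3 n323 = n487 := rfl
theorem F571 : act 1 n487 = n324 := d5_1 D487 (iv D324) D323
def n488 : Q := act 4 n324
theorem D488 : act 4 n324 = n488 := rfl
theorem F572 : act 2 n488 = n488 := d8_1 D488 (iv D488) F390
theorem F573 : act 3 n488 = n327 := d9_1 D488 (iv D327) (iv D215) (iv F268) D324
def n489 : Q := act 1 n325
theorem D489 : act 1 n325 = n489 := rfl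
def n490 : Q := act 3 n325
theorem D490 : act 3 n325 = n490 := rfl
theorem F574 : act 0 n490 = n326 := d2_1 D490 (iv D326) D325
def n491 : Q := act 2 n326
theorem D491 : act 2 n326 = n491 := rfl
def n492 : Q := act 4 n326
theorem D492 : act 4 n326 = n492 := rfl
theorem F575 : act 1 n492 = n327 := d6_1 D492 (iv D327) (iv F392)
def n493 : Q := act 2 n328
theorem D493 : act 2 n328 = n493 := rfl
theorem F576 : act 0 n493 = n329 := d1_1 D493 (iv D329) D328
def n503 : Q := act 1 n335
theorem D503 : act 1 n335 = n503 := rfl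
theorem F589 : act 4 n503 = n337 := d6_2 (iv F403) D503 (iv D337)
def n504 : Q := act 3 n335
theorem D504 : act 3 n335 = n504 := rfl
theorem F590 : act 0 n504 = n336 := d2_1 D504 (iv D336) D335
def n505 : Q := act 2 n336
theorem D505 : act 2 n336 = n505 := rfl
def n506 : Q := act 0 n337
theorem D506 : act 0 n337 = n506 := rfl
def n507 : Q := act 2 n337
theorem D507 : act 2 n337 = n507 := rfl
def n509 : Q := act 3 n338
theorem D509 : act 3 n338 = n509 := rfl
theorem F591 : act 1 n509 = n339 := d5_1 D509 (iv D339) D338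
theorem F592 : act 2 n509 = n509 := d4_0 F591 F406 F281 (iv F406) (iv F591)
theorem E1 : n390 = n389 := ((c10_9 (iv D390) D391 (iv F474) D509 F592 (iv D509) F474 (iv D391) D389)).symm
theorem F593 : act 1 n389 = n266 := (sb E1 F472)
theorem E2 : n400 = n381 := (c0_2 F593 (iv F484) (iv D381) (iv D252) (iv D166) F153 D112 D169 D257 D389)
theorem F595 : act 0 n381 = n266 := (sb E2 F484)
theorem F596 : act 2 n381 = n265 := (sb E2 (iv D400))
def n515 : Q := act 3 n342
theorem D515 : act 3 n342 = n515 := rfl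
theorem F605 : act 2 n515 = n347 := d10_2 D342 D515 (iv D347) (iv D229) (iv D151) (iv F192) D225 F279
def n518 : Q := act 1 n345
theorem D518 : act 1 n345 = n518 := rfl
theorem F610 : act 2 n518 = n348 := d4_2 D345 D518 (iv D348) (iv D230) (iv F286)
theorem F611 : act 4 n518 = n346 := d6_2 (iv F417) D518 (iv D346)
def n519 : Q := act 3 n345
theorem D519 : act 3 n345 = n519 := rfl
def n520 : Q := act 0 n346
theorem D520 : act 0 n346 = n520 := rfl
theorem F613 : act 2 n520 = n350 := d1_2 (iv F418) D520 (iv D350)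
def n521 : Q := act 3 n346
theorem D521 : act 3 n346 = n521 := rfl
theorem F614 : act 1 n521 = n347 := d5_1 D521 (iv D347) D346
def n522 : Q := act 4 n347
theorem D522 : act 4 n347 = n522 := rfl
def n523 : Q := act 0 n348
theorem D523 : act 0 n348 = n523 := rfl
theorem F616 : act 4 n523 = n350 := d3_2 (iv F420) D523 (iv D350)
def n524 : Q := act 3 n348
theorem D524 : act 3 n348 = n524 := rfl
theorem F617 : act 1 n524 = n349 := d5_1 D524 (iv D349) D348
def n525 : Q := act 4 n349
theorem D525 : act 4 n349 = n525 := rfl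
theorem F618 : act 0 n525 = n355 := d3_1 D525 (iv D355) (iv F421)
theorem F619 : act 2 n525 = n355 := d8_1 D525 (iv D355) (iv F422)
theorem F620 : act 3 n525 = n352 := d9_1 D525 (iv D352) (iv D232) (iv F290) D349
def n526 : Q := act 1 n350
theorem D526 : act 1 n350 = n526 := rfl
def n527 : Q := act 3 n350
theorem D527 : act 3 n350 = n527 := rfl
theorem F621 : act 0 n527 = n351 := d2_1 D527 (iv D351) D350
def n528 : Q := act 2 n351
theorem D528 : act 2 n351 = n528 := rfl
theorem F622 : act 1 n528 = n491 := d4_1 D528 (iv D491) F392 (iv F292) (iv F423)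
def n529 : Q := act 4 n351
theorem D529 : act 4 n351 = n529 := rfl
theorem F623 : act 1 n529 = n352 := d6_1 D529 (iv D352) (iv F423)
def n530 : Q := act 1 n353
theorem D530 : act 1 n353 = n530 := rfl
theorem F624 : act 4 n530 = n356 := d6_2 (iv F427) D530 (iv D356)
def n531 : Q := act 3 n353
theorem D531 : act 3 n353 = n531 := rfl
theorem F625 : act 0 n531 = n354 := d2_1 D531 (iv D354) D353
def n532 : Q := act 2 n354
theorem D532 : act 2 n354 = n532 := rfl
def n533 : Q := act 4 n354
theorem D533 : act 4 n354 = n533 := rfl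
theorem F627 : act 3 n533 = n358 := d9_1 D533 (iv D358) (iv D236) (iv F294) D354
def n535 : Q := act 2 n356
theorem D535 : act 2 n356 = n535 := rfl
theorem F628 : act 1 n535 = n365 := d4_1 D535 (iv D365) (iv D241) (iv F295) D356
def n536 : Q := act 3 n356
theorem D536 : act 3 n356 = n536 := rfl
theorem F629 : act 1 n536 = n357 := d5_1 D536 (iv D357) D356
theorem F630 : act 2 n359 = n536 := d4_0 F629 F431 F296 D237 D359
def n537 : Q := act 4 n357
theorem D537 : act 4 n357 = n537 := rfl
theorem F631 : act 0 n537 = n358 := d3_1 D537 (iv D358) (iv F430)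
def n538 : Q := act 0 n359
theorem D538 : act 0 n359 = n538 := rfl
theorem F633 : act 3 n538 = n485 := d2_2 (iv F433) D538 (iv D485)
def n539 : Q := act 4 n359
theorem D539 : act 4 n359 = n539 := rfl
theorem F634 : act 1 n539 = n360 := d6_1 D539 (iv D360) D359
def n540 : Q := act 3 n360
theorem D540 : act 3 n360 = n540 := rfl
theorem F637 : act 4 n540 = n484 := d9_2 D360 D540 (iv D484) F387 (iv F298)
def n541 : Q := act 0 n361
theorem D541 : act 0 n361 = n541 := rfl
theorem F638 : act 1 n541 = n366 := d0_2 D361 D541 (iv D366) (iv D242) (iv D160) (iv D105) (iv F141) D157 D239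
theorem F639 : act 4 n541 = n364 := d3_2 (iv F436) D541 (iv D364)
def n542 : Q := act 2 n361
theorem D542 : act 2 n361 = n542 := rfl
theorem F640 : act 4 n542 = n365 := d8_2 (iv F436) D542 (iv D365)
def n543 : Q := act 3 n361
theorem D543 : act 3 n361 = n543 := rfl
theorem F641 : act 1 n543 = n362 := d5_1 D543 (iv D362) D361
theorem F642 : act 4 n543 = n368 := d9_2 (iv F436) D543 (iv D368) F303 (iv F302)
def n544 : Q := act 2 n362
theorem D544 : act 2 n362 = n544 := rfl
theorem F643 : act 0 n544 = n363 := d1_1 D544 (iv D363) (iv F437)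
theorem F644 : act 4 n544 = n369 := d8_2 (iv F438) D544 (iv D369)
def n545 : Q := act 3 n363
theorem D545 : act 3 n363 = n545 := rfl
def n546 : Q := act 2 n364
theorem D546 : act 2 n364 = n546 := rfl
theorem F646 : act 0 n546 = n365 := d1_1 D546 (iv D365) D364
def n547 : Q := act 3 n365
theorem D547 : act 3 n365 = n547 := rfl
def n548 : Q := act 2 n366
theorem D548 : act 2 n366 = n548 := rfl
theorem F647 : act 0 n548 = n367 := d1_1 D548 (iv D367) D366
theorem F648 : act 4 n548 = n371 := d8_2 (iv F443) D548 (iv D371)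
def n549 : Q := act 3 n366
theorem D549 : act 3 n366 = n549 := rfl
theorem F649 : act 0 n549 = n368 := d2_1 D549 (iv D368) D366
def n550 : Q := act 3 n367
theorem D550 : act 3 n367 = n550 := rfl
theorem F650 : act 1 n550 = n550 := d5_1 D550 (iv D550) F444
def n551 : Q := act 2 n368
theorem D551 : act 2 n368 = n551 := rfl
def n552 : Q := act 1 n369
theorem D552 : act 1 n369 = n552 := rfl
def n553 : Q := act 3 n369
theorem D553 : act 3 n369 = n553 := rfl
theorem F651 : act 0 n553 = n370 := d2_1 D553 (iv D370) (iv F447)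
theorem F652 : act 2 n553 = n370 := d10_2 D369 D553 (iv D370) (iv D244) (iv D161) F144 D161 (iv F304)
def n554 : Q := act 4 n370
theorem D554 : act 4 n370 = n554 := rfl
def n555 : Q := act 1 n371
theorem D555 : act 1 n371 = n555 := rfl
def n556 : Q := act 3 n371
theorem D556 : act 3 n371 = n556 := rfl
theorem F654 : act 0 n556 = n372 := d2_1 D556 (iv D372) (iv F449)
def n557 : Q := act 2 n372
theorem D557 : act 2 n372 = n557 := rfl
def n558 : Q := act 4 n372
theorem D558 : act 4 n372 = n558 := rfl
theorem F655 : act 1 n558 = n558 := d6_1 D558 (iv D558) F450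
def n571 : Q := act 3 n381
theorem D571 : act 3 n381 = n571 := rfl
theorem F674 : act 0 n571 = n402 := d2_1 D571 (iv D402) (iv F595)
theorem F675 : act 1 n571 = n382 := d5_1 D571 (iv D382) D381
def n573 : Q := act 2 n382
theorem D573 : act 2 n382 = n573 := rfl
theorem F679 : act 0 n573 = n384 := d1_1 D573 (iv D384) (iv F462)
theorem F680 : act 1 n573 = n573 := d0_0 F679 F464 F324 F259 F190 (iv F259) (iv F324) (iv F464) (iv F679)
theorem F682 : act 2 n571 = n571 := d4_4 D573 F680 (iv D573) (iv F675) F675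
theorem E4 : n493 = n216 := (c10_5 F682 (iv D571) F596 (iv F394) D493 F270 D266 D402 (iv F674))
theorem E5 : n329 = n328 := (((D328).symm.trans (sb E4 F576))).symm
theorem E6 : n412 = n293 := (((F393).symm.trans (sb E5 (iv F497)))).symm
theorem E9 : n276 = n193 := (((F357).symm.trans (sb E6 F496))).symm
theorem E11 : n418 = n127 := (((F244).symm.trans (sb E9 D418))).symm
theorem E15 : n279 = n195 := (((D195).symm.trans (sb E11 F504))).symm
theorem E20 : n300 = n182 := ((D300).symm.trans (sb E15 (iv D279)))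
theorem E21 : n424 = n301 := (((D301).symm.trans (sb E15 D424))).symm
theorem E24 : n456 = n280 := (((D280).symm.trans (sb E20 D456))).symm
theorem E26 : n280 = n198 := (((F365).symm.trans (sb E21 (tr F539 E24)))).symm
theorem E27 : n456 = n198 := (E24).trans E26
theorem E28 : n301 = n185 := (((F249).symm.trans (sb E27 F538))).symm
theorem E29 : n182 = n129 := ((((iv D198)).symm.trans (sb E26 (iv D280)))).symm
theorem F691 : act 0 n185 = n198 := (sb E28 F364)
theorem F692 : act 2 n185 = n198 := (sb E28 F365)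
theorem E31 : n195 = n121 := ((((iv D185)).symm.trans (sb E28 (iv D301)))).symm
theorem E33 : n119 = n83 := ((((iv D129)).symm.trans (sb E29 (iv D182)))).symm
theorem F693 : act 0 n121 = n129 := (sb E31 F246)
theorem E35 : n127 = n78 := ((((iv D121)).symm.trans (sb E31 (iv D195)))).symm
theorem E36 : n302 = n186 := (((D186).symm.trans (sb E31 D302))).symm
theorem E37 : n180 = n54 := (((F117).symm.trans (sb E33 (iv F232)))).symm
theorem F696 : act 0 n78 = n83 := (sb E35 F169)
theorem E41 : n193 = n51 := (((F111).symm.trans (sb E35 (iv F244)))).symm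
theorem E42 : n82 = n50 := ((((iv D78)).symm.trans (sb E35 (iv D127)))).symm
theorem E43 : n196 = n122 := (((D122).symm.trans (sb E35 D196))).symm
theorem F697 : act 0 n186 = n199 := (sb E36 F366)
theorem E45 : n272 = n59 := ((((iv F88)).symm.trans (sb E37 (iv F334)))).symm
theorem E50 : n293 = n37 := (((F78).symm.trans (sb E41 (iv F357)))).symm
theorem F698 : act 0 n50 = n53 := (sb E42 (iv D82))
theorem E53 : n128 = n79 := (((D79).symm.trans (sb E42 D128))).symm
theorem F699 : act 0 n122 = n130 := (sb E43 F247)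
theorem E54 : n303 = n187 := (((D187).symm.trans (sb E43 D303))).symm
theorem E55 : n205 = n92 := (((D92).symm.trans (sb E45 F335))).symm
theorem E63 : n328 = n57 := ((((iv F85)).symm.trans (sb E50 (iv F393)))).symm
theorem F701 : act 0 n79 = n84 := (sb E53 F170)
theorem E69 : n197 = n123 := (((D123).symm.trans (sb E53 D197))).symm
theorem F702 : act 0 n187 = n200 := (sb E54 F368)
theorem E70 : n460 = n286 := (((D286).symm.trans (sb E54 D460))).symm
theorem E71 : n142 = n136 := ((D142).symm.trans (sb E55 F256))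
theorem E72 : n134 = n75 := (((F127).symm.trans (sb E55 (iv D205)))).symm
theorem E80 : n216 = n88 := ((((iv F121)).symm.trans (sb E63 (iv D328)))).symm
theorem E81 : n265 = n36 := ((((iv D57)).symm.trans (sb E63 F394))).symm
theorem F703 : act 0 n123 = n131 := (sb E69 F248)
theorem E88 : n304 = n188 := (((D188).symm.trans (sb E69 D304))).symm
theorem F704 : act 0 n286 = n307 := (sb E70 F544)
theorem E89 : n115 = n87 := ((((iv D136)).symm.trans (sb E71 F185))).symm
theorem E91 : n204 = n112 := ((((iv F156)).symm.trans (sb E72 D204))).symm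
theorem E104 : n174 = n56 := ((((iv D88)).symm.trans (sb E80 F270))).symm
theorem E106 : n381 = n25 := (((F61).symm.trans (sb E81 (iv F596)))).symm
theorem F706 : act 0 n188 = n201 := (sb E88 F370)
theorem E117 : n462 = n288 := (((D288).symm.trans (sb E88 D462))).symm
theorem E118 : n169 = n135 := (((D135).symm.trans (sb E89 (iv F222)))).symm
theorem E121 : n313 = n73 := ((((iv D112)).symm.trans (sb E91 D313))).symm
theorem E125 : n266 = n39 := (((F84).symm.trans (sb E104 D266))).symm
theorem E128 : n252 = n16 := ((((iv D25)).symm.trans (sb E106 (iv D381)))).symm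
theorem F709 : act 0 n288 = n309 := (sb E117 F546)
theorem F710 : act 2 n288 = n309 := (sb E117 F547)
theorem F711 : act 0 n135 = n112 := (sb E118 (iv D169))
theorem E134 : n257 = n96 := (((F176).symm.trans (sb E118 D257))).symm
theorem E135 : n258 = n207 := (((D207).symm.trans (sb E118 D258))).symm
theorem E136 : n259 = n208 := (((D208).symm.trans (sb E118 D259))).symm
theorem E139 : n473 = n110 := ((((iv F153)).symm.trans (sb E121 D473))).symm
theorem E145 : n389 = n62 := (((D62).symm.trans (sb E125 (iv F593)))).symm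
theorem E149 : n166 = n11 := (((F33).symm.trans (sb E128 (iv D252)))).symm
theorem E155 : n96 = n62 := ((F131).symm.trans (sb E134 (tr D389 E145)))
theorem E156 : n257 = n62 := (E134).trans E155
theorem E157 : n391 = n97 := (((D97).symm.trans (sb E156 D391))).symm
theorem E158 : n392 = n98 := (((D98).symm.trans (sb E156 D392))).symm
theorem E159 : n147 = n97 := ((F259).symm.trans (sb E135 (tr (iv F473) E157)))
theorem F717 : act 0 n208 = n171 := (sb E136 F322)
theorem E161 : n148 = n98 := ((F260).symm.trans (sb E136 (tr (iv F475) E158)))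
theorem E164 : n110 = n11 := (((E149).symm.trans ((D166).symm.trans (sb E139 (tr F556 E139))))).symm
theorem E176 : n135 = n39 := ((((iv D62)).symm.trans (sb E155 (iv F176)))).symm
theorem F721 : act 2 n62 = n62 := (sb E155 (iv D96))
theorem E179 : n223 = n149 := (((D149).symm.trans (sb E159 D223))).symm
theorem E181 : n208 = n64 := (((F135).symm.trans (sb E161 (iv F260)))).symm
theorem F724 : act 2 n98 = n98 := (sb E161 F192)
theorem E182 : n225 = n151 := (((D151).symm.trans (sb E161 D225))).symm
theorem E183 : n73 = n16 := ((((iv F33)).symm.trans (sb E164 F153))).symm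
theorem E195 : n112 = n25 := ((((iv D39)).symm.trans (sb E176 F711))).symm
theorem E196 : n87 = n56 := ((((iv F84)).symm.trans (sb E176 (iv D135)))).symm
theorem E202 : n339 = n226 := (((D226).symm.trans (sb E179 D339))).symm
theorem E205 : n171 = n41 := (((F93).symm.trans (sb E181 F717))).symm
theorem E206 : n137 = n89 := ((((iv F124)).symm.trans (sb E181 F261))).symm
theorem E208 : n342 = n229 := (((D229).symm.trans (sb E182 D342))).symm
theorem E209 : n47 = n10 := ((((iv D16)).symm.trans (sb E183 (iv D73)))).symm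
theorem E222 : n75 = n36 := ((((iv F61)).symm.trans (sb E195 F156))).symm
theorem F727 : act 1 n56 = n56 := (sb E196 (iv D87))
theorem E223 : n136 = n88 := (((D88).symm.trans (sb E196 D136))).symm
theorem F728 : act 2 n226 = n226 := (sb E202 F406)
theorem E229 : n116 = n58 := ((((iv F87)).symm.trans (sb E205 F225))).symm
theorem F729 : act 1 n89 = n89 := (sb E206 F179)
theorem E231 : n210 = n139 := (((D139).symm.trans (sb E206 D210))).symm
theorem E234 : n515 = n347 := (((D347).symm.trans (sb E208 D515))).symm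
theorem E235 : n31 = n15 := ((((iv F32)).symm.trans (sb E209 F73))).symm
theorem E244 : n48 = n23 := ((((iv D36)).symm.trans (sb E222 (iv D75)))).symm
theorem F730 : act 1 n88 = n88 := (sb E223 F177)
theorem E246 : n209 = n138 := (((D138).symm.trans (sb E223 D209))).symm
theorem E248 : n76 = n38 := (((F86).symm.trans (sb E229 F158))).symm
theorem F732 : act 1 n139 = n139 := (sb E231 F264)
theorem E251 : n320 = n212 := (((D212).symm.trans (sb E231 D320))).symm
theorem E252 : n319 = n211 := ((((iv F266)).symm.trans (sb E231 (iv F385)))).symm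
theorem F733 : act 2 n347 = n347 := (sb E234 F605)
theorem E253 : n22 = n21 := ((((iv F41)).symm.trans (sb E235 F54))).symm
theorem E262 : n34 = n32 := ((((iv F55)).symm.trans (sb E244 F74))).symm
theorem E263 : n59 = n37 := (((D37).symm.trans (sb E244 (iv F89)))).symm
theorem F734 : act 1 n138 = n138 := (sb E246 F262)
theorem E265 : n55 = n52 := ((((iv F79)).symm.trans (sb E248 F108))).symm
theorem E269 : n481 = n322 := (((D322).symm.trans (sb E251 D481))).symm
theorem F735 : act 1 n211 = n211 := (sb E252 F384)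
theorem E272 : n14 = n13 := ((((iv D21)).symm.trans (sb E253 (iv D22)))).symm
theorem E275 : n53 = n50 := (((D50).symm.trans (sb E262 D53))).symm
theorem E276 : n54 = n51 := (((D51).symm.trans (sb E262 D54))).symm
theorem F736 : act 2 n37 = n37 := (sb E263 (iv D59))
theorem E277 : n93 = n60 := (((D60).symm.trans (sb E263 D93))).symm
theorem E278 : n84 = n79 := ((((iv F112)).symm.trans (sb E265 (iv F118)))).symm
theorem E279 : n86 = n81 := (((D81).symm.trans (sb E265 D86))).symm
theorem F737 : act 2 n322 = n322 := (sb E269 F565)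
theorem F738 : act 2 n13 = n9 := (sb E272 (iv D14))
theorem F739 : act 0 n50 = n50 := (sb E275 (iv F698))
theorem E285 : n83 = n78 := (((D78).symm.trans (sb E275 D83))).symm
theorem F740 : act 2 n51 = n51 := (sb E276 F82)
theorem E286 : n85 = n80 := (((D80).symm.trans (sb E276 D85))).symm
theorem F741 : act 2 n60 = n60 := (sb E277 F129)
theorem F742 : act 0 n79 = n79 := (sb E278 (iv F701))
theorem E287 : n131 = n123 := (((D123).symm.trans (sb E278 D131))).symm
theorem E288 : n133 = n125 := (((D125).symm.trans (sb E279 D133))).symm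
theorem F743 : act 0 n78 = n78 := (sb E285 (iv F696))
theorem E294 : n129 = n121 := (((D121).symm.trans (sb E285 D129))).symm
theorem E295 : n130 = n122 := (((D122).symm.trans (sb E285 D130))).symm
theorem F744 : act 2 n80 = n80 := (sb E286 F120)
theorem F745 : act 0 n123 = n123 := (sb E287 (iv F703))
theorem E296 : n201 = n188 := (((D188).symm.trans (sb E287 D201))).symm
theorem E297 : n200 = n187 := ((((iv F239)).symm.trans (sb E287 (iv F253)))).symm
theorem E299 : n202 = n189 := ((((iv F241)).symm.trans (sb E288 (iv F254)))).symm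
theorem F746 : act 0 n121 = n121 := (sb E294 (iv F693))
theorem F747 : act 1 n121 = n121 := (sb E294 F172)
theorem E303 : n198 = n185 := (((D185).symm.trans (sb E294 D198))).symm
theorem E304 : n199 = n186 := (((D186).symm.trans (sb E294 D199))).symm
theorem F748 : act 0 n122 = n122 := (sb E295 (iv F699))
theorem F749 : act 0 n188 = n188 := (sb E296 (iv F706))
theorem E306 : n309 = n288 := (((D288).symm.trans (sb E296 D309))).symm
theorem E307 : n307 = n286 := ((((iv F350)).symm.trans (sb E296 (iv F373)))).symm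
theorem F750 : act 0 n187 = n187 := (sb E297 (iv F702))
theorem E310 : n311 = n290 := (((D290).symm.trans (sb E299 D311))).symm
theorem F751 : act 0 n185 = n185 := (sb E303 (iv F691))
theorem F752 : act 1 n185 = n185 := (sb E303 F249)
theorem F753 : act 2 n185 = n185 := (sb E303 (iv F692))
theorem F754 : act 0 n186 = n186 := (sb E304 (iv F697))
theorem F755 : act 1 n186 = n186 := (sb E304 F250)
theorem F756 : act 0 n288 = n288 := (sb E306 (iv F709))
theorem F757 : act 2 n288 = n288 := (sb E306 (iv F710))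
theorem F758 : act 0 n286 = n286 := (sb E307 (iv F704))
theorem F759 : act 2 n290 = n221 := (sb E310 F376)
theorem F771 : act 2 n550 = n487 := d11_45 F29 D21 D32 D51 F740 (iv F111) (iv D78) F77 D78 D121 F747 D185 F753 (iv D185) (iv D121) F111 (iv D51) (iv D32) (iv D21) F738 (iv D9) D10 D16 D26 F47 F36 D28 D44 D69 D106 F146 (iv F211) (iv D161) F144 D161 D244 F305 D370 (iv F652) (iv D553) (iv D369) (iv F446) (iv D368) D367 D550 F571 (iv D324) (iv D213) (iv D140) (iv F181) F734 (iv D138) (iv D88) F84 D63 F92 (iv F133) (iv D97) F721 D97 D149 F194 D226 F728 (iv D226) (iv D149) F133 (iv D63) (iv F84) D88 F122 F85 (iv D37) (iv D23) (iv D15) (iv F738) F28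
theorem E325 : n431 = n149 := (c11_28 D1 D2 D3 D5 F16 (iv F19) (iv D7) F13 D7 D11 F25 D18 (iv F47) (iv D26) (iv D16) (iv F32) (iv D15) (iv F738) D21 D32 D50 D78 D121 D185 F753 F752 D284 D431 (iv D149) (iv D97) F721 (iv D62) D63 F92 (iv D63) (iv F84) F727 D88 F122 (iv D57) F61 (iv D25) D26 F47 (iv D18) (iv D11) F19 (iv D5) (iv D3) (iv D2) F7 F6 (iv D1) F4 F3 F4 F3 F2 F4 F3 F4 F3 F2 F4 F3 F4 F3 F2 F4 F3 F4 F3 F2 F4 F3 F4 F3 F2)
theorem E326 : n284 = n226 := (((D226).symm.trans (sb E325 (iv D431)))).symm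
theorem E327 : n285 = n227 := (((D227).symm.trans (sb E325 F517))).symm
theorem E328 : n343 = n185 := ((D343).symm.trans (sb E326 (iv D284)))
theorem E330 : n344 = n186 := ((D344).symm.trans (sb E327 (iv D285)))
theorem F772 : act 4 n185 = n226 := (sb E328 (iv D343))
theorem F773 : act 3 n186 = n227 := (sb E330 (iv D344))
theorem E333 : n519 = n286 := (c10_6 (iv F237) F773 F284 D228 D345 D519 (iv D286) (iv D187) F748)
theorem E334 : n434 = n345 := ((D434).symm.trans (sb E333 (iv D519)))
theorem F774 : act 3 n345 = n286 := (sb E334 (iv D434))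
theorem E335 : n545 = n363 := (c11_12 D99 D152 D230 D349 F422 (iv F428) (iv D354) F293 D240 D363 F439 D545 (iv D363) (iv D240) (iv F293) (iv D233) D234 (iv F422) (iv D349) (iv D230) (iv F286) (iv D228) (iv F284) (iv F773) F237 F163 (iv D80) (iv D51) (iv D32) (iv D21) F738 (iv D9) D10 D16 D26 F47 F36 (iv D18) (iv D11) (iv D7) F13 (iv D4) D5 F16 (iv D5) (iv D3) F9 (iv D2) F7 D2 D3 D4 F14 D7 D11 D18 (iv F47) (iv F63) (iv D40) (iv F61) D57 (iv F122) F730 (iv D88) F84 D63 F92 (iv F133) (iv D97) F721 D97 D149 F194 D226 F728 (iv D226) (iv D149) F133)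
theorem F775 : act 3 n363 = n363 := (sb E335 (iv D545))
theorem F776 : act 3 n544 = n544 := d2_2 F775 (iv F643) F643
theorem E336 : n554 = n370 := (c9_5 (iv F440) F775 F440 D370 D554 (iv D370))
theorem F777 : act 4 n370 = n370 := (sb E336 (iv D554))
theorem E337 : n532 = n239 := (c10_7 D363 F775 (iv D363) (iv D240) (iv F293) D354 D532 D362 F437)
theorem E338 : n354 = n353 := ((((iv F426)).symm.trans (sb E337 (iv D532)))).symm
theorem E339 : n531 = n233 := ((((iv D353)).symm.trans (sb E338 (iv F625)))).symm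
theorem E340 : n530 = n234 := ((D530).symm.trans (sb E338 F428))
theorem E341 : n533 = n235 := (((F427).symm.trans (sb E338 D533))).symm
theorem F778 : act 3 n233 = n353 := (sb E339 (iv D531))
theorem F779 : act 1 n234 = n353 := (sb E340 (iv D530))
theorem E342 : n356 = n355 := (((D355).symm.trans (sb E340 F624))).symm
theorem E343 : n358 = n357 := (((D357).symm.trans (sb E341 F627))).symm
theorem F780 : act 1 n355 = n235 := (sb E342 (iv D356))
theorem E345 : n535 = n525 := ((((iv F619)).symm.trans (sb E342 D535))).symm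
theorem E346 : n536 = n238 := (((F429).symm.trans (sb E342 D536))).symm
theorem E347 : n537 = n236 := (((F430).symm.trans (sb E343 (iv F631)))).symm
theorem F781 : act 1 n525 = n365 := (sb E345 F628)
theorem F782 : act 1 n238 = n357 := (sb E346 F629)
theorem E348 : n360 = n359 := (((iv F435)).symm.trans (sb E346 (iv F630)))
theorem F783 : act 4 n236 = n357 := (sb E347 (iv D537))
theorem E349 : n538 = n327 := ((D538).symm.trans (sb E348 F434))
theorem E350 : n539 = n237 := ((((iv D359)).symm.trans (sb E348 (iv F634)))).symm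
theorem F784 : act 2 n359 = n238 := (sb E348 F435)
theorem E351 : n540 = n322 := (((F433).symm.trans (sb E348 D540))).symm
theorem F785 : act 0 n327 = n359 := (sb E349 (iv D538))
theorem E352 : n488 = n485 := (((iv F573)).symm.trans (sb E349 F633))
theorem F786 : act 4 n237 = n359 := (sb E350 (iv D539))
theorem E353 : n484 = n483 := ((((iv F566)).symm.trans (sb E351 F637))).symm
theorem F787 : act 2 n485 = n485 := (sb E352 (tr F572 E352))
theorem F788 : act 3 n485 = n327 := (sb E352 F573)
theorem F789 : act 4 n485 = n324 := (sb E352 (iv D488))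
theorem F790 : act 0 n483 = n324 := (sb E353 F567)
theorem F791 : act 2 n483 = n483 := (sb E353 (tr F568 E353))
theorem F792 : act 3 n483 = n321 := (sb E353 (iv D484))
theorem F793 : act 3 n518 = n433 := d11_8 D65 D101 D154 D234 (iv F422) (iv F617) (iv D524) (iv F610) F518 (iv D289) D290 F759 (iv D221) (iv D145) (iv F183) (iv D140) (iv F181) D211 D321 D483 F792 (iv D321) (iv D211) F181 F125 (iv D60) (iv D37) (iv D23) (iv D15) (iv F738) F28 D21 D32 D51 F740 (iv F111) (iv D78) F77 D78 D121 F747 D185 F753 (iv D185) (iv D121) F111 (iv D51) (iv D32) (iv D21) F738 (iv D9) F18 D10 D16 D26 F47 F36 (iv D18) (iv D11) (iv D7) F13 (iv D4) D5 F16 (iv D5) (iv D3) F9 (iv D2) F7 D2 D3 D4 D7 D11 D18 (iv F47) (iv F63)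
theorem F794 : act 4 n436 = n521 := d9_4 (iv F611) F793 F519 D436 (iv D521)
theorem E354 : n522 = n288 := (c6_3 F794 F614 D522 (iv F521))
theorem E355 : n437 = n347 := ((D437).symm.trans (sb E354 (iv D522)))
theorem F795 : act 4 n347 = n288 := (sb E355 (iv D437))
theorem E356 : n546 = n526 := (c0_2 F781 (iv F646) (iv D526) (iv D350) (iv D231) F201 D155 D235 (iv F780) (iv F618))
theorem F796 : act 0 n526 = n365 := (sb E356 F646)
theorem F797 : act 2 n526 = n364 := (sb E356 (iv D546))
theorem E357 : n547 = n529 := (c5_3 (iv F620) F781 D547 F623)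
theorem F798 : act 3 n529 = n365 := (sb E357 (iv D547))
theorem E358 : n542 = n524 := (c6_3 D525 F781 (iv F640) F617)
theorem F799 : act 2 n524 = n361 := (sb E358 (iv D542))
theorem F800 : act 4 n524 = n365 := (sb E358 F640)
theorem E359 : n555 = n520 := (c4_4 F797 F441 D371 D555 F613 D526)
theorem F801 : act 1 n520 = n371 := (sb E359 (iv D555))
theorem F802 : act 4 n553 = n553 := d3_2 F777 (iv F651) F651
theorem E360 : n549 = n505 := ((c10_7 D367 D550 F771 (iv D487) F388 D336 D505 (iv D549) (iv D366))).symm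
theorem F803 : act 0 n505 = n368 := (sb E360 F649)
theorem F804 : act 3 n505 = n366 := (sb E360 (iv D549))
theorem E361 : n551 = n504 := ((c10_9 (iv D551) (iv D368) D367 D550 F771 (iv D487) F388 D336 (iv F590))).symm
theorem F805 : act 2 n504 = n368 := (sb E361 (iv D551))
def n574 : Q := act 0 n433
theorem D574 : act 0 n433 = n574 := rfl
theorem F806 : act 2 n574 = n438 := d1_2 (iv F518) D574 (iv D438)
theorem F807 : act 4 n574 = n435 := d3_2 (iv F519) D574 (iv D435)
def n575 : Q := act 1 n435
theorem D575 : act 1 n435 = n575 := rfl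
def n576 : Q := act 3 n435
theorem D576 : act 3 n435 = n576 := rfl
theorem F808 : act 0 n576 = n436 := d2_1 D576 (iv D436) D435
def n577 : Q := act 2 n436
theorem D577 : act 2 n436 = n577 := rfl
theorem F809 : act 1 n577 = n577 := d4_1 D577 (iv D577) F521 F757 (iv F521)
def n578 : Q := act 1 n438
theorem D578 : act 1 n438 = n578 := rfl
theorem F810 : act 4 n578 = n440 := d6_2 (iv F522) D578 (iv D440)
def n579 : Q := act 3 n438
theorem D579 : act 3 n438 = n579 := rfl
theorem F811 : act 0 n579 = n439 := d2_1 D579 (iv D439) D438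
theorem F812 : act 4 n579 = n504 := d9_2 (iv F522) D579 (iv D504) F403 (iv F355)
theorem F813 : act 2 n579 = n543 := d10_2 F806 D579 (iv D543) (iv F799) (iv D524) (iv F610) F793 D574
def n580 : Q := act 2 n439
theorem D580 : act 2 n439 = n580 := rfl
theorem F814 : act 0 n580 = n543 := d1_1 D580 (iv F813) F811
theorem F815 : act 1 n580 = n505 := d4_1 D580 (iv D505) F404 (iv F759) (iv F523)
theorem F816 : act 4 n580 = n505 := d8_2 (iv F524) D580 (iv D505)
theorem F817 : act 3 n580 = n541 := d10_7 (iv F799) (iv D524) (iv F610) F793 F518 D439 D580 (iv D541)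
def n581 : Q := act 0 n440
theorem D581 : act 0 n440 = n581 := rfl
theorem F818 : act 1 n581 = n506 := d0_2 D440 D581 (iv D506) (iv D337) (iv D222) (iv D146) (iv F167) D190 D291
theorem F819 : act 3 n581 = n506 := d2_2 (iv F525) D581 (iv D506)
def n582 : Q := act 2 n440
theorem D582 : act 2 n440 = n582 := rfl
def n583 : Q := act 1 n485
theorem D583 : act 1 n485 = n583 := rfl
theorem F820 : act 3 n583 = n492 := d5_2 (iv F788) D583 F575
theorem F821 : act 4 n583 = n487 := d6_2 (iv F789) D583 F571
def n584 : Q := act 1 n486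
theorem D584 : act 1 n486 = n584 := rfl
theorem F822 : act 4 n584 = n489 := d6_2 (iv F570) D584 (iv D489)
def n585 : Q := act 3 n486
theorem D585 : act 3 n486 = n585 := rfl
theorem F823 : act 0 n585 = n487 := d2_1 D585 (iv D487) D486
def n586 : Q := act 0 n489
theorem D586 : act 0 n489 = n586 := rfl
def n587 : Q := act 2 n489
theorem D587 : act 2 n489 = n587 := rfl
theorem F824 : act 1 n587 = n507 := d4_1 D587 (iv D507) (iv D337) (iv F391) D489
def n588 : Q := act 3 n489
theorem D588 : act 3 n489 = n588 := rfl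
theorem F825 : act 1 n588 = n490 := d5_1 D588 (iv D490) D489
def n589 : Q := act 2 n490
theorem D589 : act 2 n490 = n589 := rfl
theorem F826 : act 0 n589 = n491 := d1_1 D589 (iv D491) (iv F574)
theorem F827 : act 3 n589 = n577 := d10_1 D589 (iv D577) (iv D436) F351 F242 (iv F269) D326 (iv F574)
theorem F828 : act 3 n587 = n507 := d11_23 (iv D238) (iv D156) (iv D102) (iv D66) (iv F87) F86 D61 D95 (iv F168) (iv D125) (iv F164) (iv D123) F113 D123 D188 D287 D436 D577 (iv F827) (iv D589) (iv F825) (iv D588) D587 (iv D507) (iv D337) (iv F403) D504 F805 (iv D368) D367 F444 D550 F771 (iv D487) F388 (iv D220) D221 (iv F759) (iv D290) (iv D189) (iv F238) (iv D187) (iv F237) F773 F284 F196 D152 D230 D349 F422 F779 F427 D357 F431 (iv D236) F203 (iv D104) F100 (iv D45) (iv D29) F38 F26 F22 F21 F22 F21 (iv F26) F27 (iv F38) D29 D45 D70 (iv F143) (iv F203) D236 (iv F431) (iv F782)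
theorem F829 : act 1 n589 = n589 := d5_3 F827 F809 (iv F827)
theorem F830 : act 2 n588 = n588 := d4_4 D589 F829 (iv D589) (iv F825) F825
theorem E362 : n587 = n581 := ((c10_9 (iv D587) D588 F830 (iv D588) D587 F828 (iv D507) (iv F525) D581)).symm
theorem E363 : n507 = n506 := (((F818).symm.trans (sb E362 F824))).symm
theorem F831 : act 2 n581 = n489 := (sb E362 (iv D587))
theorem F832 : act 2 n506 = n337 := (sb E363 (iv D507))
theorem E364 : n586 = n582 := (c10_9 (iv D582) F525 (iv F832) (iv F819) F831 D588 F830 (iv D588) D586)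
theorem F833 : act 0 n582 = n489 := (sb E364 (iv D586))
def n590 : Q := act 4 n490
theorem D590 : act 4 n490 = n590 := rfl
theorem F834 : act 0 n590 = n492 := d3_1 D590 (iv D492) (iv F574)
def n591 : Q := act 3 n491
theorem D591 : act 3 n491 = n591 := rfl
theorem F835 : act 0 n591 = n577 := d2_1 D591 (iv F827) F826
theorem F836 : act 2 n591 = n576 := d7_1 D591 (iv D576) F520 F355 (iv F391) D490 D589 F827 (iv D577) (iv D436) F351 F242 (iv F269) D326 D491
def n592 : Q := act 4 n491
theorem D592 : act 4 n491 = n592 := rfl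
theorem F837 : act 2 n592 = n492 := d8_1 D592 (iv D492) D491
def n593 : Q := act 0 n503
theorem D593 : act 0 n503 = n593 := rfl
theorem F838 : act 4 n593 = n506 := d3_2 (iv F589) D593 (iv D506)
theorem F839 : act 2 n503 = n593 := d8_3 F838 F832 (iv F589)
def n594 : Q := act 3 n503
theorem D594 : act 3 n503 = n594 := rfl
theorem F840 : act 1 n594 = n504 := d5_1 D594 (iv D504) D503
theorem F841 : act 2 n552 = n594 := d4_0 F840 F805 F446 D369 D552
def n595 : Q := act 0 n518
theorem D595 : act 0 n518 = n595 := rfl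
theorem F842 : act 2 n595 = n523 := d1_2 (iv F610) D595 (iv D523)
theorem F843 : act 3 n595 = n574 := d2_2 (iv F793) D595 (iv D574)
theorem F844 : act 4 n595 = n520 := d3_2 (iv F611) D595 (iv D520)
theorem F845 : act 1 n548 = n595 := d6_3 F844 F801 (iv F648)
def n596 : Q := act 3 n520
theorem D596 : act 3 n520 = n596 := rfl
theorem F846 : act 0 n596 = n521 := d2_1 D596 (iv D521) D520
theorem F847 : act 1 n596 = n556 := d5_1 D596 (iv D556) (iv F801)
theorem F848 : act 4 n596 = n576 := d9_2 F844 D596 (iv D576) (iv F807) (iv F843)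
def n597 : Q := act 2 n521
theorem D597 : act 2 n521 = n597 := rfl
theorem F849 : act 1 n597 = n597 := d4_1 D597 (iv D597) F614 F733 (iv F614)
theorem F850 : act 4 n597 = n577 := d8_2 F794 D597 (iv D577)
def n598 : Q := act 1 n523
theorem D598 : act 1 n523 = n598 := rfl
theorem F851 : act 0 n598 = n524 := d0_1 D598 F617 F421 F779 (iv D353) (iv D233) (iv F289) D348 D523
theorem F852 : act 2 n598 = n541 := d4_2 F842 D598 F638 D548 F845
theorem F853 : act 4 n598 = n526 := d6_2 (iv F616) D598 (iv D526)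
theorem F854 : act 3 n523 = n598 := d11_16 D150 D228 D345 F774 (iv D286) F238 (iv D124) F744 D124 D189 D289 D439 D580 F817 (iv F852) (iv D598) F852 (iv F817) (iv D580) F523 (iv D290) (iv D189) (iv D124) F744 (iv F163) (iv D122) (iv D78) F77 D78 D121 F747 D185 F753 (iv D185) (iv D121) F111 (iv D51) (iv D32) (iv D21) F738 (iv D9) D10 D16 D26 F47 F36 (iv D18) (iv D11) (iv D7) F13 (iv D4) F12 D5 F16 (iv D5) (iv D3) F9 (iv D2) F7 D2 D3 D4 D7 D11 D18 (iv F47) (iv F63) (iv D40) (iv F61) D57 (iv F122) F730 (iv D88) F84 D63 F92 (iv F133)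
def n599 : Q := act 3 n526
theorem D599 : act 3 n526 = n599 := rfl
theorem F855 : act 0 n599 = n529 := d2_1 D599 F798 (iv F796)
theorem F856 : act 1 n599 = n527 := d5_1 D599 (iv D527) D526
theorem F857 : act 4 n599 = n527 := d9_2 F853 D599 (iv D527) (iv F616) F854
def n600 : Q := act 2 n527
theorem D600 : act 2 n527 = n600 := rfl
theorem F858 : act 0 n600 = n528 := d1_1 D600 (iv D528) (iv F621)
def n601 : Q := act 3 n528
theorem D601 : act 3 n528 = n601 := rfl
theorem F859 : act 1 n601 = n591 := d5_1 D601 (iv D591) (iv F622)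
def n602 : Q := act 4 n528
theorem D602 : act 4 n528 = n602 := rfl
theorem F860 : act 1 n602 = n592 := d6_1 D602 (iv D592) (iv F622)
theorem F861 : act 2 n602 = n529 := d8_1 D602 (iv D529) D528
def n603 : Q := act 1 n544
theorem D603 : act 1 n544 = n603 := rfl
theorem F862 : act 3 n603 = n603 := d5_2 F776 D603 (iv D603)
theorem F863 : act 4 n603 = n552 := d6_2 (iv F644) D603 (iv D552)
def n604 : Q := act 3 n548
theorem D604 : act 3 n548 = n604 := rfl
theorem F864 : act 0 n604 = n550 := d2_1 D604 (iv D550) (iv F647)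
theorem F865 : act 1 n604 = n574 := d5_1 D604 (iv F843) (iv F845)
theorem F866 : act 2 n604 = n585 := d7_1 D604 (iv D585) F569 D504 F805 (iv D368) D367 D550 F771 (iv D487) F388 D336 D505 F804 D548
theorem F867 : act 4 n575 = n604 := d6_0 F865 F807 D575
def n605 : Q := act 4 n550
theorem D605 : act 4 n550 = n605 := rfl
theorem F868 : act 0 n605 = n575 := d3_1 D605 F867 F864
theorem F869 : act 1 n605 = n605 := d6_1 D605 (iv D605) F650
theorem F870 : act 2 n605 = n583 := d8_1 D605 F821 (iv F771)
theorem F871 : act 3 n605 = n558 := d9_1 D605 (iv D558) (iv D372) (iv F445) D550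
def n606 : Q := act 0 n552
theorem D606 : act 0 n552 = n606 := rfl
def n607 : Q := act 3 n552
theorem D607 : act 3 n552 = n607 := rfl
theorem F872 : act 1 n607 = n553 := d5_1 D607 (iv D553) D552
theorem F873 : act 4 n607 = n607 := d9_2 F863 D607 (iv D607) (iv F863) F862
theorem F874 : act 2 n607 = n607 := d10_4 (iv F839) D594 (iv F841) D607 (iv D607) F841 (iv D594) D593
def n608 : Q := act 2 n556
theorem D608 : act 2 n556 = n608 := rfl
theorem F875 : act 0 n608 = n557 := d1_1 D608 (iv D557) (iv F654)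
theorem F876 : act 3 n608 = n602 := d10_1 D608 F861 F798 (iv D365) F302 D246 D372 (iv F654)
def n609 : Q := act 4 n556
theorem D609 : act 4 n556 = n609 := rfl
theorem F877 : act 0 n609 = n558 := d3_1 D609 (iv D558) (iv F654)
theorem F878 : act 1 n609 = n576 := d6_1 D609 (iv F848) F847
theorem F879 : act 3 n609 = n575 := d9_1 D609 F867 (iv D604) F648 D556
def n610 : Q := act 1 n557
theorem D610 : act 1 n557 = n610 := rfl
theorem F880 : act 2 n610 = n610 := d4_2 D557 D610 (iv D610) (iv D557) F450
def n611 : Q := act 3 n557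
theorem D611 : act 3 n557 = n611 := rfl
theorem F881 : act 0 n611 = n602 := d2_1 D611 (iv F876) F875
theorem F882 : act 2 n611 = n599 := d7_1 D611 (iv D599) F797 F442 D371 D556 D608 F876 F861 F798 (iv D365) F302 D246 D372 D557
theorem F883 : act 4 n600 = n611 := d8_0 F882 F857 D600
def n612 : Q := act 4 n557
theorem D612 : act 4 n557 = n612 := rfl
theorem F884 : act 2 n612 = n558 := d8_1 D612 (iv D558) D557
def n613 : Q := act 2 n575
theorem D613 : act 2 n575 = n613 := rfl
theorem F885 : act 0 n613 = n583 := d1_1 D613 (iv F870) F868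
theorem F886 : act 1 n613 = n582 := d4_1 D613 (iv D582) (iv D440) (iv F520) D575
theorem F887 : act 4 n613 = n585 := d8_2 (iv F867) D613 (iv F866)
theorem F888 : act 3 n590 = n613 := d9_5 F887 (iv D585) F570 D490 D590
def n614 : Q := act 0 n578
theorem D614 : act 0 n578 = n614 := rfl
theorem F889 : act 1 n614 = n593 := d0_2 D578 D614 (iv D593) (iv D503) (iv D335) (iv D220) (iv F240) D289 D438
theorem F890 : act 4 n614 = n581 := d3_2 (iv F810) D614 (iv D581)
theorem F891 : act 2 n584 = n614 := d8_3 F890 F831 (iv F822)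
def n615 : Q := act 2 n578
theorem D615 : act 2 n578 = n615 := rfl
theorem F892 : act 0 n615 = n584 := d1_1 D615 F891 (iv D614)
theorem F893 : act 1 n615 = n585 := d4_1 D615 (iv F866) F865 F806 D578
theorem F894 : act 4 n615 = n582 := d8_2 (iv F810) D615 (iv D582)
theorem F895 : act 3 n584 = n615 := d5_0 F893 (iv D585) D584
def n616 : Q := act 3 n578
theorem D616 : act 3 n578 = n616 := rfl
theorem F896 : act 1 n616 = n579 := d5_1 D616 (iv D579) D578
theorem F897 : act 4 n616 = n594 := d9_2 (iv F810) D616 (iv D594) F589 (iv F525)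
theorem F898 : act 2 n616 = n603 := d11_9 (iv F303) D368 (iv F805) (iv D504) (iv F569) D584 F895 (iv D615) D616 (iv D603) F776 (iv D544) (iv D362) (iv F426) (iv F779) (iv D234) (iv D154) (iv D101) F95 F94 D67 D103 D158 F206 (iv F300) F301 (iv D161) F144 D161 D244 F305 D370 (iv F652) (iv D553) (iv D369) (iv F446) (iv D368) D367 D550 F771 F571 (iv D324) (iv D213) (iv D140) (iv F181) F734 D211 D321 (iv F792) F791 (iv D483) F387 (iv F298) (iv D237) (iv D156) (iv D102) F96 (iv D43) F49 F35 (iv F49) (iv F65) D66 D102 D156 D237 D359 F433 F737 (iv F433) F784 F782 (iv D357) F295 F208 F147 D162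
def n617 : Q := act 3 n582
theorem D617 : act 3 n582 = n617 := rfl
theorem F899 : act 0 n617 = n588 := d2_1 D617 (iv D588) (iv F833)
theorem F900 : act 1 n617 = n590 := d5_1 D617 F888 F886
theorem F901 : act 2 n617 = n617 := d7_1 D617 (iv D617) (iv D582) F525 (iv F832) (iv F819) F831 D588 F830 (iv D588) (iv F831) F819 F832 (iv F525) D582
theorem F902 : act 4 n617 = n588 := d9_2 F894 D617 (iv D588) (iv F822) F895
def n618 : Q := act 4 n589
theorem D618 : act 4 n589 = n618 := rfl
theorem F903 : act 0 n618 = n592 := d3_1 D618 (iv D592) (iv F826)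
theorem F904 : act 1 n618 = n618 := d6_1 D618 (iv D618) F829
theorem F905 : act 2 n618 = n590 := d8_1 D618 (iv D590) D589
def n619 : Q := act 4 n591
theorem D619 : act 4 n591 = n619 := rfl
theorem F906 : act 0 n619 = n597 := d3_1 D619 F850 (iv F835)
theorem F907 : act 2 n619 = n596 := d8_1 D619 F848 (iv F836)
def n620 : Q := act 3 n592
theorem D620 : act 3 n592 = n620 := rfl
theorem F908 : act 1 n620 = n608 := d5_1 D620 F876 F860
def n621 : Q := act 3 n593
theorem D621 : act 3 n593 = n621 := rfl
theorem F909 : act 0 n621 = n594 := d2_1 D621 (iv D594) D593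
theorem F910 : act 2 n606 = n621 := d10_0 (iv D621) (iv F839) D594 (iv F841) D607 F874 (iv D607) D606
def n622 : Q := act 3 n597
theorem D622 : act 3 n597 = n622 := rfl
theorem F911 : act 1 n622 = n622 := d5_1 D622 (iv D622) F849
def n623 : Q := act 1 n600
theorem D623 : act 1 n600 = n623 := rfl
theorem F912 : act 0 n623 = n623 := d0_1 D623 (iv D623) F858 F622 (iv F826) F829 F826 (iv F622) (iv F858)
def n624 : Q := act 3 n600
theorem D624 : act 3 n600 = n624 := rfl
theorem F913 : act 0 n624 = n601 := d2_1 D624 (iv D601) (iv F858)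
theorem F914 : act 2 n624 = n622 := d10_2 D600 D624 (iv D622) (iv D597) (iv D521) F418 D351 (iv F621)
def n625 : Q := act 2 n601
theorem D625 : act 2 n601 = n625 := rfl
theorem F915 : act 0 n625 = n622 := d1_1 D625 (iv F914) F913
theorem F916 : act 3 n625 = n619 := d7_2 D601 D625 F907 (iv D596) F613 D527 D600 D624 F914 (iv D622) (iv D597) (iv D521) F418 D351 D528
theorem F917 : act 4 n620 = n625 := d9_0 F916 (iv D619) (iv D591) D592 D620
def n626 : Q := act 4 n601
theorem D626 : act 4 n601 = n626 := rfl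
theorem F918 : act 1 n626 = n619 := d6_1 D626 (iv D619) (iv F859)
theorem F919 : act 2 n626 = n620 := d8_1 D626 F917 (iv D625)
def n627 : Q := act 0 n603
theorem D627 : act 0 n603 = n627 := rfl
theorem F920 : act 3 n627 = n627 := d2_2 F862 D627 (iv D627)
theorem F921 : act 4 n627 = n606 := d3_2 (iv F863) D627 (iv D606)
def n628 : Q := act 1 n606
theorem D628 : act 1 n606 = n628 := rfl
theorem F922 : act 0 n628 = n628 := d0_1 D628 (iv D628) (iv D606) (iv D552) F447 F305 (iv F447) D552 D606
def n629 : Q := act 3 n606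
theorem D629 : act 3 n606 = n629 := rfl
theorem F923 : act 0 n629 = n607 := d2_1 D629 (iv D607) D606
theorem F924 : act 2 n629 = n629 := d7_1 D629 (iv D629) F910 (iv D621) (iv F839) D594 (iv F841) D607 F874 (iv D607) F841 (iv D594) F839 D621 (iv F910)
theorem F925 : act 4 n629 = n629 := d9_2 F921 D629 (iv D629) (iv F921) F920
def n630 : Q := act 4 n608
theorem D630 : act 4 n608 = n630 := rfl
theorem F926 : act 0 n630 = n612 := d3_1 D630 (iv D612) (iv F875)
theorem F927 : act 1 n630 = n625 := d6_1 D630 (iv F917) F908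
theorem F928 : act 2 n630 = n609 := d8_1 D630 (iv D609) D608
theorem F929 : act 3 n630 = n626 := d9_1 D630 (iv D626) (iv D601) D602 (iv F876)
def n631 : Q := act 0 n610
theorem D631 : act 0 n610 = n631 := rfl
def n632 : Q := act 3 n610
theorem D632 : act 3 n610 = n632 := rfl
theorem F931 : act 1 n632 = n611 := d5_1 D632 (iv D611) D610
theorem F932 : act 0 n632 = n632 := d0_9 F931 F881 F860 (iv F903) F904 F903 (iv F860) (iv F881) (iv F931)
theorem F933 : act 2 n623 = n632 := d4_0 F931 F882 F856 D600 D623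
theorem F934 : act 4 n623 = n632 := d6_0 F931 (iv F883) D623
theorem E365 : n631 = n610 := (c2_4 D632 F932 (iv D632) D631)
theorem F935 : act 0 n610 = n610 := (sb E365 (iv D631))
def n633 : Q := act 4 n610
theorem D633 : act 4 n610 = n633 := rfl
theorem F936 : act 0 n633 = n633 := d3_1 D633 (iv D633) F935
theorem F937 : act 1 n633 = n612 := d6_1 D633 (iv D612) D610
theorem F938 : act 2 n633 = n633 := d8_1 D633 (iv D633) F880
def n634 : Q := act 3 n612
theorem D634 : act 3 n612 = n634 := rfl
theorem F939 : act 0 n634 = n626 := d2_1 D634 (iv F929) F926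
theorem F940 : act 4 n634 = n624 := d9_2 D612 D634 (iv D624) F883 (iv D611)
def n635 : Q := act 3 n614
theorem D635 : act 3 n614 = n635 := rfl
theorem F941 : act 0 n635 = n616 := d2_1 D635 (iv D616) D614
theorem F942 : act 1 n635 = n621 := d5_1 D635 (iv D621) (iv F889)
theorem F943 : act 4 n635 = n621 := d9_2 (iv F890) D635 (iv D621) F838 (iv F819)
theorem F944 : act 2 n635 = n627 := d10_6 (iv F898) (iv D616) D615 (iv F895) F891 D635 F920 (iv D627)
def n636 : Q := act 3 n618
theorem D636 : act 3 n618 = n636 := rfl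
theorem F945 : act 0 n636 = n620 := d2_1 D636 (iv D620) (iv F903)
theorem F946 : act 1 n636 = n636 := d5_1 D636 (iv D636) F904
theorem F947 : act 2 n636 = n634 := d7_1 D636 (iv D634) F884 (iv F871) F870 F820 (iv F837) D620 (iv F919) (iv F929) F928 F879 D613 (iv F888) (iv F905)
theorem F948 : act 4 n636 = n622 := d9_2 D618 D636 (iv D622) F850 (iv F827)
def n637 : Q := act 3 n623
theorem D637 : act 3 n623 = n637 := rfl
theorem F949 : act 0 n637 = n637 := d2_1 D637 (iv D637) F912
theorem F950 : act 1 n637 = n624 := d5_1 D637 (iv D624) D623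
theorem F951 : act 2 n637 = n637 := d10_2 (iv F933) D637 (iv D637) F933 (iv D632) F880 D632 F932
def n638 : Q := act 1 n627
theorem D638 : act 1 n627 = n638 := rfl
theorem F952 : act 0 n638 = n638 := d0_1 D638 (iv D638) (iv D627) (iv D603) F643 F439 (iv F643) D603 D627
theorem F953 : act 2 n638 = n628 := d4_2 F944 D638 (iv D628) F910 (iv F942)
theorem F954 : act 3 n638 = n638 := d5_2 F920 D638 (iv D638)
theorem F955 : act 4 n638 = n628 := d6_2 (iv F921) D638 (iv D628)
def n639 : Q := act 3 n628
theorem D639 : act 3 n628 = n639 := rfl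
theorem F956 : act 0 n639 = n639 := d2_1 D639 (iv D639) F922
theorem F957 : act 1 n639 = n629 := d5_1 D639 (iv D629) D628
theorem F958 : act 4 n639 = n639 := d9_2 F955 D639 (iv D639) (iv F955) F954
def n640 : Q := act 3 n633
theorem D640 : act 3 n633 = n640 := rfl
theorem F959 : act 0 n640 = n640 := d2_1 D640 (iv D640) F936
theorem F960 : act 1 n640 = n634 := d5_1 D640 (iv D634) (iv F937)
theorem F961 : act 4 n640 = n637 := d9_2 D633 D640 (iv D637) F934 (iv D632)
theorem F962 : act 2 n640 = n640 := d11_2 D633 D640 (iv D640) F938 F937 D634 (iv F947) (iv D636) F905 (iv F900) (iv D617) (iv D582) F525 (iv F832) (iv F818) F819 F832 (iv F525) D582 (iv F886) (iv F888) (iv F905) D636 F947 (iv F960) F961 (iv D637) F933 (iv D632) F880 (iv D610) D611 F882 (iv D599) F797 F441 (iv F442) (iv F797) D599 (iv F882) (iv F931) (iv D632) F880 D632 (iv F933) (iv D623) D624 F914 (iv D622) (iv D597) F614 F795 (iv D288) (iv D188) (iv D123) F113 F112 D81 D125 F168 (iv D95) (iv F126) (iv D91) F87 D66 D102 D155 D236 (iv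 F431) (iv D357) F295 D241 F302 D246 D372 D557 D610
def n641 : Q := act 2 n639
theorem D641 : act 2 n639 = n641 := rfl
theorem F963 : act 0 n641 = n641 := d1_1 D641 (iv D641) F956
theorem F964 : act 1 n641 = n641 := d4_1 D641 (iv D641) F957 F924 (iv F957)
theorem F965 : act 4 n641 = n641 := d8_2 F958 D641 (iv D641)
theorem F966 : act 3 n641 = n641 := d10_1 D641 (iv D641) (iv D639) (iv F953) F954 F953 D639 F956

end Cfsg.Agent.Helper17.SuzP2TC
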