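import Cfsg.Agent.Helper17.SuzP2TC.Final

set_option autoImplicit false
set_option linter.all false
set_option maxRecDepth 100000

noncomputable section

namespace Cfsg.Agent.Helper17.SuzP2TC

theorem N1 : nd 1 = n1 := ndS (p := 0) (l := 4) rfl N0 D1
theorem N2 : nd 2 = n2 := ndS (p := 1) (l := 3) rfl N1 D2
theorem N3 : nd 3 = n3 := ndS (p := 2) (l := 2) rfl N2 D3
theorem N4 : nd 4 = n4 := ndS (p := 3) (l := 1) rfl N3 D4
theorem N5 : nd 5 = n5 := ndS (p := 3) (l := 3) rfl N3 D5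
theorem N6 : nd 6 = n6 := ndS (p := 4) (l := 0) rfl N4 D6
theorem N7 : nd 7 = n7 := ndS (p := 4) (l := 3) rfl N4 D7
theorem N8 : nd 8 = n8 := ndS (p := 5) (l := 4) rfl N5 D8
theorem N9 : nd 9 = n9 := ndS (p := 6) (l := 1) rfl N6 D9
theorem N10 : nd 10 = n10 := ndS (p := 6) (l := 3) rfl N6 D10
theorem N11 : nd 11 = n11 := ndS (p := 7) (l := 2) rfl N7 D11
theorem N12 : nd 12 = n12 := ndS (p := 7) (l := 4) rfl N7 D12
theorem N13 : nd 13 = n13 := ndS (p := 9) (l := 0) rfl N9 D13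
theorem N14 : nd 14 = n15 := ndS (p := 9) (l := 3) rfl N9 D15
theorem N15 : nd 15 = n16 := ndS (p := 10) (l := 2) rfl N10 D16
theorem N16 : nd 16 = n17 := ndS (p := 10) (l := 4) rfl N10 D17
theorem N17 : nd 17 = n18 := ndS (p := 11) (l := 3) rfl N11 D18
theorem N18 : nd 18 = n19 := ndS (p := 11) (l := 4) rfl N11 D19
theorem N19 : nd 19 = n21 := ndS (p := 13) (l := 3) rfl N13 D21
theorem N20 : nd 20 = n23 := ndS (p := 14) (l := 2) rfl N14 D23
theorem N21 : nd 21 = n24 := ndS (p := 14) (l := 4) rfl N14 D24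
theorem N22 : nd 22 = n25 := ndS (p := 15) (l := 1) rfl N15 D25
theorem N23 : nd 23 = n26 := ndS (p := 15) (l := 3) rfl N15 D26
theorem N24 : nd 24 = n27 := ndS (p := 15) (l := 4) rfl N15 D27
theorem N25 : nd 25 = n28 := ndS (p := 17) (l := 4) rfl N17 D28
theorem N26 : nd 26 = n29 := ndS (p := 18) (l := 3) rfl N18 D29
theorem N27 : nd 27 = n32 := ndS (p := 19) (l := 2) rfl N19 D32
theorem N28 : nd 28 = n33 := ndS (p := 19) (l := 4) rfl N19 D33
theorem N29 : nd 29 = n36 := ndS (p := 20) (l := 1) rfl N20 D36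
theorem N30 : nd 30 = n37 := ndS (p := 20) (l := 3) rfl N20 D37
theorem N31 : nd 31 = n38 := ndS (p := 20) (l := 4) rfl N20 D38
theorem N32 : nd 32 = n39 := ndS (p := 22) (l := 0) rfl N22 D39
theorem N33 : nd 33 = n40 := ndS (p := 22) (l := 3) rfl N22 D40
theorem N34 : nd 34 = n41 := ndS (p := 22) (l := 4) rfl N22 D41
theorem N35 : nd 35 = n42 := ndS (p := 23) (l := 4) rfl N23 D42
theorem N36 : nd 36 = n43 := ndS (p := 24) (l := 3) rfl N24 D43
theorem N37 : nd 37 = n44 := ndS (p := 25) (l := 3) rfl N25 D44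
theorem N38 : nd 38 = n45 := ndS (p := 26) (l := 2) rfl N26 D45
theorem N39 : nd 39 = n50 := ndS (p := 27) (l := 1) rfl N27 D50
theorem N40 : nd 40 = n51 := ndS (p := 27) (l := 3) rfl N27 D51
theorem N41 : nd 41 = n52 := ndS (p := 27) (l := 4) rfl N27 D52
theorem N42 : nd 42 = n56 := ndS (p := 29) (l := 0) rfl N29 D56
theorem N43 : nd 43 = n57 := ndS (p := 29) (l := 3) rfl N29 D57
theorem N44 : nd 44 = n58 := ndS (p := 29) (l := 4) rfl N29 D58
theorem N45 : nd 45 = n60 := ndS (p := 30) (l := 4) rfl N30 D60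
theorem N46 : nd 46 = n61 := ndS (p := 31) (l := 3) rfl N31 D61
theorem N47 : nd 47 = n62 := ndS (p := 32) (l := 1) rfl N32 D62
theorem N48 : nd 48 = n63 := ndS (p := 32) (l := 3) rfl N32 D63
theorem N49 : nd 49 = n64 := ndS (p := 32) (l := 4) rfl N32 D64
theorem N50 : nd 50 = n65 := ndS (p := 33) (l := 4) rfl N33 D65
theorem N51 : nd 51 = n66 := ndS (p := 34) (l := 3) rfl N34 D66
theorem N52 : nd 52 = n67 := ndS (p := 35) (l := 3) rfl N35 D67
theorem N53 : nd 53 = n68 := ndS (p := 36) (l := 2) rfl N36 D68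
theorem N54 : nd 54 = n69 := ndS (p := 37) (l := 2) rfl N37 D69
theorem N55 : nd 55 = n70 := ndS (p := 38) (l := 1) rfl N38 D70
theorem N56 : nd 56 = n78 := ndS (p := 39) (l := 3) rfl N39 D78
theorem N57 : nd 57 = n79 := ndS (p := 39) (l := 4) rfl N39 D79
theorem N58 : nd 58 = n80 := ndS (p := 40) (l := 4) rfl N40 D80
theorem N59 : nd 59 = n81 := ndS (p := 41) (l := 3) rfl N41 D81
theorem N60 : nd 60 = n88 := ndS (p := 42) (l := 3) rfl N42 D88
theorem N61 : nd 61 = n89 := ndS (p := 42) (l := 4) rfl N42 D89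
theorem N62 : nd 62 = n90 := ndS (p := 43) (l := 4) rfl N43 D90
theorem N63 : nd 63 = n91 := ndS (p := 44) (l := 3) rfl N44 D91
theorem N64 : nd 64 = n94 := ndS (p := 45) (l := 3) rfl N45 D94
theorem N65 : nd 65 = n95 := ndS (p := 46) (l := 2) rfl N46 D95
theorem N66 : nd 66 = n97 := ndS (p := 47) (l := 3) rfl N47 D97
theorem N67 : nd 67 = n98 := ndS (p := 47) (l := 4) rfl N47 D98
theorem N68 : nd 68 = n99 := ndS (p := 48) (l := 4) rfl N48 D99
theorem N69 : nd 69 = n100 := ndS (p := 49) (l := 3) rfl N49 D100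
theorem N70 : nd 70 = n101 := ndS (p := 50) (l := 3) rfl N50 D101
theorem N71 : nd 71 = n102 := ndS (p := 51) (l := 2) rfl N51 D102
theorem N72 : nd 72 = n103 := ndS (p := 52) (l := 2) rfl N52 D103
theorem N73 : nd 73 = n104 := ndS (p := 53) (l := 1) rfl N53 D104
theorem N74 : nd 74 = n105 := ndS (p := 54) (l := 1) rfl N54 D105
theorem N75 : nd 75 = n106 := ndS (p := 54) (l := 3) rfl N54 D106
theorem N76 : nd 76 = n107 := ndS (p := 55) (l := 0) rfl N55 D107
theorem N77 : nd 77 = n121 := ndS (p := 56) (l := 2) rfl N56 D121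
theorem N78 : nd 78 = n122 := ndS (p := 56) (l := 4) rfl N56 D122
theorem N79 : nd 79 = n123 := ndS (p := 57) (l := 3) rfl N57 D123
theorem N80 : nd 80 = n124 := ndS (p := 58) (l := 3) rfl N58 D124
theorem N81 : nd 81 = n125 := ndS (p := 59) (l := 2) rfl N59 D125
theorem N82 : nd 82 = n138 := ndS (p := 60) (l := 4) rfl N60 D138
theorem N83 : nd 83 = n139 := ndS (p := 61) (l := 3) rfl N61 D139
theorem N84 : nd 84 = n140 := ndS (p := 62) (l := 3) rfl N62 D140
theorem N85 : nd 85 = n141 := ndS (p := 63) (l := 2) rfl N63 D141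
theorem N86 : nd 86 = n145 := ndS (p := 64) (l := 2) rfl N64 D145
theorem N87 : nd 87 = n146 := ndS (p := 65) (l := 1) rfl N65 D146
theorem N88 : nd 88 = n149 := ndS (p := 66) (l := 2) rfl N66 D149
theorem N89 : nd 89 = n150 := ndS (p := 66) (l := 4) rfl N66 D150
theorem N90 : nd 90 = n151 := ndS (p := 67) (l := 3) rfl N67 D151
theorem N91 : nd 91 = n152 := ndS (p := 68) (l := 3) rfl N68 D152
theorem N92 : nd 92 = n153 := ndS (p := 69) (l := 2) rfl N69 D153
theorem N93 : nd 93 = n154 := ndS (p := 70) (l := 2) rfl N70 D154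
theorem N94 : nd 94 = n155 := ndS (p := 71) (l := 1) rfl N71 D155
theorem N95 : nd 95 = n156 := ndS (p := 71) (l := 3) rfl N71 D156
theorem N96 : nd 96 = n157 := ndS (p := 72) (l := 1) rfl N72 D157
theorem N97 : nd 97 = n158 := ndS (p := 72) (l := 3) rfl N72 D158
theorem N98 : nd 98 = n159 := ndS (p := 73) (l := 0) rfl N73 D159
theorem N99 : nd 99 = n160 := ndS (p := 74) (l := 0) rfl N74 D160
theorem N100 : nd 100 = n161 := ndS (p := 74) (l := 3) rfl N74 D161
theorem N101 : nd 101 = n162 := ndS (p := 76) (l := 1) rfl N76 D162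
theorem N102 : nd 102 = n185 := ndS (p := 77) (l := 3) rfl N77 D185
theorem N103 : nd 103 = n186 := ndS (p := 77) (l := 4) rfl N77 D186
theorem N104 : nd 104 = n187 := ndS (p := 78) (l := 3) rfl N78 D187
theorem N105 : nd 105 = n188 := ndS (p := 79) (l := 2) rfl N79 D188
theorem N106 : nd 106 = n189 := ndS (p := 80) (l := 2) rfl N80 D189
theorem N107 : nd 107 = n190 := ndS (p := 81) (l := 1) rfl N81 D190
theorem N108 : nd 108 = n211 := ndS (p := 82) (l := 3) rfl N82 D211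
theorem N109 : nd 109 = n212 := ndS (p := 83) (l := 2) rfl N83 D212
theorem N110 : nd 110 = n213 := ndS (p := 84) (l := 2) rfl N84 D213
theorem N111 : nd 111 = n214 := ndS (p := 85) (l := 1) rfl N85 D214
theorem N112 : nd 112 = n215 := ndS (p := 85) (l := 3) rfl N85 D215
theorem N113 : nd 113 = n220 := ndS (p := 86) (l := 1) rfl N86 D220
theorem N114 : nd 114 = n221 := ndS (p := 86) (l := 3) rfl N86 D221
theorem N115 : nd 115 = n222 := ndS (p := 87) (l := 0) rfl N87 D222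
theorem N116 : nd 116 = n226 := ndS (p := 88) (l := 3) rfl N88 D226
theorem N117 : nd 117 = n227 := ndS (p := 88) (l := 4) rfl N88 D227
theorem N118 : nd 118 = n228 := ndS (p := 89) (l := 3) rfl N89 D228
theorem N119 : nd 119 = n229 := ndS (p := 90) (l := 2) rfl N90 D229
theorem N120 : nd 120 = n230 := ndS (p := 91) (l := 2) rfl N91 D230
theorem N121 : nd 121 = n231 := ndS (p := 92) (l := 1) rfl N92 D231
theorem N122 : nd 122 = n232 := ndS (p := 92) (l := 3) rfl N92 D232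
theorem N123 : nd 123 = n233 := ndS (p := 93) (l := 1) rfl N93 D233
theorem N124 : nd 124 = n234 := ndS (p := 93) (l := 3) rfl N93 D234
theorem N125 : nd 125 = n235 := ndS (p := 94) (l := 0) rfl N94 D235
theorem N126 : nd 126 = n236 := ndS (p := 94) (l := 3) rfl N94 D236
theorem N127 : nd 127 = n237 := ndS (p := 95) (l := 2) rfl N95 D237
theorem N128 : nd 128 = n238 := ndS (p := 95) (l := 4) rfl N95 D238
theorem N129 : nd 129 = n239 := ndS (p := 96) (l := 0) rfl N96 D239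
theorem N130 : nd 130 = n240 := ndS (p := 96) (l := 3) rfl N96 D240
theorem N131 : nd 131 = n241 := ndS (p := 98) (l := 1) rfl N98 D241
theorem N132 : nd 132 = n242 := ndS (p := 99) (l := 1) rfl N99 D242
theorem N133 : nd 133 = n243 := ndS (p := 99) (l := 3) rfl N99 D243
theorem N134 : nd 134 = n244 := ndS (p := 100) (l := 2) rfl N100 D244
theorem N135 : nd 135 = n245 := ndS (p := 101) (l := 0) rfl N101 D245
theorem N136 : nd 136 = n246 := ndS (p := 101) (l := 2) rfl N101 D246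
theorem N137 : nd 137 = n286 := ndS (p := 104) (l := 2) rfl N104 D286
theorem N138 : nd 138 = n287 := ndS (p := 105) (l := 1) rfl N105 D287
theorem N139 : nd 139 = n288 := ndS (p := 105) (l := 3) rfl N105 D288
theorem N140 : nd 140 = n289 := ndS (p := 106) (l := 1) rfl N106 D289
theorem N141 : nd 141 = n290 := ndS (p := 106) (l := 3) rfl N106 D290
theorem N142 : nd 142 = n291 := ndS (p := 107) (l := 0) rfl N107 D291
theorem N143 : nd 143 = n321 := ndS (p := 108) (l := 2) rfl N108 D321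
theorem N144 : nd 144 = n322 := ndS (p := 109) (l := 1) rfl N109 D322
theorem N145 : nd 145 = n323 := ndS (p := 110) (l := 1) rfl N110 D323
theorem N146 : nd 146 = n324 := ndS (p := 110) (l := 3) rfl N110 D324
theorem N147 : nd 147 = n325 := ndS (p := 111) (l := 0) rfl N111 D325
theorem N148 : nd 148 = n326 := ndS (p := 111) (l := 3) rfl N111 D326
theorem N149 : nd 149 = n327 := ndS (p := 112) (l := 4) rfl N112 D327
theorem N150 : nd 150 = n335 := ndS (p := 113) (l := 0) rfl N113 D335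
theorem N151 : nd 151 = n336 := ndS (p := 113) (l := 3) rfl N113 D336
theorem N152 : nd 152 = n337 := ndS (p := 115) (l := 1) rfl N115 D337
theorem N153 : nd 153 = n345 := ndS (p := 118) (l := 2) rfl N118 D345
theorem N154 : nd 154 = n346 := ndS (p := 119) (l := 1) rfl N119 D346
theorem N155 : nd 155 = n347 := ndS (p := 119) (l := 3) rfl N119 D347
theorem N156 : nd 156 = n348 := ndS (p := 120) (l := 1) rfl N120 D348
theorem N157 : nd 157 = n349 := ndS (p := 120) (l := 3) rfl N120 D349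
theorem N158 : nd 158 = n350 := ndS (p := 121) (l := 0) rfl N121 D350
theorem N159 : nd 159 = n351 := ndS (p := 121) (l := 3) rfl N121 D351
theorem N160 : nd 160 = n352 := ndS (p := 122) (l := 4) rfl N122 D352
theorem N161 : nd 161 = n353 := ndS (p := 123) (l := 0) rfl N123 D353
theorem N162 : nd 162 = n355 := ndS (p := 124) (l := 4) rfl N124 D355
theorem N163 : nd 163 = n357 := ndS (p := 125) (l := 3) rfl N125 D357
theorem N164 : nd 164 = n359 := ndS (p := 127) (l := 1) rfl N127 D359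
theorem N165 : nd 165 = n361 := ndS (p := 129) (l := 1) rfl N129 D361
theorem N166 : nd 166 = n362 := ndS (p := 129) (l := 3) rfl N129 D362
theorem N167 : nd 167 = n363 := ndS (p := 130) (l := 2) rfl N130 D363
theorem N168 : nd 168 = n364 := ndS (p := 131) (l := 0) rfl N131 D364
theorem N169 : nd 169 = n365 := ndS (p := 131) (l := 2) rfl N131 D365
theorem N170 : nd 170 = n366 := ndS (p := 132) (l := 0) rfl N132 D366
theorem N171 : nd 171 = n367 := ndS (p := 132) (l := 2) rfl N132 D367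
theorem N172 : nd 172 = n368 := ndS (p := 132) (l := 3) rfl N132 D368
theorem N173 : nd 173 = n369 := ndS (p := 133) (l := 2) rfl N133 D369
theorem N174 : nd 174 = n370 := ndS (p := 134) (l := 3) rfl N134 D370
theorem N175 : nd 175 = n371 := ndS (p := 135) (l := 2) rfl N135 D371
theorem N176 : nd 176 = n372 := ndS (p := 136) (l := 3) rfl N136 D372
theorem N177 : nd 177 = n433 := ndS (p := 137) (l := 1) rfl N137 D433
theorem N178 : nd 178 = n435 := ndS (p := 138) (l := 0) rfl N138 D435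
theorem N179 : nd 179 = n436 := ndS (p := 138) (l := 3) rfl N138 D436
theorem N180 : nd 180 = n438 := ndS (p := 140) (l := 0) rfl N140 D438
theorem N181 : nd 181 = n439 := ndS (p := 140) (l := 3) rfl N140 D439
theorem N182 : nd 182 = n440 := ndS (p := 142) (l := 1) rfl N142 D440
theorem N183 : nd 183 = n483 := ndS (p := 143) (l := 1) rfl N143 D483
theorem N184 : nd 184 = n485 := ndS (p := 144) (l := 0) rfl N144 D485
theorem N185 : nd 185 = n486 := ndS (p := 145) (l := 0) rfl N145 D486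
theorem N186 : nd 186 = n487 := ndS (p := 145) (l := 3) rfl N145 D487
theorem N187 : nd 187 = n489 := ndS (p := 147) (l := 1) rfl N147 D489
theorem N188 : nd 188 = n490 := ndS (p := 147) (l := 3) rfl N147 D490
theorem N189 : nd 189 = n491 := ndS (p := 148) (l := 2) rfl N148 D491
theorem N190 : nd 190 = n492 := ndS (p := 148) (l := 4) rfl N148 D492
theorem N191 : nd 191 = n503 := ndS (p := 150) (l := 1) rfl N150 D503
theorem N192 : nd 192 = n504 := ndS (p := 150) (l := 3) rfl N150 D504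
theorem N193 : nd 193 = n505 := ndS (p := 151) (l := 2) rfl N151 D505
theorem N194 : nd 194 = n506 := ndS (p := 152) (l := 0) rfl N152 D506
theorem N195 : nd 195 = n518 := ndS (p := 153) (l := 1) rfl N153 D518
theorem N196 : nd 196 = n520 := ndS (p := 154) (l := 0) rfl N154 D520
theorem N197 : nd 197 = n521 := ndS (p := 154) (l := 3) rfl N154 D521
theorem N198 : nd 198 = n523 := ndS (p := 156) (l := 0) rfl N156 D523
theorem N199 : nd 199 = n524 := ndS (p := 156) (l := 3) rfl N156 D524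
theorem N200 : nd 200 = n525 := ndS (p := 157) (l := 4) rfl N157 D525
theorem N201 : nd 201 = n526 := ndS (p := 158) (l := 1) rfl N158 D526
theorem N202 : nd 202 = n527 := ndS (p := 158) (l := 3) rfl N158 D527
theorem N203 : nd 203 = n528 := ndS (p := 159) (l := 2) rfl N159 D528
theorem N204 : nd 204 = n529 := ndS (p := 159) (l := 4) rfl N159 D529
theorem N205 : nd 205 = n541 := ndS (p := 165) (l := 0) rfl N165 D541
theorem N206 : nd 206 = n543 := ndS (p := 165) (l := 3) rfl N165 D543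
theorem N207 : nd 207 = n544 := ndS (p := 166) (l := 2) rfl N166 D544
theorem N208 : nd 208 = n548 := ndS (p := 170) (l := 2) rfl N170 D548
theorem N209 : nd 209 = n550 := ndS (p := 171) (l := 3) rfl N171 D550
theorem N210 : nd 210 = n552 := ndS (p := 173) (l := 1) rfl N173 D552
theorem N211 : nd 211 = n553 := ndS (p := 173) (l := 3) rfl N173 D553
theorem N212 : nd 212 = n556 := ndS (p := 175) (l := 3) rfl N175 D556
theorem N213 : nd 213 = n557 := ndS (p := 176) (l := 2) rfl N176 D557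
theorem N214 : nd 214 = n558 := ndS (p := 176) (l := 4) rfl N176 D558
theorem N215 : nd 215 = n574 := ndS (p := 177) (l := 0) rfl N177 D574
theorem N216 : nd 216 = n575 := ndS (p := 178) (l := 1) rfl N178 D575
theorem N217 : nd 217 = n576 := ndS (p := 178) (l := 3) rfl N178 D576
theorem N218 : nd 218 = n577 := ndS (p := 179) (l := 2) rfl N179 D577
theorem N219 : nd 219 = n578 := ndS (p := 180) (l := 1) rfl N180 D578
theorem N220 : nd 220 = n579 := ndS (p := 180) (l := 3) rfl N180 D579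
theorem N221 : nd 221 = n580 := ndS (p := 181) (l := 2) rfl N181 D580
theorem N222 : nd 222 = n581 := ndS (p := 182) (l := 0) rfl N182 D581
theorem N223 : nd 223 = n582 := ndS (p := 182) (l := 2) rfl N182 D582
theorem N224 : nd 224 = n583 := ndS (p := 184) (l := 1) rfl N184 D583
theorem N225 : nd 225 = n584 := ndS (p := 185) (l := 1) rfl N185 D584
theorem N226 : nd 226 = n585 := ndS (p := 185) (l := 3) rfl N185 D585
theorem N227 : nd 227 = n588 := ndS (p := 187) (l := 3) rfl N187 D588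
theorem N228 : nd 228 = n589 := ndS (p := 188) (l := 2) rfl N188 D589
theorem N229 : nd 229 = n590 := ndS (p := 188) (l := 4) rfl N188 D590
theorem N230 : nd 230 = n591 := ndS (p := 189) (l := 3) rfl N189 D591
theorem N231 : nd 231 = n592 := ndS (p := 189) (l := 4) rfl N189 D592
theorem N232 : nd 232 = n593 := ndS (p := 191) (l := 0) rfl N191 D593
theorem N233 : nd 233 = n594 := ndS (p := 191) (l := 3) rfl N191 D594
theorem N234 : nd 234 = n595 := ndS (p := 195) (l := 0) rfl N195 D595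
theorem N235 : nd 235 = n596 := ndS (p := 196) (l := 3) rfl N196 D596
theorem N236 : nd 236 = n597 := ndS (p := 197) (l := 2) rfl N197 D597
theorem N237 : nd 237 = n598 := ndS (p := 198) (l := 1) rfl N198 D598
theorem N238 : nd 238 = n599 := ndS (p := 201) (l := 3) rfl N201 D599
theorem N239 : nd 239 = n600 := ndS (p := 202) (l := 2) rfl N202 D600
theorem N240 : nd 240 = n601 := ndS (p := 203) (l := 3) rfl N203 D601
theorem N241 : nd 241 = n602 := ndS (p := 203) (l := 4) rfl N203 D602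
theorem N242 : nd 242 = n603 := ndS (p := 207) (l := 1) rfl N207 D603
theorem N243 : nd 243 = n604 := ndS (p := 208) (l := 3) rfl N208 D604
theorem N244 : nd 244 = n605 := ndS (p := 209) (l := 4) rfl N209 D605
theorem N245 : nd 245 = n606 := ndS (p := 210) (l := 0) rfl N210 D606
theorem N246 : nd 246 = n607 := ndS (p := 210) (l := 3) rfl N210 D607
theorem N247 : nd 247 = n608 := ndS (p := 212) (l := 2) rfl N212 D608
theorem N248 : nd 248 = n609 := ndS (p := 212) (l := 4) rfl N212 D609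
theorem N249 : nd 249 = n610 := ndS (p := 213) (l := 1) rfl N213 D610
theorem N250 : nd 250 = n611 := ndS (p := 213) (l := 3) rfl N213 D611
theorem N251 : nd 251 = n612 := ndS (p := 213) (l := 4) rfl N213 D612
theorem N252 : nd 252 = n613 := ndS (p := 216) (l := 2) rfl N216 D613
theorem N253 : nd 253 = n614 := ndS (p := 219) (l := 0) rfl N219 D614
theorem N254 : nd 254 = n615 := ndS (p := 219) (l := 2) rfl N219 D615
theorem N255 : nd 255 = n616 := ndS (p := 219) (l := 3) rfl N219 D616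
theorem N256 : nd 256 = n617 := ndS (p := 223) (l := 3) rfl N223 D617
theorem N257 : nd 257 = n618 := ndS (p := 228) (l := 4) rfl N228 D618
theorem N258 : nd 258 = n619 := ndS (p := 230) (l := 4) rfl N230 D619
theorem N259 : nd 259 = n620 := ndS (p := 231) (l := 3) rfl N231 D620
theorem N260 : nd 260 = n621 := ndS (p := 232) (l := 3) rfl N232 D621
theorem N261 : nd 261 = n622 := ndS (p := 236) (l := 3) rfl N236 D622
theorem N262 : nd 262 = n623 := ndS (p := 239) (l := 1) rfl N239 D623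
theorem N263 : nd 263 = n624 := ndS (p := 239) (l := 3) rfl N239 D624
theorem N264 : nd 264 = n625 := ndS (p := 240) (l := 2) rfl N240 D625
theorem N265 : nd 265 = n626 := ndS (p := 240) (l := 4) rfl N240 D626
theorem N266 : nd 266 = n627 := ndS (p := 242) (l := 0) rfl N242 D627
theorem N267 : nd 267 = n628 := ndS (p := 245) (l := 1) rfl N245 D628
theorem N268 : nd 268 = n629 := ndS (p := 245) (l := 3) rfl N245 D629
theorem N269 : nd 269 = n630 := ndS (p := 247) (l := 4) rfl N247 D630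
theorem N270 : nd 270 = n632 := ndS (p := 249) (l := 3) rfl N249 D632
theorem N271 : nd 271 = n633 := ndS (p := 249) (l := 4) rfl N249 D633
theorem N272 : nd 272 = n634 := ndS (p := 251) (l := 3) rfl N251 D634
theorem N273 : nd 273 = n635 := ndS (p := 253) (l := 3) rfl N253 D635
theorem N274 : nd 274 = n636 := ndS (p := 257) (l := 3) rfl N257 D636
theorem N275 : nd 275 = n637 := ndS (p := 262) (l := 3) rfl N262 D637
theorem N276 : nd 276 = n638 := ndS (p := 266) (l := 1) rfl N266 D638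
theorem N277 : nd 277 = n639 := ndS (p := 267) (l := 3) rfl N267 D639
theorem N278 : nd 278 = n640 := ndS (p := 271) (l := 3) rfl N271 D640
theorem N279 : nd 279 = n641 := ndS (p := 277) (l := 2) rfl N277 D641
theorem Q1 : ∀ i, i < 1 → P i := stepQ 0 Q0 (allL N0 (tt N0 F1) (tt N0 F2) (tt N0 F3) (tt N0 F4) (tt N1 D1))
theorem Q2 : ∀ i, i < 2 → P i := stepQ 1 Q1 (allL N1 (tt N1 F5) (tt N1 F6) (tt N1 F7) (tt N2 D2) (tt N0 (iv D1)))
theorem Q3 : ∀ i, i < 3 → P i := stepQ 2 Q2 (allL N2 (tt N2 F8) (tt N2 F9) (tt N3 D3) (tt N1 (iv D2)) (tt N2 F10))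
theorem Q4 : ∀ i, i < 4 → P i := stepQ 3 Q3 (allL N3 (tt N3 F11) (tt N4 D4) (tt N2 (iv D3)) (tt N5 D5) (tt N3 F12))
theorem Q5 : ∀ i, i < 5 → P i := stepQ 4 Q4 (allL N4 (tt N6 D6) (tt N3 (iv D4)) (tt N4 F13) (tt N7 D7) (tt N4 F14))
theorem Q6 : ∀ i, i < 6 → P i := stepQ 5 Q5 (allL N5 (tt N5 F15) (tt N7 (iv F19)) (tt N5 F16) (tt N3 (iv D5)) (tt N8 D8))
theorem Q7 : ∀ i, i < 7 → P i := stepQ 6 Q6 (allL N6 (tt N4 (iv D6)) (tt N9 D9) (tt N6 F17) (tt N10 D10) (tt N6 F18))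
theorem Q8 : ∀ i, i < 8 → P i := stepQ 7 Q7 (allL N7 (tt N10 (iv F24)) (tt N5 F19) (tt N11 D11) (tt N4 (iv D7)) (tt N12 D12))
theorem Q9 : ∀ i, i < 9 → P i := stepQ 8 Q8 (allL N8 (tt N8 F20) (tt N12 (iv F26)) (tt N8 F21) (tt N8 F22) (tt N5 (iv D8)))
theorem Q10 : ∀ i, i < 10 → P i := stepQ 9 Q9 (allL N9 (tt N13 D13) (tt N6 (iv D9)) (tt N13 (iv F738)) (tt N14 D15) (tt N9 F23))
theorem Q11 : ∀ i, i < 11 → P i := stepQ 10 Q10 (allL N10 (tt N7 F24) (tt N14 (iv F32)) (tt N15 D16) (tt N6 (iv D10)) (tt N16 D17))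
theorem Q12 : ∀ i, i < 12 → P i := stepQ 11 Q11 (allL N11 (tt N15 (iv F33)) (tt N11 F25) (tt N7 (iv D11)) (tt N17 D18) (tt N18 D19))
theorem Q13 : ∀ i, i < 13 → P i := stepQ 12 Q12 (allL N12 (tt N16 (iv F34)) (tt N8 F26) (tt N18 (iv F38)) (tt N12 F27) (tt N7 (iv D12)))
theorem Q14 : ∀ i, i < 14 → P i := stepQ 13 Q13 (allL N13 (tt N9 (iv D13)) (tt N13 F28) (tt N9 F738) (tt N19 D21) (tt N13 F29))
theorem Q15 : ∀ i, i < 15 → P i := stepQ 14 Q14 (allL N14 (tt N19 (iv F41)) (tt N10 F32) (tt N20 D23) (tt N9 (iv D15)) (tt N21 D24))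
theorem Q16 : ∀ i, i < 16 → P i := stepQ 15 Q15 (allL N15 (tt N11 F33) (tt N22 D25) (tt N10 (iv D16)) (tt N23 D26) (tt N24 D27))
theorem Q17 : ∀ i, i < 17 → P i := stepQ 16 Q16 (allL N16 (tt N12 F34) (tt N21 (iv F44)) (tt N24 (iv F49)) (tt N16 F35) (tt N10 (iv D17)))
theorem Q18 : ∀ i, i < 18 → P i := stepQ 17 Q17 (allL N17 (tt N23 (iv F46)) (tt N17 F36) (tt N23 (iv F47)) (tt N11 (iv D18)) (tt N25 D28))
theorem Q19 : ∀ i, i < 19 → P i := stepQ 18 Q18 (allL N18 (tt N24 (iv F48)) (tt N18 F37) (tt N12 F38) (tt N26 D29) (tt N11 (iv D19)))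
theorem Q20 : ∀ i, i < 20 → P i := stepQ 19 Q19 (allL N19 (tt N14 F41) (tt N19 F42) (tt N27 D32) (tt N13 (iv D21)) (tt N28 D33))
theorem Q21 : ∀ i, i < 21 → P i := stepQ 20 Q20 (allL N20 (tt N27 (iv F55)) (tt N29 D36) (tt N14 (iv D23)) (tt N30 D37) (tt N31 D38))
theorem Q22 : ∀ i, i < 22 → P i := stepQ 21 Q21 (allL N21 (tt N28 (iv F56)) (tt N16 F44) (tt N31 (iv F62)) (tt N21 F45) (tt N14 (iv D24)))
theorem Q23 : ∀ i, i < 23 → P i := stepQ 22 Q22 (allL N22 (tt N32 D39) (tt N15 (iv D25)) (tt N29 (iv F61)) (tt N33 D40) (tt N34 D41))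
theorem Q24 : ∀ i, i < 24 → P i := stepQ 23 Q23 (allL N23 (tt N17 F46) (tt N33 (iv F63)) (tt N17 F47) (tt N15 (iv D26)) (tt N35 D42))
theorem Q25 : ∀ i, i < 25 → P i := stepQ 24 Q24 (allL N24 (tt N18 F48) (tt N34 (iv F65)) (tt N16 F49) (tt N36 D43) (tt N15 (iv D27)))
theorem Q26 : ∀ i, i < 26 → P i := stepQ 25 Q25 (allL N25 (tt N35 (iv F66)) (tt N25 F50) (tt N35 (iv F67)) (tt N37 D44) (tt N17 (iv D28)))
theorem Q27 : ∀ i, i < 27 → P i := stepQ 26 Q26 (allL N26 (tt N36 (iv F68)) (tt N26 F51) (tt N38 D45) (tt N18 (iv D29)) (tt N37 (iv F70)))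
theorem Q28 : ∀ i, i < 28 → P i := stepQ 27 Q27 (allL N27 (tt N20 F55) (tt N39 D50) (tt N19 (iv D32)) (tt N40 D51) (tt N41 D52))
theorem Q29 : ∀ i, i < 29 → P i := stepQ 28 Q28 (allL N28 (tt N21 F56) (tt N28 F57) (tt N41 (iv F80)) (tt N28 F58) (tt N19 (iv D33)))
theorem Q30 : ∀ i, i < 30 → P i := stepQ 29 Q29 (allL N29 (tt N42 D56) (tt N20 (iv D36)) (tt N22 F61) (tt N43 D57) (tt N44 D58))
theorem Q31 : ∀ i, i < 31 → P i := stepQ 30 Q30 (allL N30 (tt N40 (iv F78)) (tt N43 (iv F85)) (tt N30 F736) (tt N20 (iv D37)) (tt N45 D60))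
theorem Q32 : ∀ i, i < 32 → P i := stepQ 31 Q31 (allL N31 (tt N41 (iv F79)) (tt N44 (iv F86)) (tt N21 F62) (tt N46 D61) (tt N20 (iv D38)))
theorem Q33 : ∀ i, i < 33 → P i := stepQ 32 Q32 (allL N32 (tt N22 (iv D39)) (tt N47 D62) (tt N42 (iv F84)) (tt N48 D63) (tt N49 D64))
theorem Q34 : ∀ i, i < 34 → P i := stepQ 33 Q33 (allL N33 (tt N48 (iv F91)) (tt N23 F63) (tt N33 F64) (tt N22 (iv D40)) (tt N50 D65))
theorem Q35 : ∀ i, i < 35 → P i := stepQ 34 Q34 (allL N34 (tt N49 (iv F93)) (tt N24 F65) (tt N44 (iv F87)) (tt N51 D66) (tt N22 (iv D41)))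
theorem Q36 : ∀ i, i < 36 → P i := stepQ 35 Q35 (allL N35 (tt N25 F66) (tt N50 (iv F94)) (tt N25 F67) (tt N52 D67) (tt N23 (iv D42)))
theorem Q37 : ∀ i, i < 37 → P i := stepQ 36 Q36 (allL N36 (tt N26 F68) (tt N51 (iv F96)) (tt N53 D68) (tt N24 (iv D43)) (tt N52 (iv F98)))
theorem Q38 : ∀ i, i < 38 → P i := stepQ 37 Q37 (allL N37 (tt N52 (iv F97)) (tt N37 F69) (tt N54 D69) (tt N25 (iv D44)) (tt N26 F70))
theorem Q39 : ∀ i, i < 39 → P i := stepQ 38 Q38 (allL N38 (tt N53 (iv F99)) (tt N55 D70) (tt N26 (iv D45)) (tt N53 (iv F100)) (tt N54 (iv F101)))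
theorem Q40 : ∀ i, i < 40 → P i := stepQ 39 Q39 (allL N39 (tt N39 F739) (tt N27 (iv D50)) (tt N39 F77) (tt N56 D78) (tt N57 D79))
theorem Q41 : ∀ i, i < 41 → P i := stepQ 40 Q40 (allL N40 (tt N30 F78) (tt N56 (iv F111)) (tt N40 F740) (tt N27 (iv D51)) (tt N58 D80))
theorem Q42 : ∀ i, i < 42 → P i := stepQ 41 Q41 (allL N41 (tt N31 F79) (tt N57 (iv F112)) (tt N28 F80) (tt N59 D81) (tt N27 (iv D52)))
theorem Q43 : ∀ i, i < 43 → P i := stepQ 42 Q42 (allL N42 (tt N29 (iv D56)) (tt N42 F727) (tt N32 F84) (tt N60 D88) (tt N61 D89))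
theorem Q44 : ∀ i, i < 44 → P i := stepQ 43 Q43 (allL N43 (tt N60 (iv F121)) (tt N30 F85) (tt N60 (iv F122)) (tt N29 (iv D57)) (tt N62 D90))
theorem Q45 : ∀ i, i < 45 → P i := stepQ 44 Q44 (allL N44 (tt N61 (iv F123)) (tt N31 F86) (tt N34 F87) (tt N63 D91) (tt N29 (iv D58)))
theorem Q46 : ∀ i, i < 46 → P i := stepQ 45 Q45 (allL N45 (tt N58 (iv F114)) (tt N62 (iv F125)) (tt N45 F741) (tt N64 D94) (tt N30 (iv D60)))
theorem Q47 : ∀ i, i < 47 → P i := stepQ 46 Q46 (allL N46 (tt N59 (iv F115)) (tt N63 (iv F126)) (tt N65 D95) (tt N31 (iv D61)) (tt N64 (iv F130)))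
theorem Q48 : ∀ i, i < 48 → P i := stepQ 47 Q47 (allL N47 (tt N47 F90) (tt N32 (iv D62)) (tt N47 F721) (tt N66 D97) (tt N67 D98))
theorem Q49 : ∀ i, i < 49 → P i := stepQ 48 Q48 (allL N48 (tt N33 F91) (tt N66 (iv F133)) (tt N48 F92) (tt N32 (iv D63)) (tt N68 D99))
theorem Q50 : ∀ i, i < 50 → P i := stepQ 49 Q49 (allL N49 (tt N34 F93) (tt N67 (iv F135)) (tt N61 (iv F124)) (tt N69 D100) (tt N32 (iv D64)))
theorem Q51 : ∀ i, i < 51 → P i := stepQ 50 Q50 (allL N50 (tt N68 (iv F136)) (tt N35 F94) (tt N50 F95) (tt N70 D101) (tt N33 (iv D65)))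
theorem Q52 : ∀ i, i < 52 → P i := stepQ 51 Q51 (allL N51 (tt N69 (iv F138)) (tt N36 F96) (tt N71 D102) (tt N34 (iv D66)) (tt N70 (iv F140)))
theorem Q53 : ∀ i, i < 53 → P i := stepQ 52 Q52 (allL N52 (tt N37 F97) (tt N70 (iv F139)) (tt N72 D103) (tt N35 (iv D67)) (tt N36 F98))
theorem Q54 : ∀ i, i < 54 → P i := stepQ 53 Q53 (allL N53 (tt N38 F99) (tt N73 D104) (tt N36 (iv D68)) (tt N38 F100) (tt N72 (iv F142)))
theorem Q55 : ∀ i, i < 55 → P i := stepQ 54 Q54 (allL N54 (tt N72 (iv F141)) (tt N74 D105) (tt N37 (iv D69)) (tt N75 D106) (tt N38 F101))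
theorem Q56 : ∀ i, i < 56 → P i := stepQ 55 Q55 (allL N55 (tt N76 D107) (tt N38 (iv D70)) (tt N55 F102) (tt N73 (iv F143)) (tt N74 (iv F145)))
theorem Q57 : ∀ i, i < 57 → P i := stepQ 56 Q56 (allL N56 (tt N56 F743) (tt N40 F111) (tt N77 D121) (tt N39 (iv D78)) (tt N78 D122))
theorem Q58 : ∀ i, i < 58 → P i := stepQ 57 Q57 (allL N57 (tt N57 F742) (tt N41 F112) (tt N57 F113) (tt N79 D123) (tt N39 (iv D79)))
theorem Q59 : ∀ i, i < 59 → P i := stepQ 58 Q58 (allL N58 (tt N45 F114) (tt N78 (iv F163)) (tt N58 F744) (tt N80 D124) (tt N40 (iv D80)))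
theorem Q60 : ∀ i, i < 60 → P i := stepQ 59 Q59 (allL N59 (tt N46 F115) (tt N79 (iv F164)) (tt N81 D125) (tt N41 (iv D81)) (tt N80 (iv F166)))
theorem Q61 : ∀ i, i < 61 → P i := stepQ 60 Q60 (allL N60 (tt N43 F121) (tt N60 F730) (tt N43 F122) (tt N42 (iv D88)) (tt N82 D138))
theorem Q62 : ∀ i, i < 62 → P i := stepQ 61 Q61 (allL N61 (tt N44 F123) (tt N61 F729) (tt N49 F124) (tt N83 D139) (tt N42 (iv D89)))
theorem Q63 : ∀ i, i < 63 → P i := stepQ 62 Q62 (allL N62 (tt N82 (iv F180)) (tt N45 F125) (tt N82 (iv F181)) (tt N84 D140) (tt N43 (iv D90)))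
theorem Q64 : ∀ i, i < 64 → P i := stepQ 63 Q63 (allL N63 (tt N83 (iv F182)) (tt N46 F126) (tt N85 D141) (tt N44 (iv D91)) (tt N84 (iv F184)))
theorem Q65 : ∀ i, i < 65 → P i := stepQ 64 Q64 (allL N64 (tt N80 (iv F165)) (tt N84 (iv F183)) (tt N86 D145) (tt N45 (iv D94)) (tt N46 F130))
theorem Q66 : ∀ i, i < 66 → P i := stepQ 65 Q65 (allL N65 (tt N81 (iv F167)) (tt N87 D146) (tt N46 (iv D95)) (tt N81 (iv F168)) (tt N86 (iv F189)))
theorem Q67 : ∀ i, i < 67 → P i := stepQ 66 Q66 (allL N66 (tt N66 F132) (tt N48 F133) (tt N88 D149) (tt N47 (iv D97)) (tt N89 D150))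
theorem Q68 : ∀ i, i < 68 → P i := stepQ 67 Q67 (allL N67 (tt N67 F134) (tt N49 F135) (tt N67 F724) (tt N90 D151) (tt N47 (iv D98)))
theorem Q69 : ∀ i, i < 69 → P i := stepQ 68 Q68 (allL N68 (tt N50 F136) (tt N89 (iv F196)) (tt N68 F137) (tt N91 D152) (tt N48 (iv D99)))
theorem Q70 : ∀ i, i < 70 → P i := stepQ 69 Q69 (allL N69 (tt N51 F138) (tt N90 (iv F198)) (tt N92 D153) (tt N49 (iv D100)) (tt N91 (iv F200)))
theorem Q71 : ∀ i, i < 71 → P i := stepQ 70 Q70 (allL N70 (tt N91 (iv F199)) (tt N52 F139) (tt N93 D154) (tt N50 (iv D101)) (tt N51 F140))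
theorem Q72 : ∀ i, i < 72 → P i := stepQ 71 Q71 (allL N71 (tt N92 (iv F201)) (tt N94 D155) (tt N51 (iv D102)) (tt N95 D156) (tt N93 (iv F202)))
theorem Q73 : ∀ i, i < 73 → P i := stepQ 72 Q72 (allL N72 (tt N54 F141) (tt N96 D157) (tt N52 (iv D103)) (tt N97 D158) (tt N53 F142))
theorem Q74 : ∀ i, i < 74 → P i := stepQ 73 Q73 (allL N73 (tt N98 D159) (tt N53 (iv D104)) (tt N94 (iv F203)) (tt N55 F143) (tt N96 (iv F204)))
theorem Q75 : ∀ i, i < 75 → P i := stepQ 74 Q74 (allL N74 (tt N99 D160) (tt N54 (iv D105)) (tt N74 F144) (tt N100 D161) (tt N55 F145))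
theorem Q76 : ∀ i, i < 76 → P i := stepQ 75 Q75 (allL N75 (tt N97 (iv F205)) (tt N100 (iv F211)) (tt N75 F146) (tt N54 (iv D106)) (tt N97 (iv F207)))
theorem Q77 : ∀ i, i < 77 → P i := stepQ 76 Q76 (allL N76 (tt N55 (iv D107)) (tt N101 D162) (tt N76 F147) (tt N98 (iv F208)) (tt N99 (iv F210)))
theorem Q78 : ∀ i, i < 78 → P i := stepQ 77 Q77 (allL N77 (tt N77 F746) (tt N77 F747) (tt N56 (iv D121)) (tt N102 D185) (tt N103 D186))
theorem Q79 : ∀ i, i < 79 → P i := stepQ 78 Q78 (allL N78 (tt N78 F748) (tt N58 F163) (tt N103 (iv F237)) (tt N104 D187) (tt N56 (iv D122)))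
theorem Q80 : ∀ i, i < 80 → P i := stepQ 79 Q79 (allL N79 (tt N79 F745) (tt N59 F164) (tt N105 D188) (tt N57 (iv D123)) (tt N104 (iv F239)))
theorem Q81 : ∀ i, i < 81 → P i := stepQ 80 Q80 (allL N80 (tt N64 F165) (tt N104 (iv F238)) (tt N106 D189) (tt N58 (iv D124)) (tt N59 F166))
theorem Q82 : ∀ i, i < 82 → P i := stepQ 81 Q81 (allL N81 (tt N65 F167) (tt N107 D190) (tt N59 (iv D125)) (tt N65 F168) (tt N106 (iv F241)))
theorem Q83 : ∀ i, i < 83 → P i := stepQ 82 Q82 (allL N82 (tt N62 F180) (tt N82 F734) (tt N62 F181) (tt N108 D211) (tt N60 (iv D138)))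
theorem Q84 : ∀ i, i < 84 → P i := stepQ 83 Q83 (allL N83 (tt N63 F182) (tt N83 F732) (tt N109 D212) (tt N61 (iv D139)) (tt N108 (iv F266)))
theorem Q85 : ∀ i, i < 85 → P i := stepQ 84 Q84 (allL N84 (tt N108 (iv F265)) (tt N64 F183) (tt N110 D213) (tt N62 (iv D140)) (tt N63 F184))
theorem Q86 : ∀ i, i < 86 → P i := stepQ 85 Q85 (allL N85 (tt N109 (iv F267)) (tt N111 D214) (tt N63 (iv D141)) (tt N112 D215) (tt N110 (iv F268)))
theorem Q87 : ∀ i, i < 87 → P i := stepQ 86 Q86 (allL N86 (tt N106 (iv F240)) (tt N113 D220) (tt N64 (iv D145)) (tt N114 D221) (tt N65 F189))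
theorem Q88 : ∀ i, i < 88 → P i := stepQ 87 Q87 (allL N87 (tt N115 D222) (tt N65 (iv D146)) (tt N111 (iv F269)) (tt N107 (iv F242)) (tt N113 (iv F276)))
theorem Q89 : ∀ i, i < 89 → P i := stepQ 88 Q88 (allL N88 (tt N88 F193) (tt N88 F194) (tt N66 (iv D149)) (tt N116 D226) (tt N117 D227))
theorem Q90 : ∀ i, i < 90 → P i := stepQ 89 Q89 (allL N89 (tt N89 F195) (tt N68 F196) (tt N117 (iv F284)) (tt N118 D228) (tt N66 (iv D150)))
theorem Q91 : ∀ i, i < 91 → P i := stepQ 90 Q90 (allL N90 (tt N90 F197) (tt N69 F198) (tt N119 D229) (tt N67 (iv D151)) (tt N118 (iv F287)))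
theorem Q92 : ∀ i, i < 92 → P i := stepQ 91 Q91 (allL N91 (tt N70 F199) (tt N118 (iv F286)) (tt N120 D230) (tt N68 (iv D152)) (tt N69 F200))
theorem Q93 : ∀ i, i < 93 → P i := stepQ 92 Q92 (allL N92 (tt N71 F201) (tt N121 D231) (tt N69 (iv D153)) (tt N122 D232) (tt N120 (iv F290)))
theorem Q94 : ∀ i, i < 94 → P i := stepQ 93 Q93 (allL N93 (tt N120 (iv F289)) (tt N123 D233) (tt N70 (iv D154)) (tt N124 D234) (tt N71 F202))
theorem Q95 : ∀ i, i < 95 → P i := stepQ 94 Q94 (allL N94 (tt N125 D235) (tt N71 (iv D155)) (tt N73 F203) (tt N126 D236) (tt N123 (iv F294)))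
theorem Q96 : ∀ i, i < 96 → P i := stepQ 95 Q95 (allL N95 (tt N122 (iv F291)) (tt N126 (iv F296)) (tt N127 D237) (tt N71 (iv D156)) (tt N128 D238))
theorem Q97 : ∀ i, i < 97 → P i := stepQ 96 Q96 (allL N96 (tt N129 D239) (tt N72 (iv D157)) (tt N123 (iv F293)) (tt N130 D240) (tt N73 F204))
theorem Q98 : ∀ i, i < 98 → P i := stepQ 97 Q97 (allL N97 (tt N75 F205) (tt N130 (iv F300)) (tt N97 F206) (tt N72 (iv D158)) (tt N75 F207))
theorem Q99 : ∀ i, i < 99 → P i := stepQ 98 Q98 (allL N98 (tt N73 (iv D159)) (tt N131 D241) (tt N125 (iv F295)) (tt N76 F208) (tt N129 (iv F299)))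
theorem Q100 : ∀ i, i < 100 → P i := stepQ 99 Q99 (allL N99 (tt N74 (iv D160)) (tt N132 D242) (tt N99 F209) (tt N133 D243) (tt N76 F210))
theorem Q101 : ∀ i, i < 101 → P i := stepQ 100 Q100 (allL N100 (tt N133 (iv F304)) (tt N75 F211) (tt N134 D244) (tt N74 (iv D161)) (tt N130 (iv F301)))
theorem Q102 : ∀ i, i < 102 → P i := stepQ 101 Q101 (allL N101 (tt N135 D245) (tt N76 (iv D162)) (tt N136 D246) (tt N131 (iv F302)) (tt N132 (iv F303)))
theorem Q103 : ∀ i, i < 103 → P i := stepQ 102 Q102 (allL N102 (tt N102 F751) (tt N102 F752) (tt N102 F753) (tt N77 (iv D185)) (tt N116 F772))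
theorem Q104 : ∀ i, i < 104 → P i := stepQ 103 Q103 (allL N103 (tt N103 F754) (tt N103 F755) (tt N78 F237) (tt N117 F773) (tt N77 (iv D186)))
theorem Q105 : ∀ i, i < 105 → P i := stepQ 104 Q104 (allL N104 (tt N104 F750) (tt N80 F238) (tt N137 D286) (tt N78 (iv D187)) (tt N79 F239))
theorem Q106 : ∀ i, i < 106 → P i := stepQ 105 Q105 (allL N105 (tt N105 F749) (tt N138 D287) (tt N79 (iv D188)) (tt N139 D288) (tt N137 (iv F350)))
theorem Q107 : ∀ i, i < 107 → P i := stepQ 106 Q106 (allL N106 (tt N86 F240) (tt N140 D289) (tt N80 (iv D189)) (tt N141 D290) (tt N81 F241))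
theorem Q108 : ∀ i, i < 108 → P i := stepQ 107 Q107 (allL N107 (tt N142 D291) (tt N81 (iv D190)) (tt N138 (iv F351)) (tt N87 F242) (tt N140 (iv F352)))
theorem Q109 : ∀ i, i < 109 → P i := stepQ 108 Q108 (allL N108 (tt N84 F265) (tt N108 F735) (tt N143 D321) (tt N82 (iv D211)) (tt N83 F266))
theorem Q110 : ∀ i, i < 110 → P i := stepQ 109 Q109 (allL N109 (tt N85 F267) (tt N144 D322) (tt N83 (iv D212)) (tt N127 (iv F298)) (tt N143 (iv F387)))
theorem Q111 : ∀ i, i < 111 → P i := stepQ 110 Q110 (allL N110 (tt N143 (iv F386)) (tt N145 D323) (tt N84 (iv D213)) (tt N146 D324) (tt N85 F268))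
theorem Q112 : ∀ i, i < 112 → P i := stepQ 111 Q111 (allL N111 (tt N147 D325) (tt N85 (iv D214)) (tt N87 F269) (tt N148 D326) (tt N145 (iv F389)))
theorem Q113 : ∀ i, i < 113 → P i := stepQ 112 Q112 (allL N112 (tt N127 (iv F297)) (tt N148 (iv F392)) (tt N122 (iv F292)) (tt N85 (iv D215)) (tt N149 D327))
theorem Q114 : ∀ i, i < 114 → P i := stepQ 113 Q113 (allL N113 (tt N150 D335) (tt N86 (iv D220)) (tt N145 (iv F388)) (tt N151 D336) (tt N87 F276))
theorem Q115 : ∀ i, i < 115 → P i := stepQ 114 Q114 (allL N114 (tt N141 (iv F353)) (tt N151 (iv F404)) (tt N141 (iv F759)) (tt N86 (iv D221)) (tt N141 (iv F354)))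
theorem Q116 : ∀ i, i < 116 → P i := stepQ 115 Q115 (allL N115 (tt N87 (iv D222)) (tt N152 D337) (tt N147 (iv F391)) (tt N142 (iv F355)) (tt N150 (iv F403)))
theorem Q117 : ∀ i, i < 117 → P i := stepQ 116 Q116 (allL N116 (tt N116 F280) (tt N116 F281) (tt N116 F728) (tt N88 (iv D226)) (tt N102 (iv F772)))
theorem Q118 : ∀ i, i < 118 → P i := stepQ 117 Q117 (allL N117 (tt N117 F282) (tt N117 F283) (tt N89 F284) (tt N103 (iv F773)) (tt N88 (iv D227)))
theorem Q119 : ∀ i, i < 119 → P i := stepQ 118 Q118 (allL N118 (tt N118 F285) (tt N91 F286) (tt N153 D345) (tt N89 (iv D228)) (tt N90 F287))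
theorem Q120 : ∀ i, i < 120 → P i := stepQ 119 Q119 (allL N119 (tt N119 F288) (tt N154 D346) (tt N90 (iv D229)) (tt N155 D347) (tt N153 (iv F417)))
theorem Q121 : ∀ i, i < 121 → P i := stepQ 120 Q120 (allL N120 (tt N93 F289) (tt N156 D348) (tt N91 (iv D230)) (tt N157 D349) (tt N92 F290))
theorem Q122 : ∀ i, i < 122 → P i := stepQ 121 Q121 (allL N121 (tt N158 D350) (tt N92 (iv D231)) (tt N154 (iv F418)) (tt N159 D351) (tt N156 (iv F420)))
theorem Q123 : ∀ i, i < 123 → P i := stepQ 122 Q122 (allL N122 (tt N95 F291) (tt N159 (iv F423)) (tt N112 F292) (tt N92 (iv D232)) (tt N160 D352))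
theorem Q124 : ∀ i, i < 124 → P i := stepQ 123 Q123 (allL N123 (tt N161 D353) (tt N93 (iv D233)) (tt N96 F293) (tt N161 F778) (tt N94 F294))
theorem Q125 : ∀ i, i < 125 → P i := stepQ 124 Q124 (allL N124 (tt N157 (iv F421)) (tt N161 F779) (tt N157 (iv F422)) (tt N93 (iv D234)) (tt N162 D355))
theorem Q126 : ∀ i, i < 126 → P i := stepQ 125 Q125 (allL N125 (tt N94 (iv D235)) (tt N162 (iv F780)) (tt N98 F295) (tt N163 D357) (tt N161 (iv F427)))
theorem Q127 : ∀ i, i < 127 → P i := stepQ 126 Q126 (allL N126 (tt N163 (iv F430)) (tt N95 F296) (tt N163 (iv F431)) (tt N94 (iv D236)) (tt N163 F783))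
theorem Q128 : ∀ i, i < 128 → P i := stepQ 127 Q127 (allL N127 (tt N112 F297) (tt N164 D359) (tt N95 (iv D237)) (tt N109 F298) (tt N164 F786))
theorem Q129 : ∀ i, i < 129 → P i := stepQ 128 Q128 (allL N128 (tt N160 (iv F424)) (tt N163 F782) (tt N164 (iv F784)) (tt N162 (iv F429)) (tt N95 (iv D238)))
theorem Q130 : ∀ i, i < 130 → P i := stepQ 129 Q129 (allL N129 (tt N96 (iv D239)) (tt N165 D361) (tt N161 (iv F426)) (tt N166 D362) (tt N98 F299))
theorem Q131 : ∀ i, i < 131 → P i := stepQ 130 Q130 (allL N130 (tt N166 (iv F437)) (tt N97 F300) (tt N167 D363) (tt N96 (iv D240)) (tt N100 F301))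
theorem Q132 : ∀ i, i < 132 → P i := stepQ 131 Q131 (allL N131 (tt N168 D364) (tt N98 (iv D241)) (tt N169 D365) (tt N101 F302) (tt N165 (iv F436)))
theorem Q133 : ∀ i, i < 133 → P i := stepQ 132 Q132 (allL N132 (tt N170 D366) (tt N99 (iv D242)) (tt N171 D367) (tt N172 D368) (tt N101 F303))
theorem Q134 : ∀ i, i < 134 → P i := stepQ 133 Q133 (allL N133 (tt N100 F304) (tt N172 (iv F446)) (tt N173 D369) (tt N99 (iv D243)) (tt N166 (iv F438)))
theorem Q135 : ∀ i, i < 135 → P i := stepQ 134 Q134 (allL N134 (tt N173 (iv F447)) (tt N134 F305) (tt N100 (iv D244)) (tt N174 D370) (tt N167 (iv F440)))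
theorem Q136 : ∀ i, i < 136 → P i := stepQ 135 Q135 (allL N135 (tt N101 (iv D245)) (tt N168 (iv F441)) (tt N175 D371) (tt N168 (iv F442)) (tt N170 (iv F443)))
theorem Q137 : ∀ i, i < 137 → P i := stepQ 136 Q136 (allL N136 (tt N175 (iv F449)) (tt N136 F306) (tt N101 (iv D246)) (tt N176 D372) (tt N171 (iv F445)))
theorem Q138 : ∀ i, i < 138 → P i := stepQ 137 Q137 (allL N137 (tt N137 F758) (tt N177 D433) (tt N104 (iv D286)) (tt N153 (iv F774)) (tt N105 F350))
theorem Q139 : ∀ i, i < 139 → P i := stepQ 138 Q138 (allL N138 (tt N178 D435) (tt N105 (iv D287)) (tt N107 F351) (tt N179 D436) (tt N177 (iv F519)))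
theorem Q140 : ∀ i, i < 140 → P i := stepQ 139 Q139 (allL N139 (tt N139 F756) (tt N179 (iv F521)) (tt N139 F757) (tt N105 (iv D288)) (tt N155 (iv F795)))
theorem Q141 : ∀ i, i < 141 → P i := stepQ 140 Q140 (allL N140 (tt N180 D438) (tt N106 (iv D289)) (tt N177 (iv F518)) (tt N181 D439) (tt N107 F352))
theorem Q142 : ∀ i, i < 142 → P i := stepQ 141 Q141 (allL N141 (tt N114 F353) (tt N181 (iv F523)) (tt N114 F759) (tt N106 (iv D290)) (tt N114 F354))
theorem Q143 : ∀ i, i < 143 → P i := stepQ 142 Q142 (allL N142 (tt N107 (iv D291)) (tt N182 D440) (tt N178 (iv F520)) (tt N115 F355) (tt N180 (iv F522)))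
theorem Q144 : ∀ i, i < 144 → P i := stepQ 143 Q143 (allL N143 (tt N110 F386) (tt N183 D483) (tt N108 (iv D321)) (tt N183 (iv F792)) (tt N109 F387))
theorem Q145 : ∀ i, i < 145 → P i := stepQ 144 Q144 (allL N144 (tt N184 D485) (tt N109 (iv D322)) (tt N144 F737) (tt N164 (iv F433)) (tt N183 (iv F566)))
theorem Q146 : ∀ i, i < 146 → P i := stepQ 145 Q145 (allL N145 (tt N185 D486) (tt N110 (iv D323)) (tt N113 F388) (tt N186 D487) (tt N111 F389))
theorem Q147 : ∀ i, i < 147 → P i := stepQ 146 Q146 (allL N146 (tt N183 (iv F790)) (tt N186 (iv F571)) (tt N146 F390) (tt N110 (iv D324)) (tt N184 (iv F789)))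
theorem Q148 : ∀ i, i < 148 → P i := stepQ 147 Q147 (allL N147 (tt N111 (iv D325)) (tt N187 D489) (tt N115 F391) (tt N188 D490) (tt N185 (iv F570)))
theorem Q149 : ∀ i, i < 149 → P i := stepQ 148 Q148 (allL N148 (tt N188 (iv F574)) (tt N112 F392) (tt N189 D491) (tt N111 (iv D326)) (tt N190 D492))
theorem Q150 : ∀ i, i < 150 → P i := stepQ 149 Q149 (allL N149 (tt N164 F785) (tt N190 (iv F575)) (tt N160 (iv F425)) (tt N184 (iv F788)) (tt N112 (iv D327)))
theorem Q151 : ∀ i, i < 151 → P i := stepQ 150 Q150 (allL N150 (tt N113 (iv D335)) (tt N191 D503) (tt N185 (iv F569)) (tt N192 D504) (tt N115 F403))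
theorem Q152 : ∀ i, i < 152 → P i := stepQ 151 Q151 (allL N151 (tt N192 (iv F590)) (tt N114 F404) (tt N193 D505) (tt N113 (iv D336)) (tt N181 (iv F524)))
theorem Q153 : ∀ i, i < 153 → P i := stepQ 152 Q152 (allL N152 (tt N194 D506) (tt N115 (iv D337)) (tt N194 (iv F832)) (tt N182 (iv F525)) (tt N191 (iv F589)))
theorem Q154 : ∀ i, i < 154 → P i := stepQ 153 Q153 (allL N153 (tt N153 F416) (tt N195 D518) (tt N118 (iv D345)) (tt N137 F774) (tt N119 F417))
theorem Q155 : ∀ i, i < 155 → P i := stepQ 154 Q154 (allL N154 (tt N196 D520) (tt N119 (iv D346)) (tt N121 F418) (tt N197 D521) (tt N195 (iv F611)))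
theorem Q156 : ∀ i, i < 156 → P i := stepQ 155 Q155 (allL N155 (tt N155 F419) (tt N197 (iv F614)) (tt N155 F733) (tt N119 (iv D347)) (tt N139 F795))
theorem Q157 : ∀ i, i < 157 → P i := stepQ 156 Q156 (allL N156 (tt N198 D523) (tt N120 (iv D348)) (tt N195 (iv F610)) (tt N199 D524) (tt N121 F420))
theorem Q158 : ∀ i, i < 158 → P i := stepQ 157 Q157 (allL N157 (tt N124 F421) (tt N199 (iv F617)) (tt N124 F422) (tt N120 (iv D349)) (tt N200 D525))
theorem Q159 : ∀ i, i < 159 → P i := stepQ 158 Q158 (allL N158 (tt N121 (iv D350)) (tt N201 D526) (tt N196 (iv F613)) (tt N202 D527) (tt N198 (iv F616)))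
theorem Q160 : ∀ i, i < 160 → P i := stepQ 159 Q159 (allL N159 (tt N202 (iv F621)) (tt N122 F423) (tt N203 D528) (tt N121 (iv D351)) (tt N204 D529))
theorem Q161 : ∀ i, i < 161 → P i := stepQ 160 Q160 (allL N160 (tt N128 F424) (tt N204 (iv F623)) (tt N149 F425) (tt N200 (iv F620)) (tt N122 (iv D352)))
theorem Q162 : ∀ i, i < 162 → P i := stepQ 161 Q161 (allL N161 (tt N123 (iv D353)) (tt N124 (iv F779)) (tt N129 F426) (tt N123 (iv F778)) (tt N125 F427))
theorem Q163 : ∀ i, i < 163 → P i := stepQ 162 Q162 (allL N162 (tt N200 (iv F618)) (tt N125 F780) (tt N200 (iv F619)) (tt N128 F429) (tt N124 (iv D355)))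
theorem Q164 : ∀ i, i < 164 → P i := stepQ 163 Q163 (allL N163 (tt N126 F430) (tt N128 (iv F782)) (tt N126 F431) (tt N125 (iv D357)) (tt N126 (iv F783)))
theorem Q165 : ∀ i, i < 165 → P i := stepQ 164 Q164 (allL N164 (tt N149 (iv F785)) (tt N127 (iv D359)) (tt N128 F784) (tt N144 F433) (tt N127 (iv F786)))
theorem Q166 : ∀ i, i < 166 → P i := stepQ 165 Q165 (allL N165 (tt N205 D541) (tt N129 (iv D361)) (tt N199 (iv F799)) (tt N206 D543) (tt N131 F436))
theorem Q167 : ∀ i, i < 167 → P i := stepQ 166 Q166 (allL N166 (tt N130 F437) (tt N206 (iv F641)) (tt N207 D544) (tt N129 (iv D362)) (tt N133 F438))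
theorem Q168 : ∀ i, i < 168 → P i := stepQ 167 Q167 (allL N167 (tt N207 (iv F643)) (tt N167 F439) (tt N130 (iv D363)) (tt N167 F775) (tt N134 F440))
theorem Q169 : ∀ i, i < 169 → P i := stepQ 168 Q168 (allL N168 (tt N131 (iv D364)) (tt N135 F441) (tt N201 (iv F797)) (tt N135 F442) (tt N205 (iv F639)))
theorem Q170 : ∀ i, i < 170 → P i := stepQ 169 Q169 (allL N169 (tt N201 (iv F796)) (tt N200 (iv F781)) (tt N131 (iv D365)) (tt N204 (iv F798)) (tt N199 (iv F800)))
theorem Q171 : ∀ i, i < 171 → P i := stepQ 170 Q170 (allL N170 (tt N132 (iv D366)) (tt N205 (iv F638)) (tt N208 D548) (tt N193 (iv F804)) (tt N135 F443))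
theorem Q172 : ∀ i, i < 172 → P i := stepQ 171 Q171 (allL N171 (tt N208 (iv F647)) (tt N171 F444) (tt N132 (iv D367)) (tt N209 D550) (tt N136 F445))
theorem Q173 : ∀ i, i < 173 → P i := stepQ 172 Q172 (allL N172 (tt N193 (iv F803)) (tt N133 F446) (tt N192 (iv F805)) (tt N132 (iv D368)) (tt N206 (iv F642)))
theorem Q174 : ∀ i, i < 174 → P i := stepQ 173 Q173 (allL N173 (tt N134 F447) (tt N210 D552) (tt N133 (iv D369)) (tt N211 D553) (tt N207 (iv F644)))
theorem Q175 : ∀ i, i < 175 → P i := stepQ 174 Q174 (allL N174 (tt N211 (iv F651)) (tt N174 F448) (tt N211 (iv F652)) (tt N134 (iv D370)) (tt N174 F777))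
theorem Q176 : ∀ i, i < 176 → P i := stepQ 175 Q175 (allL N175 (tt N136 F449) (tt N196 (iv F801)) (tt N135 (iv D371)) (tt N212 D556) (tt N208 (iv F648)))
theorem Q177 : ∀ i, i < 177 → P i := stepQ 176 Q176 (allL N176 (tt N212 (iv F654)) (tt N176 F450) (tt N213 D557) (tt N136 (iv D372)) (tt N214 D558))
theorem Q178 : ∀ i, i < 178 → P i := stepQ 177 Q177 (allL N177 (tt N215 D574) (tt N137 (iv D433)) (tt N140 F518) (tt N195 (iv F793)) (tt N138 F519))
theorem Q179 : ∀ i, i < 179 → P i := stepQ 178 Q178 (allL N178 (tt N138 (iv D435)) (tt N216 D575) (tt N142 F520) (tt N217 D576) (tt N215 (iv F807)))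
theorem Q180 : ∀ i, i < 180 → P i := stepQ 179 Q179 (allL N179 (tt N217 (iv F808)) (tt N139 F521) (tt N218 D577) (tt N138 (iv D436)) (tt N197 F794))
theorem Q181 : ∀ i, i < 181 → P i := stepQ 180 Q180 (allL N180 (tt N140 (iv D438)) (tt N219 D578) (tt N215 (iv F806)) (tt N220 D579) (tt N142 F522))
theorem Q182 : ∀ i, i < 182 → P i := stepQ 181 Q181 (allL N181 (tt N220 (iv F811)) (tt N141 F523) (tt N221 D580) (tt N140 (iv D439)) (tt N151 F524))
theorem Q183 : ∀ i, i < 183 → P i := stepQ 182 Q182 (allL N182 (tt N222 D581) (tt N142 (iv D440)) (tt N223 D582) (tt N152 F525) (tt N219 (iv F810)))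
theorem Q184 : ∀ i, i < 184 → P i := stepQ 183 Q183 (allL N183 (tt N146 F790) (tt N143 (iv D483)) (tt N183 F791) (tt N143 F792) (tt N144 F566))
theorem Q185 : ∀ i, i < 185 → P i := stepQ 184 Q184 (allL N184 (tt N144 (iv D485)) (tt N224 D583) (tt N184 F787) (tt N149 F788) (tt N146 F789))
theorem Q186 : ∀ i, i < 186 → P i := stepQ 185 Q185 (allL N185 (tt N145 (iv D486)) (tt N225 D584) (tt N150 F569) (tt N226 D585) (tt N147 F570))
theorem Q187 : ∀ i, i < 187 → P i := stepQ 186 Q186 (allL N186 (tt N226 (iv F823)) (tt N146 F571) (tt N209 (iv F771)) (tt N145 (iv D487)) (tt N224 (iv F821)))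
theorem Q188 : ∀ i, i < 188 → P i := stepQ 187 Q187 (allL N187 (tt N223 (iv F833)) (tt N147 (iv D489)) (tt N222 (iv F831)) (tt N227 D588) (tt N225 (iv F822)))
theorem Q189 : ∀ i, i < 189 → P i := stepQ 188 Q188 (allL N188 (tt N148 F574) (tt N227 (iv F825)) (tt N228 D589) (tt N147 (iv D490)) (tt N229 D590))
theorem Q190 : ∀ i, i < 190 → P i := stepQ 189 Q189 (allL N189 (tt N228 (iv F826)) (tt N203 (iv F622)) (tt N148 (iv D491)) (tt N230 D591) (tt N231 D592))
theorem Q191 : ∀ i, i < 191 → P i := stepQ 190 Q190 (allL N190 (tt N229 (iv F834)) (tt N149 F575) (tt N231 (iv F837)) (tt N224 (iv F820)) (tt N148 (iv D492)))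
theorem Q192 : ∀ i, i < 192 → P i := stepQ 191 Q191 (allL N191 (tt N232 D593) (tt N150 (iv D503)) (tt N232 F839) (tt N233 D594) (tt N152 F589))
theorem Q193 : ∀ i, i < 193 → P i := stepQ 192 Q192 (allL N192 (tt N151 F590) (tt N233 (iv F840)) (tt N172 F805) (tt N150 (iv D504)) (tt N220 (iv F812)))
theorem Q194 : ∀ i, i < 194 → P i := stepQ 193 Q193 (allL N193 (tt N172 F803) (tt N221 (iv F815)) (tt N151 (iv D505)) (tt N170 F804) (tt N221 (iv F816)))
theorem Q195 : ∀ i, i < 195 → P i := stepQ 194 Q194 (allL N194 (tt N152 (iv D506)) (tt N222 (iv F818)) (tt N152 F832) (tt N222 (iv F819)) (tt N232 (iv F838)))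
theorem Q196 : ∀ i, i < 196 → P i := stepQ 195 Q195 (allL N195 (tt N234 D595) (tt N153 (iv D518)) (tt N156 F610) (tt N177 F793) (tt N154 F611))
theorem Q197 : ∀ i, i < 197 → P i := stepQ 196 Q196 (allL N196 (tt N154 (iv D520)) (tt N175 F801) (tt N158 F613) (tt N235 D596) (tt N234 (iv F844)))
theorem Q198 : ∀ i, i < 198 → P i := stepQ 197 Q197 (allL N197 (tt N235 (iv F846)) (tt N155 F614) (tt N236 D597) (tt N154 (iv D521)) (tt N179 (iv F794)))
theorem Q199 : ∀ i, i < 199 → P i := stepQ 198 Q198 (allL N198 (tt N156 (iv D523)) (tt N237 D598) (tt N234 (iv F842)) (tt N237 F854) (tt N158 F616))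
theorem Q200 : ∀ i, i < 200 → P i := stepQ 199 Q199 (allL N199 (tt N237 (iv F851)) (tt N157 F617) (tt N165 F799) (tt N156 (iv D524)) (tt N169 F800))
theorem Q201 : ∀ i, i < 201 → P i := stepQ 200 Q200 (allL N200 (tt N162 F618) (tt N169 F781) (tt N162 F619) (tt N160 F620) (tt N157 (iv D525)))
theorem Q202 : ∀ i, i < 202 → P i := stepQ 201 Q201 (allL N201 (tt N169 F796) (tt N158 (iv D526)) (tt N168 F797) (tt N238 D599) (tt N237 (iv F853)))
theorem Q203 : ∀ i, i < 203 → P i := stepQ 202 Q202 (allL N202 (tt N159 F621) (tt N238 (iv F856)) (tt N239 D600) (tt N158 (iv D527)) (tt N238 (iv F857)))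
theorem Q204 : ∀ i, i < 204 → P i := stepQ 203 Q203 (allL N203 (tt N239 (iv F858)) (tt N189 F622) (tt N159 (iv D528)) (tt N240 D601) (tt N241 D602))
theorem Q205 : ∀ i, i < 205 → P i := stepQ 204 Q204 (allL N204 (tt N238 (iv F855)) (tt N160 F623) (tt N241 (iv F861)) (tt N169 F798) (tt N159 (iv D529)))
theorem Q206 : ∀ i, i < 206 → P i := stepQ 205 Q205 (allL N205 (tt N165 (iv D541)) (tt N170 F638) (tt N237 (iv F852)) (tt N221 (iv F817)) (tt N168 F639))
theorem Q207 : ∀ i, i < 207 → P i := stepQ 206 Q206 (allL N206 (tt N221 (iv F814)) (tt N166 F641) (tt N220 (iv F813)) (tt N165 (iv D543)) (tt N172 F642))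
theorem Q208 : ∀ i, i < 208 → P i := stepQ 207 Q207 (allL N207 (tt N167 F643) (tt N242 D603) (tt N166 (iv D544)) (tt N207 F776) (tt N173 F644))
theorem Q209 : ∀ i, i < 209 → P i := stepQ 208 Q208 (allL N208 (tt N171 F647) (tt N234 F845) (tt N170 (iv D548)) (tt N243 D604) (tt N175 F648))
theorem Q210 : ∀ i, i < 210 → P i := stepQ 209 Q209 (allL N209 (tt N243 (iv F864)) (tt N209 F650) (tt N186 F771) (tt N171 (iv D550)) (tt N244 D605))
theorem Q211 : ∀ i, i < 211 → P i := stepQ 210 Q210 (allL N210 (tt N245 D606) (tt N173 (iv D552)) (tt N233 F841) (tt N246 D607) (tt N242 (iv F863)))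
theorem Q212 : ∀ i, i < 212 → P i := stepQ 211 Q211 (allL N211 (tt N174 F651) (tt N246 (iv F872)) (tt N174 F652) (tt N173 (iv D553)) (tt N211 F802))
theorem Q213 : ∀ i, i < 213 → P i := stepQ 212 Q212 (allL N212 (tt N176 F654) (tt N235 (iv F847)) (tt N247 D608) (tt N175 (iv D556)) (tt N248 D609))
theorem Q214 : ∀ i, i < 214 → P i := stepQ 213 Q213 (allL N213 (tt N247 (iv F875)) (tt N249 D610) (tt N176 (iv D557)) (tt N250 D611) (tt N251 D612))
theorem Q215 : ∀ i, i < 215 → P i := stepQ 214 Q214 (allL N214 (tt N248 (iv F877)) (tt N214 F655) (tt N251 (iv F884)) (tt N244 (iv F871)) (tt N176 (iv D558)))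
theorem Q216 : ∀ i, i < 216 → P i := stepQ 215 Q215 (allL N215 (tt N177 (iv D574)) (tt N243 (iv F865)) (tt N180 F806) (tt N234 (iv F843)) (tt N178 F807))
theorem Q217 : ∀ i, i < 217 → P i := stepQ 216 Q216 (allL N216 (tt N244 (iv F868)) (tt N178 (iv D575)) (tt N252 D613) (tt N248 (iv F879)) (tt N243 F867))
theorem Q218 : ∀ i, i < 218 → P i := stepQ 217 Q217 (allL N217 (tt N179 F808) (tt N248 (iv F878)) (tt N230 (iv F836)) (tt N178 (iv D576)) (tt N235 (iv F848)))
theorem Q219 : ∀ i, i < 219 → P i := stepQ 218 Q218 (allL N218 (tt N230 (iv F835)) (tt N218 F809) (tt N179 (iv D577)) (tt N228 (iv F827)) (tt N236 (iv F850)))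
theorem Q220 : ∀ i, i < 220 → P i := stepQ 219 Q219 (allL N219 (tt N253 D614) (tt N180 (iv D578)) (tt N254 D615) (tt N255 D616) (tt N182 F810))
theorem Q221 : ∀ i, i < 221 → P i := stepQ 220 Q220 (allL N220 (tt N181 F811) (tt N255 (iv F896)) (tt N206 F813) (tt N180 (iv D579)) (tt N192 F812))
theorem Q222 : ∀ i, i < 222 → P i := stepQ 221 Q221 (allL N221 (tt N206 F814) (tt N193 F815) (tt N181 (iv D580)) (tt N205 F817) (tt N193 F816))
theorem Q223 : ∀ i, i < 223 → P i := stepQ 222 Q222 (allL N222 (tt N182 (iv D581)) (tt N194 F818) (tt N187 F831) (tt N194 F819) (tt N253 (iv F890)))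
theorem Q224 : ∀ i, i < 224 → P i := stepQ 223 Q223 (allL N223 (tt N187 F833) (tt N252 (iv F886)) (tt N182 (iv D582)) (tt N256 D617) (tt N254 (iv F894)))
theorem Q225 : ∀ i, i < 225 → P i := stepQ 224 Q224 (allL N224 (tt N252 (iv F885)) (tt N184 (iv D583)) (tt N244 (iv F870)) (tt N190 F820) (tt N186 F821))
theorem Q226 : ∀ i, i < 226 → P i := stepQ 225 Q225 (allL N225 (tt N254 (iv F892)) (tt N185 (iv D584)) (tt N253 F891) (tt N254 F895) (tt N187 F822))
theorem Q227 : ∀ i, i < 227 → P i := stepQ 226 Q226 (allL N226 (tt N186 F823) (tt N254 (iv F893)) (tt N243 (iv F866)) (tt N185 (iv D585)) (tt N252 (iv F887)))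
theorem Q228 : ∀ i, i < 228 → P i := stepQ 227 Q227 (allL N227 (tt N256 (iv F899)) (tt N188 F825) (tt N227 F830) (tt N187 (iv D588)) (tt N256 (iv F902)))
theorem Q229 : ∀ i, i < 229 → P i := stepQ 228 Q228 (allL N228 (tt N189 F826) (tt N228 F829) (tt N188 (iv D589)) (tt N218 F827) (tt N257 D618))
theorem Q230 : ∀ i, i < 230 → P i := stepQ 229 Q229 (allL N229 (tt N190 F834) (tt N256 (iv F900)) (tt N257 (iv F905)) (tt N252 F888) (tt N188 (iv D590)))
theorem Q231 : ∀ i, i < 231 → P i := stepQ 230 Q230 (allL N230 (tt N218 F835) (tt N240 (iv F859)) (tt N217 F836) (tt N189 (iv D591)) (tt N258 D619))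
theorem Q232 : ∀ i, i < 232 → P i := stepQ 231 Q231 (allL N231 (tt N257 (iv F903)) (tt N241 (iv F860)) (tt N190 F837) (tt N259 D620) (tt N189 (iv D592)))
theorem Q233 : ∀ i, i < 233 → P i := stepQ 232 Q232 (allL N232 (tt N191 (iv D593)) (tt N253 (iv F889)) (tt N191 (iv F839)) (tt N260 D621) (tt N194 F838))
theorem Q234 : ∀ i, i < 234 → P i := stepQ 233 Q233 (allL N233 (tt N260 (iv F909)) (tt N192 F840) (tt N210 (iv F841)) (tt N191 (iv D594)) (tt N255 (iv F897)))
theorem Q235 : ∀ i, i < 235 → P i := stepQ 234 Q234 (allL N234 (tt N195 (iv D595)) (tt N208 (iv F845)) (tt N198 F842) (tt N215 F843) (tt N196 F844))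
theorem Q236 : ∀ i, i < 236 → P i := stepQ 235 Q235 (allL N235 (tt N197 F846) (tt N212 F847) (tt N258 (iv F907)) (tt N196 (iv D596)) (tt N217 F848))
theorem Q237 : ∀ i, i < 237 → P i := stepQ 236 Q236 (allL N236 (tt N258 (iv F906)) (tt N236 F849) (tt N197 (iv D597)) (tt N261 D622) (tt N218 F850))
theorem Q238 : ∀ i, i < 238 → P i := stepQ 237 Q237 (allL N237 (tt N199 F851) (tt N198 (iv D598)) (tt N205 F852) (tt N198 (iv F854)) (tt N201 F853))
theorem Q239 : ∀ i, i < 239 → P i := stepQ 238 Q238 (allL N238 (tt N204 F855) (tt N202 F856) (tt N250 (iv F882)) (tt N201 (iv D599)) (tt N202 F857))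
theorem Q240 : ∀ i, i < 240 → P i := stepQ 239 Q239 (allL N239 (tt N203 F858) (tt N262 D623) (tt N202 (iv D600)) (tt N263 D624) (tt N250 F883))
theorem Q241 : ∀ i, i < 241 → P i := stepQ 240 Q240 (allL N240 (tt N263 (iv F913)) (tt N230 F859) (tt N264 D625) (tt N203 (iv D601)) (tt N265 D626))
theorem Q242 : ∀ i, i < 242 → P i := stepQ 241 Q241 (allL N241 (tt N250 (iv F881)) (tt N231 F860) (tt N204 F861) (tt N247 (iv F876)) (tt N203 (iv D602)))
theorem Q243 : ∀ i, i < 243 → P i := stepQ 242 Q242 (allL N242 (tt N266 D627) (tt N207 (iv D603)) (tt N255 (iv F898)) (tt N242 F862) (tt N210 F863))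
theorem Q244 : ∀ i, i < 244 → P i := stepQ 243 Q243 (allL N243 (tt N209 F864) (tt N215 F865) (tt N226 F866) (tt N208 (iv D604)) (tt N216 (iv F867)))
theorem Q245 : ∀ i, i < 245 → P i := stepQ 244 Q244 (allL N244 (tt N216 F868) (tt N244 F869) (tt N224 F870) (tt N214 F871) (tt N209 (iv D605)))
theorem Q246 : ∀ i, i < 246 → P i := stepQ 245 Q245 (allL N245 (tt N210 (iv D606)) (tt N267 D628) (tt N260 F910) (tt N268 D629) (tt N266 (iv F921)))
theorem Q247 : ∀ i, i < 247 → P i := stepQ 246 Q246 (allL N246 (tt N268 (iv F923)) (tt N211 F872) (tt N246 F874) (tt N210 (iv D607)) (tt N246 F873))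
theorem Q248 : ∀ i, i < 248 → P i := stepQ 247 Q247 (allL N247 (tt N213 F875) (tt N259 (iv F908)) (tt N212 (iv D608)) (tt N241 F876) (tt N269 D630))
theorem Q249 : ∀ i, i < 249 → P i := stepQ 248 Q248 (allL N248 (tt N214 F877) (tt N217 F878) (tt N269 (iv F928)) (tt N216 F879) (tt N212 (iv D609)))
theorem Q250 : ∀ i, i < 250 → P i := stepQ 249 Q249 (allL N249 (tt N249 F935) (tt N213 (iv D610)) (tt N249 F880) (tt N270 D632) (tt N271 D633))
theorem Q251 : ∀ i, i < 251 → P i := stepQ 250 Q250 (allL N250 (tt N241 F881) (tt N270 (iv F931)) (tt N238 F882) (tt N213 (iv D611)) (tt N239 (iv F883)))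
theorem Q252 : ∀ i, i < 252 → P i := stepQ 251 Q251 (allL N251 (tt N269 (iv F926)) (tt N271 (iv F937)) (tt N214 F884) (tt N272 D634) (tt N213 (iv D612)))
theorem Q253 : ∀ i, i < 253 → P i := stepQ 252 Q252 (allL N252 (tt N224 F885) (tt N223 F886) (tt N216 (iv D613)) (tt N229 (iv F888)) (tt N226 F887))
theorem Q254 : ∀ i, i < 254 → P i := stepQ 253 Q253 (allL N253 (tt N219 (iv D614)) (tt N232 F889) (tt N225 (iv F891)) (tt N273 D635) (tt N222 F890))
theorem Q255 : ∀ i, i < 255 → P i := stepQ 254 Q254 (allL N254 (tt N225 F892) (tt N226 F893) (tt N219 (iv D615)) (tt N225 (iv F895)) (tt N223 F894))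
theorem Q256 : ∀ i, i < 256 → P i := stepQ 255 Q255 (allL N255 (tt N273 (iv F941)) (tt N220 F896) (tt N242 F898) (tt N219 (iv D616)) (tt N233 F897))
theorem Q257 : ∀ i, i < 257 → P i := stepQ 256 Q256 (allL N256 (tt N227 F899) (tt N229 F900) (tt N256 F901) (tt N223 (iv D617)) (tt N227 F902))
theorem Q258 : ∀ i, i < 258 → P i := stepQ 257 Q257 (allL N257 (tt N231 F903) (tt N257 F904) (tt N229 F905) (tt N274 D636) (tt N228 (iv D618)))
theorem Q259 : ∀ i, i < 259 → P i := stepQ 258 Q258 (allL N258 (tt N236 F906) (tt N265 (iv F918)) (tt N235 F907) (tt N264 (iv F916)) (tt N230 (iv D619)))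
theorem Q260 : ∀ i, i < 260 → P i := stepQ 259 Q259 (allL N259 (tt N274 (iv F945)) (tt N247 F908) (tt N265 (iv F919)) (tt N231 (iv D620)) (tt N264 F917))
theorem Q261 : ∀ i, i < 261 → P i := stepQ 260 Q260 (allL N260 (tt N233 F909) (tt N273 (iv F942)) (tt N245 (iv F910)) (tt N232 (iv D621)) (tt N273 (iv F943)))
theorem Q262 : ∀ i, i < 262 → P i := stepQ 261 Q261 (allL N261 (tt N264 (iv F915)) (tt N261 F911) (tt N263 (iv F914)) (tt N236 (iv D622)) (tt N274 (iv F948)))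
theorem Q263 : ∀ i, i < 263 → P i := stepQ 262 Q262 (allL N262 (tt N262 F912) (tt N239 (iv D623)) (tt N270 F933) (tt N275 D637) (tt N270 F934))
theorem Q264 : ∀ i, i < 264 → P i := stepQ 263 Q263 (allL N263 (tt N240 F913) (tt N275 (iv F950)) (tt N261 F914) (tt N239 (iv D624)) (tt N272 (iv F940)))
theorem Q265 : ∀ i, i < 265 → P i := stepQ 264 Q264 (allL N264 (tt N261 F915) (tt N269 (iv F927)) (tt N240 (iv D625)) (tt N258 F916) (tt N259 (iv F917)))
theorem Q266 : ∀ i, i < 266 → P i := stepQ 265 Q265 (allL N265 (tt N272 (iv F939)) (tt N258 F918) (tt N259 F919) (tt N269 (iv F929)) (tt N240 (iv D626)))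
theorem Q267 : ∀ i, i < 267 → P i := stepQ 266 Q266 (allL N266 (tt N242 (iv D627)) (tt N276 D638) (tt N273 (iv F944)) (tt N266 F920) (tt N245 F921))
theorem Q268 : ∀ i, i < 268 → P i := stepQ 267 Q267 (allL N267 (tt N267 F922) (tt N245 (iv D628)) (tt N276 (iv F953)) (tt N277 D639) (tt N276 (iv F955)))
theorem Q269 : ∀ i, i < 269 → P i := stepQ 268 Q268 (allL N268 (tt N246 F923) (tt N277 (iv F957)) (tt N268 F924) (tt N245 (iv D629)) (tt N268 F925))
theorem Q270 : ∀ i, i < 270 → P i := stepQ 269 Q269 (allL N269 (tt N251 F926) (tt N264 F927) (tt N248 F928) (tt N265 F929) (tt N247 (iv D630)))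
theorem Q271 : ∀ i, i < 271 → P i := stepQ 270 Q270 (allL N270 (tt N270 F932) (tt N250 F931) (tt N262 (iv F933)) (tt N249 (iv D632)) (tt N262 (iv F934)))
theorem Q272 : ∀ i, i < 272 → P i := stepQ 271 Q271 (allL N271 (tt N271 F936) (tt N251 F937) (tt N271 F938) (tt N278 D640) (tt N249 (iv D633)))
theorem Q273 : ∀ i, i < 273 → P i := stepQ 272 Q272 (allL N272 (tt N265 F939) (tt N278 (iv F960)) (tt N274 (iv F947)) (tt N251 (iv D634)) (tt N263 F940))
theorem Q274 : ∀ i, i < 274 → P i := stepQ 273 Q273 (allL N273 (tt N255 F941) (tt N260 F942) (tt N266 F944) (tt N253 (iv D635)) (tt N260 F943))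
theorem Q275 : ∀ i, i < 275 → P i := stepQ 274 Q274 (allL N274 (tt N259 F945) (tt N274 F946) (tt N272 F947) (tt N257 (iv D636)) (tt N261 F948))
theorem Q276 : ∀ i, i < 276 → P i := stepQ 275 Q275 (allL N275 (tt N275 F949) (tt N263 F950) (tt N275 F951) (tt N262 (iv D637)) (tt N278 (iv F961)))
theorem Q277 : ∀ i, i < 277 → P i := stepQ 276 Q276 (allL N276 (tt N276 F952) (tt N266 (iv D638)) (tt N267 F953) (tt N276 F954) (tt N267 F955))
theorem Q278 : ∀ i, i < 278 → P i := stepQ 277 Q277 (allL N277 (tt N277 F956) (tt N268 F957) (tt N279 D641) (tt N267 (iv D639)) (tt N277 F958))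
theorem Q279 : ∀ i, i < 279 → P i := stepQ 278 Q278 (allL N278 (tt N278 F959) (tt N272 F960) (tt N278 F962) (tt N271 (iv D640)) (tt N275 F961))
theorem Q280 : ∀ i, i < 280 → P i := stepQ 279 Q279 (allL N279 (tt N279 F963) (tt N279 F964) (tt N277 (iv D641)) (tt N279 F966) (tt N279 F965))

theorem closedN : ∀ i, i < N → P i := Q280

end Cfsg.Agent.Helper17.SuzP2TC
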