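import Cfsg.Agent.Helper17.SuzP2TC.Facts1

set_option autoImplicit false
set_option linter.all false
set_option maxRecDepth 100000

noncomputable section

namespace Cfsg.Agent.Helper17.SuzP2TC

def N : ℕ := 280

def nl : ℕ := 5

def parT : ℕ := 0x8ac3e170a83405fafb7cbe5eef57abc9e0f077bbdd8e873b99c8df6db6db6d86ab55aad46a349a4d16833d96cb653258cc56230d7ebf5eaf578bc5dae572b85b2d96ab45a2cd64b258ac160af56ab556aa532954a9f4fa793c9d4e271349a4ca612e964b251289349a45229047a39188c45229128843a190a8442211068341205027f3e9f0f67a3c9e4f0783b9dcec73389c4e06f379b8dc6d361acd46a349a4d06532990c66331180c05f2f978bc5d2e970b85b2d164b0582b958ac552a950a652289409e4e26934984a2512490482391c8c452210c8442209007e3e1e8f0763a1c8e070371b0d86a34198c86230178bc5c2d160ac542a148a04e271309448231108440201007c3c1d0e874361b0d86832180b8582c160a050281309848220f0783c1c0e0682c160a050241207038180c05020100603010040000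

def pletT : ℕ := 0x4d96db8e322265b7236828cc4c46634ca6188e26c941329911365a4c44cc6182133132c025860b4d34104c97046196516230c94196520992c44c32ca4e30cb2932938cb0196526e229371371064a4dc8d37237232937232e462329b9188cc4e466271c4c44cc6194e0

def par (i : ℕ) : ℕ := (parT >>> (9 * i)) &&& 511

def plet (i : ℕ) : ℕ := (pletT >>> (3 * i)) &&& 7

def chk (i p l : ℕ) : Bool :=
  decide (0 < i) && decide (i < N) && decide (par i = p) && decide (p < i) && decide (plet i = l)

def nd (i : ℕ) : Q :=
  if h : 0 < i ∧ i < N ∧ par i < i then act (plet i) (nd (par i)) else n0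
termination_by i
decreasing_by exact h.2.2

theorem nd_zero : nd 0 = n0 := by
  rw [nd, dif_neg]; omega

theorem nd_ge {i : ℕ} (h : N ≤ i) : nd i = n0 := by
  rw [nd, dif_neg]; omega

theorem nd_step {i p l : ℕ} (h : chk i p l = true) : nd i = act l (nd p) := by
  simp only [chk, Bool.and_eq_true, decide_eq_true_eq] at h
  obtain ⟨⟨⟨⟨h1, h2⟩, h3⟩, h4⟩, h5⟩ := h
  rw [nd, dif_pos ⟨h1, h2, h3 ▸ h4⟩, h3, h5]

theorem ndS {i p l : ℕ} {y x : Q} (h : chk i p l = true) (e : nd p = y) (F : act l y = x) :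
    nd i = x := by
  rw [nd_step h, e, F]

def P (i : ℕ) : Prop := ∀ l, l < nl → ∃ j, act l (nd i) = nd j

theorem tt {l j : ℕ} {x y : Q} (e : nd j = y) (F : act l x = y) : ∃ j, act l x = nd j :=
  ⟨j, F.trans e.symm⟩

theorem allL {i : ℕ} {x : Q} (e : nd i = x) (h0 : ∃ j, act 0 x = nd j) (h1 : ∃ j, act 1 x = nd j) (h2 : ∃ j, act 2 x = nd j) (h3 : ∃ j, act 3 x = nd j) (h4 : ∃ j, act 4 x = nd j) : P i := by
  intro l hl; rw [e]; unfold nl at hl; interval_cases l <;> assumption

theorem stepQ (k : ℕ) (h : ∀ i, i < k → P i) (hk : P k) : ∀ i, i < k + 1 → P i := by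
  intro i hi
  rcases Nat.lt_succ_iff_lt_or_eq.mp hi with h1 | h1
  · exact h i h1
  · exact h1 ▸ hk

theorem Q0 : ∀ i, i < 0 → P i := fun i h => absurd h (Nat.not_lt_zero i)

theorem N0 : nd 0 = n0 := nd_zero


end Cfsg.Agent.Helper17.SuzP2TC
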