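import Cfsg.Agent.Helper17.SuzP2TC.Base

set_option autoImplicit false
set_option linter.all false

noncomputable section

namespace Cfsg.Agent.Helper17.SuzP2TC

theorem c0_2 {p0 p1 p2 q2 q3 q4 q5 q6 q7 q8 q9 : Q} (h0 : act 1 p0 = p1) (h1 : act 0 p1 = p2) (h2 : act 1 q2 = q3) (h3 : act 0 q3 = q4) (h4 : act 1 q4 = q5) (h5 : act 0 q5 = q6) (h6 : act 1 q6 = q7) (h7 : act 0 q7 = q8) (h8 : act 1 q8 = q9) (h9 : act 0 q9 = p0) : p2 = q2 := by
  have hr := R0 p0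
  subst h0
  subst h1
  subst h9
  subst h8
  subst h7
  subst h6
  subst h5
  subst h4
  subst h3
  subst h2
  exact ij (ij (ij (ij (ij (ij (ij (ij (hr))))))))

theorem c2_4 {p0 p1 p2 p3 p4 : Q} (h0 : act 3 p0 = p1) (h1 : act 0 p1 = p2) (h2 : act 3 p2 = p3) (h3 : act 0 p3 = p4) : p4 = p0 := by
  have hr := R2 p0
  subst h0
  subst h1
  subst h2
  subst h3
  exact hr

theorem c4_4 {p0 p1 p2 p3 p4 q4 q5 : Q} (h0 : act 2 p0 = p1) (h1 : act 1 p1 = p2) (h2 : act 2 p2 = p3) (h3 : act 1 p3 = p4) (h4 : act 2 q4 = q5) (h5 : act 1 q5 = p0) : p4 = q4 := by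
  have hr := R4 p0
  subst h0
  subst h1
  subst h2
  subst h3
  subst h5
  subst h4
  exact ij (ij (hr))

theorem c5_3 {p0 p1 p2 p3 q3 : Q} (h0 : act 3 p0 = p1) (h1 : act 1 p1 = p2) (h2 : act 3 p2 = p3) (h3 : act 1 q3 = p0) : p3 = q3 := by
  have hr := R5 p0
  subst h0
  subst h1
  subst h2
  subst h3
  exact ij (hr)

theorem c6_3 {p0 p1 p2 p3 q3 : Q} (h0 : act 4 p0 = p1) (h1 : act 1 p1 = p2) (h2 : act 4 p2 = p3) (h3 : act 1 q3 = p0) : p3 = q3 := by
  have hr := R6 p0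
  subst h0
  subst h1
  subst h2
  subst h3
  exact ij (hr)

theorem c9_5 {p0 p1 p2 p3 p4 p5 q5 : Q} (h0 : act 4 p0 = p1) (h1 : act 3 p1 = p2) (h2 : act 4 p2 = p3) (h3 : act 3 p3 = p4) (h4 : act 4 p4 = p5) (h5 : act 3 q5 = p0) : p5 = q5 := by
  have hr := R9 p0
  subst h0
  subst h1
  subst h2
  subst h3
  subst h4
  subst h5
  exact ij (hr)

theorem c10_5 {p0 p1 p2 p3 p4 p5 q5 q6 q7 q8 : Q} (h0 : act 2 p0 = p1) (h1 : act 3 p1 = p2) (h2 : act 2 p2 = p3) (h3 : act 3 p3 = p4) (h4 : act 2 p4 = p5) (h5 : act 3 q5 = q6) (h6 : act 2 q6 = q7) (h7 : act 3 q7 = q8) (h8 : act 0 q8 = p0) : p5 = q5 := by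
  have hr := R10 p0
  subst h0
  subst h1
  subst h2
  subst h3
  subst h4
  subst h8
  subst h7
  subst h6
  subst h5
  exact ij (ij (ij (ij (hr))))

theorem c10_6 {p0 p1 p2 p3 p4 p5 p6 q6 q7 q8 : Q} (h0 : act 2 p0 = p1) (h1 : act 3 p1 = p2) (h2 : act 2 p2 = p3) (h3 : act 3 p3 = p4) (h4 : act 2 p4 = p5) (h5 : act 3 p5 = p6) (h6 : act 2 q6 = q7) (h7 : act 3 q7 = q8) (h8 : act 0 q8 = p0) : p6 = q6 := by
  have hr := R10 p0
  subst h0
  subst h1
  subst h2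
  subst h3
  subst h4
  subst h5
  subst h8
  subst h7
  subst h6
  exact ij (ij (ij (hr)))

theorem c10_7 {p0 p1 p2 p3 p4 p5 p6 p7 q7 q8 : Q} (h0 : act 2 p0 = p1) (h1 : act 3 p1 = p2) (h2 : act 2 p2 = p3) (h3 : act 3 p3 = p4) (h4 : act 2 p4 = p5) (h5 : act 3 p5 = p6) (h6 : act 2 p6 = p7) (h7 : act 3 q7 = q8) (h8 : act 0 q8 = p0) : p7 = q7 := by
  have hr := R10 p0
  subst h0
  subst h1
  subst h2
  subst h3
  subst h4
  subst h5
  subst h6
  subst h8
  subst h7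
  exact ij (ij (hr))

theorem c10_9 {p0 p1 p2 p3 p4 p5 p6 p7 p8 p9 : Q} (h0 : act 2 p0 = p1) (h1 : act 3 p1 = p2) (h2 : act 2 p2 = p3) (h3 : act 3 p3 = p4) (h4 : act 2 p4 = p5) (h5 : act 3 p5 = p6) (h6 : act 2 p6 = p7) (h7 : act 3 p7 = p8) (h8 : act 0 p8 = p9) : p9 = p0 := by
  have hr := R10 p0
  subst h0
  subst h1
  subst h2
  subst h3
  subst h4
  subst h5
  subst h6
  subst h7
  subst h8
  exact hr

theorem c11_12 {p0 p1 p2 p3 p4 p5 p6 p7 p8 p9 p10 p11 p12 q12 q13 q14 q15 q16 q17 q18 q19 q20 q21 q22 q23 q24 q25 q26 q27 q28 q29 q30 q31 q32 q33 q34 q35 q36 q37 q38 q39 q40 q41 q42 q43 q44 q45 q46 q47 q48 q49 q50 q51 q52 q53 q54 q55 q56 q57 q58 q59 q60 q61 q62 q63 q64 q65 q66 q67 q68 q69 q70 q71 q72 q73 q74 q75 q76 q77 : Q} (h0 : act 4 p0 = p1) (h1 : act 3 p1 = p2) (h2 : act 2 p2 = p3) (h3 : act 3 p3 = p4) (h4 : act 2 p4 = p5) (h5 : act 1 p5 = p6) (h6 : act 3 p6 = p7) (h7 : act 2 p7 = p8) (h8 : act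 3 p8 = p9) (h9 : act 2 p9 = p10) (h10 : act 1 p10 = p11) (h11 : act 3 p11 = p12) (h12 : act 2 q12 = q13) (h13 : act 3 q13 = q14) (h14 : act 2 q14 = q15) (h15 : act 1 q15 = q16) (h16 : act 3 q16 = q17) (h17 : act 2 q17 = q18) (h18 : act 3 q18 = q19) (h19 : act 2 q19 = q20) (h20 : act 1 q20 = q21) (h21 : act 3 q21 = q22) (h22 : act 2 q22 = q23) (h23 : act 3 q23 = q24) (h24 : act 2 q24 = q25) (h25 : act 1 q25 = q26) (h26 : act 4 q26 = q27) (h27 : act 3 q27 = q28) (h28 : act 2 q28 = q29) (h29 : act 3 q29 = q30) (h30 : act 2 q30 = q31) (h31 : act 1 q31 = q32) (h32 : act 3 q32 = q33) (h33 : act 2 q33 = q34) (h34 : act 3 q34 = q35) (h35 : act 2 q35 = q36) (h36 : act 1 q36 = q37) (h37 : act 3 q37 = q38) (h38 : act 2 q38 = q39) (h39 : act 3 q39 = q40) (h40 : act 2 q40 = q41) (h41 : act 1 q41 = q42) (h42 : act 3 q42 = q43) (h43 : act 2 q43 = q44) (h44 : act 3 q44 = q45) (h45 : act 2 q45 = q46) (h46 : act 1 q46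 = q47) (h47 : act 3 q47 = q48) (h48 : act 2 q48 = q49) (h49 : act 3 q49 = q50) (h50 : act 2 q50 = q51) (h51 : act 1 q51 = q52) (h52 : act 4 q52 = q53) (h53 : act 3 q53 = q54) (h54 : act 2 q54 = q55) (h55 : act 3 q55 = q56) (h56 : act 2 q56 = q57) (h57 : act 1 q57 = q58) (h58 : act 3 q58 = q59) (h59 : act 2 q59 = q60) (h60 : act 3 q60 = q61) (h61 : act 2 q61 = q62) (h62 : act 1 q62 = q63) (h63 : act 3 q63 = q64) (h64 : act 2 q64 = q65) (h65 : act 3 q65 = q66) (h66 : act 2 q66 = q67) (h67 : act 1 q67 = q68) (h68 : act 3 q68 = q69) (h69 : act 2 q69 = q70) (h70 : act 3 q70 = q71) (h71 : act 2 q71 = q72) (h72 : act 1 q72 = q73) (h73 : act 3 q73 = q74) (h74 : act 2 q74 = q75) (h75 : act 3 q75 = q76) (h76 : act 2 q76 = q77) (h77 : act 1 q77 = p0) : p12 = q12 := by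
  have hr := R11 p0
  subst h0
  subst h1
  subst h2
  subst h3
  subst h4
  subst h5
  subst h6
  subst h7
  subst h8
  subst h9
  subst h10
  subst h11
  subst h77
  subst h76
  subst h75
  subst h74
  subst h73
  subst h72
  subst h71
  subst h70
  subst h69
  subst h68
  subst h67
  subst h66
  subst h65
  subst h64
  subst h63
  subst h62
  subst h61
  subst h60
  subst h59
  subst h58
  subst h57
  subst h56
  subst h55
  subst h54
  subst h53
  subst h52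
  subst h51
  subst h50
  subst h49
  subst h48
  subst h47
  subst h46
  subst h45
  subst h44
  subst h43
  subst h42
  subst h41
  subst h40
  subst h39
  subst h38
  subst h37
  subst h36
  subst h35
  subst h34
  subst h33
  subst h32
  subst h31
  subst h30
  subst h29
  subst h28
  subst h27
  subst h26
  subst h25
  subst h24
  subst h23
  subst h22
  subst h21
  subst h20
  subst h19
  subst h18
  subst h17
  subst h16
  subst h15
  subst h14
  subst h13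
  subst h12
  exact ij (ij (ij (ij (ij (ij (ij (ij (ij (ij (ij (ij (ij (ij (ij (ij (ij (ij (ij (ij (ij (ij (ij (ij (ij (ij (ij (ij (ij (ij (ij (ij (ij (ij (ij (ij (ij (ij (ij (ij (ij (ij (ij (ij (ij (ij (ij (ij (ij (ij (ij (ij (ij (ij (ij (ij (ij (ij (ij (ij (ij (ij (ij (ij (ij (ij (hr))))))))))))))))))))))))))))))))))))))))))))))))))))))))))))))))))

theorem c11_28 {p0 p1 p2 p3 p4 p5 p6 p7 p8 p9 p10 p11 p12 p13 p14 p15 p16 p17 p18 p19 p20 p21 p22 p23 p24 p25 p26 p27 p28 q28 q29 q30 q31 q32 q33 q34 q35 q36 q37 q38 q39 q40 q41 q42 q43 q44 q45 q46 q47 q48 q49 q50 q51 q52 q53 q54 q55 q56 q57 q58 q59 q60 q61 q62 q63 q64 q65 q66 q67 q68 q69 q70 q71 q72 q73 q74 q75 q76 q77 : Q} (h0 : act 4 p0 = p1) (h1 : act 3 p1 = p2) (h2 : act 2 p2 = p3) (h3 : act 3 p3 = p4) (h4 : act 2 p4 = p5) (h5 : act 1 p5 = p6) (h6 : act 3 p6 = p7) (h7 : act 2 p7 = p8) (h8 : act 3 p8 = p9) (h9 : act 2 p9 = p10) (h10 : act 1 p10 = p11)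 (h11 : act 3 p11 = p12) (h12 : act 2 p12 = p13) (h13 : act 3 p13 = p14) (h14 : act 2 p14 = p15) (h15 : act 1 p15 = p16) (h16 : act 3 p16 = p17) (h17 : act 2 p17 = p18) (h18 : act 3 p18 = p19) (h19 : act 2 p19 = p20) (h20 : act 1 p20 = p21) (h21 : act 3 p21 = p22) (h22 : act 2 p22 = p23) (h23 : act 3 p23 = p24) (h24 : act 2 p24 = p25) (h25 : act 1 p25 = p26) (h26 : act 4 p26 = p27) (h27 : act 3 p27 = p28) (h28 : act 2 q28 = q29) (h29 : act 3 q29 = q30) (h30 : act 2 q30 = q31) (h31 : act 1 q31 = q32) (h32 : act 3 q32 = q33) (h33 : act 2 q33 = q34) (h34 : act 3 q34 = q35) (h35 : act 2 q35 = q36) (h36 : act 1 q36 = q37) (h37 : act 3 q37 = q38) (h38 : act 2 q38 = q39) (h39 : act 3 q39 = q40) (h40 : act 2 q40 = q41) (h41 : act 1 q41 = q42) (h42 : act 3 q42 = q43) (h43 : act 2 q43 = q44) (h44 : act 3 q44 = q45) (h45 : act 2 q45 = q46) (h46 : act 1 q46 = q47) (h47 : act 3 q47 = q48) (h48 : act 2 q48 = q49) (h49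 : act 3 q49 = q50) (h50 : act 2 q50 = q51) (h51 : act 1 q51 = q52) (h52 : act 4 q52 = q53) (h53 : act 3 q53 = q54) (h54 : act 2 q54 = q55) (h55 : act 3 q55 = q56) (h56 : act 2 q56 = q57) (h57 : act 1 q57 = q58) (h58 : act 3 q58 = q59) (h59 : act 2 q59 = q60) (h60 : act 3 q60 = q61) (h61 : act 2 q61 = q62) (h62 : act 1 q62 = q63) (h63 : act 3 q63 = q64) (h64 : act 2 q64 = q65) (h65 : act 3 q65 = q66) (h66 : act 2 q66 = q67) (h67 : act 1 q67 = q68) (h68 : act 3 q68 = q69) (h69 : act 2 q69 = q70) (h70 : act 3 q70 = q71) (h71 : act 2 q71 = q72) (h72 : act 1 q72 = q73) (h73 : act 3 q73 = q74) (h74 : act 2 q74 = q75) (h75 : act 3 q75 = q76) (h76 : act 2 q76 = q77) (h77 : act 1 q77 = p0) : p28 = q28 := by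
  have hr := R11 p0
  subst h0
  subst h1
  subst h2
  subst h3
  subst h4
  subst h5
  subst h6
  subst h7
  subst h8
  subst h9
  subst h10
  subst h11
  subst h12
  subst h13
  subst h14
  subst h15
  subst h16
  subst h17
  subst h18
  subst h19
  subst h20
  subst h21
  subst h22
  subst h23
  subst h24
  subst h25
  subst h26
  subst h27
  subst h77
  subst h76
  subst h75
  subst h74
  subst h73
  subst h72
  subst h71
  subst h70
  subst h69
  subst h68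
  subst h67
  subst h66
  subst h65
  subst h64
  subst h63
  subst h62
  subst h61
  subst h60
  subst h59
  subst h58
  subst h57
  subst h56
  subst h55
  subst h54
  subst h53
  subst h52
  subst h51
  subst h50
  subst h49
  subst h48
  subst h47
  subst h46
  subst h45
  subst h44
  subst h43
  subst h42
  subst h41
  subst h40
  subst h39
  subst h38
  subst h37
  subst h36
  subst h35
  subst h34
  subst h33
  subst h32
  subst h31
  subst h30
  subst h29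
  subst h28
  exact ij (ij (ij (ij (ij (ij (ij (ij (ij (ij (ij (ij (ij (ij (ij (ij (ij (ij (ij (ij (ij (ij (ij (ij (ij (ij (ij (ij (ij (ij (ij (ij (ij (ij (ij (ij (ij (ij (ij (ij (ij (ij (ij (ij (ij (ij (ij (ij (ij (ij (hr))))))))))))))))))))))))))))))))))))))))))))))))))

theorem d0_0 {p0 q1 q2 q3 q4 q5 q6 q7 q8 q9 : Q} (h1 : act 0 q1 = q2) (h2 : act 1 q2 = q3) (h3 : act 0 q3 = q4) (h4 : act 1 q4 = q5) (h5 : act 0 q5 = q6) (h6 : act 1 q6 = q7) (h7 : act 0 q7 = q8) (h8 : act 1 q8 = q9) (h9 : act 0 q9 = p0) : act 1 p0 = q1 := by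
  have hr := R0 p0
  subst h9
  subst h8
  subst h7
  subst h6
  subst h5
  subst h4
  subst h3
  subst h2
  subst h1
  exact ij (ij (ij (ij (ij (ij (ij (ij (ij (hr)))))))))

theorem d0_1 {p0 p1 q2 q3 q4 q5 q6 q7 q8 q9 : Q} (h0 : act 1 p0 = p1) (h2 : act 1 q2 = q3) (h3 : act 0 q3 = q4) (h4 : act 1 q4 = q5) (h5 : act 0 q5 = q6) (h6 : act 1 q6 = q7) (h7 : act 0 q7 = q8) (h8 : act 1 q8 = q9) (h9 : act 0 q9 = p0) : act 0 p1 = q2 := by
  have hr := R0 p0
  subst h0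
  subst h9
  subst h8
  subst h7
  subst h6
  subst h5
  subst h4
  subst h3
  subst h2
  exact ij (ij (ij (ij (ij (ij (ij (ij (hr))))))))

theorem d0_2 {p0 p1 p2 q3 q4 q5 q6 q7 q8 q9 : Q} (h0 : act 1 p0 = p1) (h1 : act 0 p1 = p2) (h3 : act 0 q3 = q4) (h4 : act 1 q4 = q5) (h5 : act 0 q5 = q6) (h6 : act 1 q6 = q7) (h7 : act 0 q7 = q8) (h8 : act 1 q8 = q9) (h9 : act 0 q9 = p0) : act 1 p2 = q3 := by
  have hr := R0 p0
  subst h0
  subst h1
  subst h9
  subst h8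
  subst h7
  subst h6
  subst h5
  subst h4
  subst h3
  exact ij (ij (ij (ij (ij (ij (ij (hr)))))))

theorem d0_9 {p0 p1 p2 p3 p4 p5 p6 p7 p8 p9 : Q} (h0 : act 1 p0 = p1) (h1 : act 0 p1 = p2) (h2 : act 1 p2 = p3) (h3 : act 0 p3 = p4) (h4 : act 1 p4 = p5) (h5 : act 0 p5 = p6) (h6 : act 1 p6 = p7) (h7 : act 0 p7 = p8) (h8 : act 1 p8 = p9) : act 0 p9 = p0 := by
  have hr := R0 p0
  subst h0
  subst h1
  subst h2
  subst h3
  subst h4
  subst h5
  subst h6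
  subst h7
  subst h8
  exact hr

theorem d1_0 {p0 q1 q2 q3 : Q} (h1 : act 0 q1 = q2) (h2 : act 2 q2 = q3) (h3 : act 0 q3 = p0) : act 2 p0 = q1 := by
  have hr := R1 p0
  subst h3
  subst h2
  subst h1
  exact ij (ij (ij (hr)))

theorem d1_1 {p0 p1 q2 q3 : Q} (h0 : act 2 p0 = p1) (h2 : act 2 q2 = q3) (h3 : act 0 q3 = p0) : act 0 p1 = q2 := by
  have hr := R1 p0
  subst h0
  subst h3
  subst h2
  exact ij (ij (hr))

theorem d1_2 {p0 p1 p2 q3 : Q} (h0 : act 2 p0 = p1) (h1 : act 0 p1 = p2) (h3 : act 0 q3 = p0) : act 2 p2 = q3 := by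
  have hr := R1 p0
  subst h0
  subst h1
  subst h3
  exact ij (hr)

theorem d2_1 {p0 p1 q2 q3 : Q} (h0 : act 3 p0 = p1) (h2 : act 3 q2 = q3) (h3 : act 0 q3 = p0) : act 0 p1 = q2 := by
  have hr := R2 p0
  subst h0
  subst h3
  subst h2
  exact ij (ij (hr))

theorem d2_2 {p0 p1 p2 q3 : Q} (h0 : act 3 p0 = p1) (h1 : act 0 p1 = p2) (h3 : act 0 q3 = p0) : act 3 p2 = q3 := by
  have hr := R2 p0
  subst h0
  subst h1
  subst h3
  exact ij (hr)

theorem d3_1 {p0 p1 q2 q3 : Q} (h0 : act 4 p0 = p1) (h2 : act 4 q2 = q3) (h3 : act 0 q3 = p0) : act 0 p1 = q2 := by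
  have hr := R3 p0
  subst h0
  subst h3
  subst h2
  exact ij (ij (hr))

theorem d3_2 {p0 p1 p2 q3 : Q} (h0 : act 4 p0 = p1) (h1 : act 0 p1 = p2) (h3 : act 0 q3 = p0) : act 4 p2 = q3 := by
  have hr := R3 p0
  subst h0
  subst h1
  subst h3
  exact ij (hr)

theorem d4_0 {p0 q1 q2 q3 q4 q5 : Q} (h1 : act 1 q1 = q2) (h2 : act 2 q2 = q3) (h3 : act 1 q3 = q4) (h4 : act 2 q4 = q5) (h5 : act 1 q5 = p0) : act 2 p0 = q1 := by
  have hr := R4 p0
  subst h5
  subst h4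
  subst h3
  subst h2
  subst h1
  exact ij (ij (ij (ij (ij (hr)))))

theorem d4_1 {p0 p1 q2 q3 q4 q5 : Q} (h0 : act 2 p0 = p1) (h2 : act 2 q2 = q3) (h3 : act 1 q3 = q4) (h4 : act 2 q4 = q5) (h5 : act 1 q5 = p0) : act 1 p1 = q2 := by
  have hr := R4 p0
  subst h0
  subst h5
  subst h4
  subst h3
  subst h2
  exact ij (ij (ij (ij (hr))))

theorem d4_2 {p0 p1 p2 q3 q4 q5 : Q} (h0 : act 2 p0 = p1) (h1 : act 1 p1 = p2) (h3 : act 1 q3 = q4) (h4 : act 2 q4 = q5) (h5 : act 1 q5 = p0) : act 2 p2 = q3 := by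
  have hr := R4 p0
  subst h0
  subst h1
  subst h5
  subst h4
  subst h3
  exact ij (ij (ij (hr)))

theorem d4_4 {p0 p1 p2 p3 p4 q5 : Q} (h0 : act 2 p0 = p1) (h1 : act 1 p1 = p2) (h2 : act 2 p2 = p3) (h3 : act 1 p3 = p4) (h5 : act 1 q5 = p0) : act 2 p4 = q5 := by
  have hr := R4 p0
  subst h0
  subst h1
  subst h2
  subst h3
  subst h5
  exact ij (hr)

theorem d5_0 {p0 q1 q2 q3 : Q} (h1 : act 1 q1 = q2) (h2 : act 3 q2 = q3) (h3 : act 1 q3 = p0) : act 3 p0 = q1 := by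
  have hr := R5 p0
  subst h3
  subst h2
  subst h1
  exact ij (ij (ij (hr)))

theorem d5_1 {p0 p1 q2 q3 : Q} (h0 : act 3 p0 = p1) (h2 : act 3 q2 = q3) (h3 : act 1 q3 = p0) : act 1 p1 = q2 := by
  have hr := R5 p0
  subst h0
  subst h3
  subst h2
  exact ij (ij (hr))

theorem d5_2 {p0 p1 p2 q3 : Q} (h0 : act 3 p0 = p1) (h1 : act 1 p1 = p2) (h3 : act 1 q3 = p0) : act 3 p2 = q3 := by
  have hr := R5 p0
  subst h0
  subst h1
  subst h3
  exact ij (hr)

theorem d5_3 {p0 p1 p2 p3 : Q} (h0 : act 3 p0 = p1) (h1 : act 1 p1 = p2) (h2 : act 3 p2 = p3) : act 1 p3 = p0 := by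
  have hr := R5 p0
  subst h0
  subst h1
  subst h2
  exact hr

theorem d6_0 {p0 q1 q2 q3 : Q} (h1 : act 1 q1 = q2) (h2 : act 4 q2 = q3) (h3 : act 1 q3 = p0) : act 4 p0 = q1 := by
  have hr := R6 p0
  subst h3
  subst h2
  subst h1
  exact ij (ij (ij (hr)))

theorem d6_1 {p0 p1 q2 q3 : Q} (h0 : act 4 p0 = p1) (h2 : act 4 q2 = q3) (h3 : act 1 q3 = p0) : act 1 p1 = q2 := by
  have hr := R6 p0
  subst h0
  subst h3
  subst h2
  exact ij (ij (hr))

theorem d6_2 {p0 p1 p2 q3 : Q} (h0 : act 4 p0 = p1) (h1 : act 1 p1 = p2) (h3 : act 1 q3 = p0) : act 4 p2 = q3 := by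
  have hr := R6 p0
  subst h0
  subst h1
  subst h3
  exact ij (hr)

theorem d6_3 {p0 p1 p2 p3 : Q} (h0 : act 4 p0 = p1) (h1 : act 1 p1 = p2) (h2 : act 4 p2 = p3) : act 1 p3 = p0 := by
  have hr := R6 p0
  subst h0
  subst h1
  subst h2
  exact hr

theorem d7_1 {p0 p1 q2 q3 q4 q5 q6 q7 q8 q9 q10 q11 q12 q13 q14 q15 : Q} (h0 : act 3 p0 = p1) (h2 : act 3 q2 = q3) (h3 : act 2 q3 = q4) (h4 : act 3 q4 = q5) (h5 : act 2 q5 = q6) (h6 : act 3 q6 = q7) (h7 : act 2 q7 = q8) (h8 : act 3 q8 = q9) (h9 : act 2 q9 = q10) (h10 : act 3 q10 = q11) (h11 : act 2 q11 = q12) (h12 : act 3 q12 = q13) (h13 : act 2 q13 = q14) (h14 : act 3 q14 = q15) (h15 : act 2 q15 = p0) : act 2 p1 = q2 := by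
  have hr := R7 p0
  subst h0
  subst h15
  subst h14
  subst h13
  subst h12
  subst h11
  subst h10
  subst h9
  subst h8
  subst h7
  subst h6
  subst h5
  subst h4
  subst h3
  subst h2
  exact ij (ij (ij (ij (ij (ij (ij (ij (ij (ij (ij (ij (ij (ij (hr))))))))))))))

theorem d7_2 {p0 p1 p2 q3 q4 q5 q6 q7 q8 q9 q10 q11 q12 q13 q14 q15 : Q} (h0 : act 3 p0 = p1) (h1 : act 2 p1 = p2) (h3 : act 2 q3 = q4) (h4 : act 3 q4 = q5) (h5 : act 2 q5 = q6) (h6 : act 3 q6 = q7) (h7 : act 2 q7 = q8) (h8 : act 3 q8 = q9) (h9 : act 2 q9 = q10) (h10 : act 3 q10 = q11) (h11 : act 2 q11 = q12) (h12 : act 3 q12 = q13) (h13 : act 2 q13 = q14) (h14 : act 3 q14 = q15) (h15 : act 2 q15 = p0) : act 3 p2 = q3 := by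
  have hr := R7 p0
  subst h0
  subst h1
  subst h15
  subst h14
  subst h13
  subst h12
  subst h11
  subst h10
  subst h9
  subst h8
  subst h7
  subst h6
  subst h5
  subst h4
  subst h3
  exact ij (ij (ij (ij (ij (ij (ij (ij (ij (ij (ij (ij (ij (hr)))))))))))))

theorem d8_0 {p0 q1 q2 q3 : Q} (h1 : act 2 q1 = q2) (h2 : act 4 q2 = q3) (h3 : act 2 q3 = p0) : act 4 p0 = q1 := by
  have hr := R8 p0
  subst h3
  subst h2
  subst h1
  exact ij (ij (ij (hr)))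

theorem d8_1 {p0 p1 q2 q3 : Q} (h0 : act 4 p0 = p1) (h2 : act 4 q2 = q3) (h3 : act 2 q3 = p0) : act 2 p1 = q2 := by
  have hr := R8 p0
  subst h0
  subst h3
  subst h2
  exact ij (ij (hr))

theorem d8_2 {p0 p1 p2 q3 : Q} (h0 : act 4 p0 = p1) (h1 : act 2 p1 = p2) (h3 : act 2 q3 = p0) : act 4 p2 = q3 := by
  have hr := R8 p0
  subst h0
  subst h1
  subst h3
  exact ij (hr)

theorem d8_3 {p0 p1 p2 p3 : Q} (h0 : act 4 p0 = p1) (h1 : act 2 p1 = p2) (h2 : act 4 p2 = p3) : act 2 p3 = p0 := by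
  have hr := R8 p0
  subst h0
  subst h1
  subst h2
  exact hr

theorem d9_0 {p0 q1 q2 q3 q4 q5 : Q} (h1 : act 3 q1 = q2) (h2 : act 4 q2 = q3) (h3 : act 3 q3 = q4) (h4 : act 4 q4 = q5) (h5 : act 3 q5 = p0) : act 4 p0 = q1 := by
  have hr := R9 p0
  subst h5
  subst h4
  subst h3
  subst h2
  subst h1
  exact ij (ij (ij (ij (ij (hr)))))

theorem d9_1 {p0 p1 q2 q3 q4 q5 : Q} (h0 : act 4 p0 = p1) (h2 : act 4 q2 = q3) (h3 : act 3 q3 = q4) (h4 : act 4 q4 = q5) (h5 : act 3 q5 = p0) : act 3 p1 = q2 := by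
  have hr := R9 p0
  subst h0
  subst h5
  subst h4
  subst h3
  subst h2
  exact ij (ij (ij (ij (hr))))

theorem d9_2 {p0 p1 p2 q3 q4 q5 : Q} (h0 : act 4 p0 = p1) (h1 : act 3 p1 = p2) (h3 : act 3 q3 = q4) (h4 : act 4 q4 = q5) (h5 : act 3 q5 = p0) : act 4 p2 = q3 := by
  have hr := R9 p0
  subst h0
  subst h1
  subst h5
  subst h4
  subst h3
  exact ij (ij (ij (hr)))

theorem d9_4 {p0 p1 p2 p3 p4 q5 : Q} (h0 : act 4 p0 = p1) (h1 : act 3 p1 = p2) (h2 : act 4 p2 = p3) (h3 : act 3 p3 = p4) (h5 : act 3 q5 = p0) : act 4 p4 = q5 := by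
  have hr := R9 p0
  subst h0
  subst h1
  subst h2
  subst h3
  subst h5
  exact ij (hr)

theorem d9_5 {p0 p1 p2 p3 p4 p5 : Q} (h0 : act 4 p0 = p1) (h1 : act 3 p1 = p2) (h2 : act 4 p2 = p3) (h3 : act 3 p3 = p4) (h4 : act 4 p4 = p5) : act 3 p5 = p0 := by
  have hr := R9 p0
  subst h0
  subst h1
  subst h2
  subst h3
  subst h4
  exact hr

theorem d10_0 {p0 q1 q2 q3 q4 q5 q6 q7 q8 : Q} (h1 : act 3 q1 = q2) (h2 : act 2 q2 = q3) (h3 : act 3 q3 = q4) (h4 : act 2 q4 = q5) (h5 : act 3 q5 = q6) (h6 : act 2 q6 = q7) (h7 : act 3 q7 = q8) (h8 : act 0 q8 = p0) : act 2 p0 = q1 := by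
  have hr := R10 p0
  subst h8
  subst h7
  subst h6
  subst h5
  subst h4
  subst h3
  subst h2
  subst h1
  exact ij (ij (ij (ij (ij (ij (ij (ij (hr))))))))

theorem d10_1 {p0 p1 q2 q3 q4 q5 q6 q7 q8 : Q} (h0 : act 2 p0 = p1) (h2 : act 2 q2 = q3) (h3 : act 3 q3 = q4) (h4 : act 2 q4 = q5) (h5 : act 3 q5 = q6) (h6 : act 2 q6 = q7) (h7 : act 3 q7 = q8) (h8 : act 0 q8 = p0) : act 3 p1 = q2 := by
  have hr := R10 p0
  subst h0
  subst h8
  subst h7
  subst h6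
  subst h5
  subst h4
  subst h3
  subst h2
  exact ij (ij (ij (ij (ij (ij (ij (hr)))))))

theorem d10_2 {p0 p1 p2 q3 q4 q5 q6 q7 q8 : Q} (h0 : act 2 p0 = p1) (h1 : act 3 p1 = p2) (h3 : act 3 q3 = q4) (h4 : act 2 q4 = q5) (h5 : act 3 q5 = q6) (h6 : act 2 q6 = q7) (h7 : act 3 q7 = q8) (h8 : act 0 q8 = p0) : act 2 p2 = q3 := by
  have hr := R10 p0
  subst h0
  subst h1
  subst h8
  subst h7
  subst h6
  subst h5
  subst h4
  subst h3
  exact ij (ij (ij (ij (ij (ij (hr))))))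

theorem d10_4 {p0 p1 p2 p3 p4 q5 q6 q7 q8 : Q} (h0 : act 2 p0 = p1) (h1 : act 3 p1 = p2) (h2 : act 2 p2 = p3) (h3 : act 3 p3 = p4) (h5 : act 3 q5 = q6) (h6 : act 2 q6 = q7) (h7 : act 3 q7 = q8) (h8 : act 0 q8 = p0) : act 2 p4 = q5 := by
  have hr := R10 p0
  subst h0
  subst h1
  subst h2
  subst h3
  subst h8
  subst h7
  subst h6
  subst h5
  exact ij (ij (ij (ij (hr))))

theorem d10_6 {p0 p1 p2 p3 p4 p5 p6 q7 q8 : Q} (h0 : act 2 p0 = p1) (h1 : act 3 p1 = p2) (h2 : act 2 p2 = p3) (h3 : act 3 p3 = p4) (h4 : act 2 p4 = p5) (h5 : act 3 p5 = p6) (h7 : act 3 q7 = q8) (h8 : act 0 q8 = p0) : act 2 p6 = q7 := by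
  have hr := R10 p0
  subst h0
  subst h1
  subst h2
  subst h3
  subst h4
  subst h5
  subst h8
  subst h7
  exact ij (ij (hr))

theorem d10_7 {p0 p1 p2 p3 p4 p5 p6 p7 q8 : Q} (h0 : act 2 p0 = p1) (h1 : act 3 p1 = p2) (h2 : act 2 p2 = p3) (h3 : act 3 p3 = p4) (h4 : act 2 p4 = p5) (h5 : act 3 p5 = p6) (h6 : act 2 p6 = p7) (h8 : act 0 q8 = p0) : act 3 p7 = q8 := by
  have hr := R10 p0
  subst h0
  subst h1
  subst h2
  subst h3
  subst h4
  subst h5
  subst h6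
  subst h8
  exact ij (hr)

theorem d11_2 {p0 p1 p2 q3 q4 q5 q6 q7 q8 q9 q10 q11 q12 q13 q14 q15 q16 q17 q18 q19 q20 q21 q22 q23 q24 q25 q26 q27 q28 q29 q30 q31 q32 q33 q34 q35 q36 q37 q38 q39 q40 q41 q42 q43 q44 q45 q46 q47 q48 q49 q50 q51 q52 q53 q54 q55 q56 q57 q58 q59 q60 q61 q62 q63 q64 q65 q66 q67 q68 q69 q70 q71 q72 q73 q74 q75 q76 q77 : Q} (h0 : act 4 p0 = p1) (h1 : act 3 p1 = p2) (h3 : act 3 q3 = q4) (h4 : act 2 q4 = q5) (h5 : act 1 q5 = q6) (h6 : act 3 q6 = q7) (h7 : act 2 q7 = q8) (h8 : act 3 q8 = q9) (h9 : act 2 q9 = q10) (h10 : act 1 q10 = q11) (h11 : act 3 q11 = q12) (h12 : act 2 q12 = q13) (h13 : act 3 q13 = q14) (h14 : act 2 q14 = q15) (h15 : act 1 q15 = q16) (h16 : act 3 q16 = q17) (h17 : act 2 q17 = q18) (h18 : act 3 q18 = q19) (h19 : act 2 q19 = q20) (h20 : act 1 q20 = q21) (h21 : act 3 q21 = q22) (h22 : act 2 q22 = q23) (h23 : act 3 q23 = q24) (h24 : act 2 q24 = q25) (h25 : act 1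 q25 = q26) (h26 : act 4 q26 = q27) (h27 : act 3 q27 = q28) (h28 : act 2 q28 = q29) (h29 : act 3 q29 = q30) (h30 : act 2 q30 = q31) (h31 : act 1 q31 = q32) (h32 : act 3 q32 = q33) (h33 : act 2 q33 = q34) (h34 : act 3 q34 = q35) (h35 : act 2 q35 = q36) (h36 : act 1 q36 = q37) (h37 : act 3 q37 = q38) (h38 : act 2 q38 = q39) (h39 : act 3 q39 = q40) (h40 : act 2 q40 = q41) (h41 : act 1 q41 = q42) (h42 : act 3 q42 = q43) (h43 : act 2 q43 = q44) (h44 : act 3 q44 = q45) (h45 : act 2 q45 = q46) (h46 : act 1 q46 = q47) (h47 : act 3 q47 = q48) (h48 : act 2 q48 = q49) (h49 : act 3 q49 = q50) (h50 : act 2 q50 = q51) (h51 : act 1 q51 = q52) (h52 : act 4 q52 = q53) (h53 : act 3 q53 = q54) (h54 : act 2 q54 = q55) (h55 : act 3 q55 = q56) (h56 : act 2 q56 = q57) (h57 : act 1 q57 = q58) (h58 : act 3 q58 = q59) (h59 : act 2 q59 = q60) (h60 : act 3 q60 = q61) (h61 : act 2 q61 = q62) (h62 : act 1 q62 = q63) (h63 : act 3 q63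 = q64) (h64 : act 2 q64 = q65) (h65 : act 3 q65 = q66) (h66 : act 2 q66 = q67) (h67 : act 1 q67 = q68) (h68 : act 3 q68 = q69) (h69 : act 2 q69 = q70) (h70 : act 3 q70 = q71) (h71 : act 2 q71 = q72) (h72 : act 1 q72 = q73) (h73 : act 3 q73 = q74) (h74 : act 2 q74 = q75) (h75 : act 3 q75 = q76) (h76 : act 2 q76 = q77) (h77 : act 1 q77 = p0) : act 2 p2 = q3 := by
  have hr := R11 p0
  subst h0
  subst h1
  subst h77
  subst h76
  subst h75
  subst h74
  subst h73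
  subst h72
  subst h71
  subst h70
  subst h69
  subst h68
  subst h67
  subst h66
  subst h65
  subst h64
  subst h63
  subst h62
  subst h61
  subst h60
  subst h59
  subst h58
  subst h57
  subst h56
  subst h55
  subst h54
  subst h53
  subst h52
  subst h51
  subst h50
  subst h49
  subst h48
  subst h47
  subst h46
  subst h45
  subst h44
  subst h43
  subst h42
  subst h41
  subst h40
  subst h39
  subst h38
  subst h37
  subst h36
  subst h35
  subst h34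
  subst h33
  subst h32
  subst h31
  subst h30
  subst h29
  subst h28
  subst h27
  subst h26
  subst h25
  subst h24
  subst h23
  subst h22
  subst h21
  subst h20
  subst h19
  subst h18
  subst h17
  subst h16
  subst h15
  subst h14
  subst h13
  subst h12
  subst h11
  subst h10
  subst h9
  subst h8
  subst h7
  subst h6
  subst h5
  subst h4
  subst h3
  exact ij (ij (ij (ij (ij (ij (ij (ij (ij (ij (ij (ij (ij (ij (ij (ij (ij (ij (ij (ij (ij (ij (ij (ij (ij (ij (ij (ij (ij (ij (ij (ij (ij (ij (ij (ij (ij (ij (ij (ij (ij (ij (ij (ij (ij (ij (ij (ij (ij (ij (ij (ij (ij (ij (ij (ij (ij (ij (ij (ij (ij (ij (ij (ij (ij (ij (ij (ij (ij (ij (ij (ij (ij (ij (ij (hr)))))))))))))))))))))))))))))))))))))))))))))))))))))))))))))))))))))))))))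

theorem d11_8 {p0 p1 p2 p3 p4 p5 p6 p7 p8 q9 q10 q11 q12 q13 q14 q15 q16 q17 q18 q19 q20 q21 q22 q23 q24 q25 q26 q27 q28 q29 q30 q31 q32 q33 q34 q35 q36 q37 q38 q39 q40 q41 q42 q43 q44 q45 q46 q47 q48 q49 q50 q51 q52 q53 q54 q55 q56 q57 q58 q59 q60 q61 q62 q63 q64 q65 q66 q67 q68 q69 q70 q71 q72 q73 q74 q75 q76 q77 : Q} (h0 : act 4 p0 = p1) (h1 : act 3 p1 = p2) (h2 : act 2 p2 = p3) (h3 : act 3 p3 = p4) (h4 : act 2 p4 = p5) (h5 : act 1 p5 = p6) (h6 : act 3 p6 = p7) (h7 : act 2 p7 = p8) (h9 : act 2 q9 = q10) (h10 : act 1 q10 = q11) (h11 : act 3 q11 = q12) (h12 : act 2 q12 = q13) (h13 : act 3 q13 = q14) (h14 : act 2 q14 = q15) (h15 : act 1 q15 = q16) (h16 : act 3 q16 = q17) (h17 : act 2 q17 = q18) (h18 : act 3 q18 = q19) (h19 : act 2 q19 = q20) (h20 : act 1 q20 = q21) (h21 : act 3 q21 = q22) (h22 : act 2 q22 = q23) (h23 : act 3 q23 = q24) (h24 : act 2 q24 = q25) (h25 : act 1 q25 = q26) (h26 : act 4 q26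 = q27) (h27 : act 3 q27 = q28) (h28 : act 2 q28 = q29) (h29 : act 3 q29 = q30) (h30 : act 2 q30 = q31) (h31 : act 1 q31 = q32) (h32 : act 3 q32 = q33) (h33 : act 2 q33 = q34) (h34 : act 3 q34 = q35) (h35 : act 2 q35 = q36) (h36 : act 1 q36 = q37) (h37 : act 3 q37 = q38) (h38 : act 2 q38 = q39) (h39 : act 3 q39 = q40) (h40 : act 2 q40 = q41) (h41 : act 1 q41 = q42) (h42 : act 3 q42 = q43) (h43 : act 2 q43 = q44) (h44 : act 3 q44 = q45) (h45 : act 2 q45 = q46) (h46 : act 1 q46 = q47) (h47 : act 3 q47 = q48) (h48 : act 2 q48 = q49) (h49 : act 3 q49 = q50) (h50 : act 2 q50 = q51) (h51 : act 1 q51 = q52) (h52 : act 4 q52 = q53) (h53 : act 3 q53 = q54) (h54 : act 2 q54 = q55) (h55 : act 3 q55 = q56) (h56 : act 2 q56 = q57) (h57 : act 1 q57 = q58) (h58 : act 3 q58 = q59) (h59 : act 2 q59 = q60) (h60 : act 3 q60 = q61) (h61 : act 2 q61 = q62) (h62 : act 1 q62 = q63) (h63 : act 3 q63 = q64) (h64 : act 2 q64 =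 q65) (h65 : act 3 q65 = q66) (h66 : act 2 q66 = q67) (h67 : act 1 q67 = q68) (h68 : act 3 q68 = q69) (h69 : act 2 q69 = q70) (h70 : act 3 q70 = q71) (h71 : act 2 q71 = q72) (h72 : act 1 q72 = q73) (h73 : act 3 q73 = q74) (h74 : act 2 q74 = q75) (h75 : act 3 q75 = q76) (h76 : act 2 q76 = q77) (h77 : act 1 q77 = p0) : act 3 p8 = q9 := by
  have hr := R11 p0
  subst h0
  subst h1
  subst h2
  subst h3
  subst h4
  subst h5
  subst h6
  subst h7
  subst h77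
  subst h76
  subst h75
  subst h74
  subst h73
  subst h72
  subst h71
  subst h70
  subst h69
  subst h68
  subst h67
  subst h66
  subst h65
  subst h64
  subst h63
  subst h62
  subst h61
  subst h60
  subst h59
  subst h58
  subst h57
  subst h56
  subst h55
  subst h54
  subst h53
  subst h52
  subst h51
  subst h50
  subst h49
  subst h48
  subst h47
  subst h46
  subst h45
  subst h44
  subst h43
  subst h42
  subst h41
  subst h40
  subst h39
  subst h38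
  subst h37
  subst h36
  subst h35
  subst h34
  subst h33
  subst h32
  subst h31
  subst h30
  subst h29
  subst h28
  subst h27
  subst h26
  subst h25
  subst h24
  subst h23
  subst h22
  subst h21
  subst h20
  subst h19
  subst h18
  subst h17
  subst h16
  subst h15
  subst h14
  subst h13
  subst h12
  subst h11
  subst h10
  subst h9
  exact ij (ij (ij (ij (ij (ij (ij (ij (ij (ij (ij (ij (ij (ij (ij (ij (ij (ij (ij (ij (ij (ij (ij (ij (ij (ij (ij (ij (ij (ij (ij (ij (ij (ij (ij (ij (ij (ij (ij (ij (ij (ij (ij (ij (ij (ij (ij (ij (ij (ij (ij (ij (ij (ij (ij (ij (ij (ij (ij (ij (ij (ij (ij (ij (ij (ij (ij (ij (ij (hr)))))))))))))))))))))))))))))))))))))))))))))))))))))))))))))))))))))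

theorem d11_9 {p0 p1 p2 p3 p4 p5 p6 p7 p8 p9 q10 q11 q12 q13 q14 q15 q16 q17 q18 q19 q20 q21 q22 q23 q24 q25 q26 q27 q28 q29 q30 q31 q32 q33 q34 q35 q36 q37 q38 q39 q40 q41 q42 q43 q44 q45 q46 q47 q48 q49 q50 q51 q52 q53 q54 q55 q56 q57 q58 q59 q60 q61 q62 q63 q64 q65 q66 q67 q68 q69 q70 q71 q72 q73 q74 q75 q76 q77 : Q} (h0 : act 4 p0 = p1) (h1 : act 3 p1 = p2) (h2 : act 2 p2 = p3) (h3 : act 3 p3 = p4) (h4 : act 2 p4 = p5) (h5 : act 1 p5 = p6) (h6 : act 3 p6 = p7) (h7 : act 2 p7 = p8) (h8 : act 3 p8 = p9) (h10 : act 1 q10 = q11) (h11 : act 3 q11 = q12) (h12 : act 2 q12 = q13) (h13 : act 3 q13 = q14) (h14 : act 2 q14 = q15) (h15 : act 1 q15 = q16) (h16 : act 3 q16 = q17) (h17 : act 2 q17 = q18) (h18 : act 3 q18 = q19) (h19 : act 2 q19 = q20) (h20 : act 1 q20 = q21) (h21 : act 3 q21 = q22) (h22 : act 2 q22 = q23) (h23 : act 3 q23 = q24) (h24 : act 2 q24 = q25) (h25 : act 1 q25 = q26) (h26 : act 4 q26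 = q27) (h27 : act 3 q27 = q28) (h28 : act 2 q28 = q29) (h29 : act 3 q29 = q30) (h30 : act 2 q30 = q31) (h31 : act 1 q31 = q32) (h32 : act 3 q32 = q33) (h33 : act 2 q33 = q34) (h34 : act 3 q34 = q35) (h35 : act 2 q35 = q36) (h36 : act 1 q36 = q37) (h37 : act 3 q37 = q38) (h38 : act 2 q38 = q39) (h39 : act 3 q39 = q40) (h40 : act 2 q40 = q41) (h41 : act 1 q41 = q42) (h42 : act 3 q42 = q43) (h43 : act 2 q43 = q44) (h44 : act 3 q44 = q45) (h45 : act 2 q45 = q46) (h46 : act 1 q46 = q47) (h47 : act 3 q47 = q48) (h48 : act 2 q48 = q49) (h49 : act 3 q49 = q50) (h50 : act 2 q50 = q51) (h51 : act 1 q51 = q52) (h52 : act 4 q52 = q53) (h53 : act 3 q53 = q54) (h54 : act 2 q54 = q55) (h55 : act 3 q55 = q56) (h56 : act 2 q56 = q57) (h57 : act 1 q57 = q58) (h58 : act 3 q58 = q59) (h59 : act 2 q59 = q60) (h60 : act 3 q60 = q61) (h61 : act 2 q61 = q62) (h62 : act 1 q62 = q63) (h63 : act 3 q63 = q64) (h64 : act 2 q64 =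 q65) (h65 : act 3 q65 = q66) (h66 : act 2 q66 = q67) (h67 : act 1 q67 = q68) (h68 : act 3 q68 = q69) (h69 : act 2 q69 = q70) (h70 : act 3 q70 = q71) (h71 : act 2 q71 = q72) (h72 : act 1 q72 = q73) (h73 : act 3 q73 = q74) (h74 : act 2 q74 = q75) (h75 : act 3 q75 = q76) (h76 : act 2 q76 = q77) (h77 : act 1 q77 = p0) : act 2 p9 = q10 := by
  have hr := R11 p0
  subst h0
  subst h1
  subst h2
  subst h3
  subst h4
  subst h5
  subst h6
  subst h7
  subst h8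
  subst h77
  subst h76
  subst h75
  subst h74
  subst h73
  subst h72
  subst h71
  subst h70
  subst h69
  subst h68
  subst h67
  subst h66
  subst h65
  subst h64
  subst h63
  subst h62
  subst h61
  subst h60
  subst h59
  subst h58
  subst h57
  subst h56
  subst h55
  subst h54
  subst h53
  subst h52
  subst h51
  subst h50
  subst h49
  subst h48
  subst h47
  subst h46
  subst h45
  subst h44
  subst h43
  subst h42
  subst h41
  subst h40
  subst h39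
  subst h38
  subst h37
  subst h36
  subst h35
  subst h34
  subst h33
  subst h32
  subst h31
  subst h30
  subst h29
  subst h28
  subst h27
  subst h26
  subst h25
  subst h24
  subst h23
  subst h22
  subst h21
  subst h20
  subst h19
  subst h18
  subst h17
  subst h16
  subst h15
  subst h14
  subst h13
  subst h12
  subst h11
  subst h10
  exact ij (ij (ij (ij (ij (ij (ij (ij (ij (ij (ij (ij (ij (ij (ij (ij (ij (ij (ij (ij (ij (ij (ij (ij (ij (ij (ij (ij (ij (ij (ij (ij (ij (ij (ij (ij (ij (ij (ij (ij (ij (ij (ij (ij (ij (ij (ij (ij (ij (ij (ij (ij (ij (ij (ij (ij (ij (ij (ij (ij (ij (ij (ij (ij (ij (ij (ij (ij (hr))))))))))))))))))))))))))))))))))))))))))))))))))))))))))))))))))))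

theorem d11_16 {p0 p1 p2 p3 p4 p5 p6 p7 p8 p9 p10 p11 p12 p13 p14 p15 p16 q17 q18 q19 q20 q21 q22 q23 q24 q25 q26 q27 q28 q29 q30 q31 q32 q33 q34 q35 q36 q37 q38 q39 q40 q41 q42 q43 q44 q45 q46 q47 q48 q49 q50 q51 q52 q53 q54 q55 q56 q57 q58 q59 q60 q61 q62 q63 q64 q65 q66 q67 q68 q69 q70 q71 q72 q73 q74 q75 q76 q77 : Q} (h0 : act 4 p0 = p1) (h1 : act 3 p1 = p2) (h2 : act 2 p2 = p3) (h3 : act 3 p3 = p4) (h4 : act 2 p4 = p5) (h5 : act 1 p5 = p6) (h6 : act 3 p6 = p7) (h7 : act 2 p7 = p8) (h8 : act 3 p8 = p9) (h9 : act 2 p9 = p10) (h10 : act 1 p10 = p11) (h11 : act 3 p11 = p12) (h12 : act 2 p12 = p13) (h13 : act 3 p13 = p14) (h14 : act 2 p14 = p15) (h15 : act 1 p15 = p16) (h17 : act 2 q17 = q18) (h18 : act 3 q18 = q19) (h19 : act 2 q19 = q20) (h20 : act 1 q20 = q21) (h21 : act 3 q21 = q22) (h22 : act 2 q22 = q23) (h23 : act 3 q23 = q24) (h24 : act 2 q24 = q25) (h25 : act 1 q25 = q26) (h26 : act 4 q26 =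 q27) (h27 : act 3 q27 = q28) (h28 : act 2 q28 = q29) (h29 : act 3 q29 = q30) (h30 : act 2 q30 = q31) (h31 : act 1 q31 = q32) (h32 : act 3 q32 = q33) (h33 : act 2 q33 = q34) (h34 : act 3 q34 = q35) (h35 : act 2 q35 = q36) (h36 : act 1 q36 = q37) (h37 : act 3 q37 = q38) (h38 : act 2 q38 = q39) (h39 : act 3 q39 = q40) (h40 : act 2 q40 = q41) (h41 : act 1 q41 = q42) (h42 : act 3 q42 = q43) (h43 : act 2 q43 = q44) (h44 : act 3 q44 = q45) (h45 : act 2 q45 = q46) (h46 : act 1 q46 = q47) (h47 : act 3 q47 = q48) (h48 : act 2 q48 = q49) (h49 : act 3 q49 = q50) (h50 : act 2 q50 = q51) (h51 : act 1 q51 = q52) (h52 : act 4 q52 = q53) (h53 : act 3 q53 = q54) (h54 : act 2 q54 = q55) (h55 : act 3 q55 = q56) (h56 : act 2 q56 = q57) (h57 : act 1 q57 = q58) (h58 : act 3 q58 = q59) (h59 : act 2 q59 = q60) (h60 : act 3 q60 = q61) (h61 : act 2 q61 = q62) (h62 : act 1 q62 = q63) (h63 : act 3 q63 = q64) (h64 : act 2 q64 = q65)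 (h65 : act 3 q65 = q66) (h66 : act 2 q66 = q67) (h67 : act 1 q67 = q68) (h68 : act 3 q68 = q69) (h69 : act 2 q69 = q70) (h70 : act 3 q70 = q71) (h71 : act 2 q71 = q72) (h72 : act 1 q72 = q73) (h73 : act 3 q73 = q74) (h74 : act 2 q74 = q75) (h75 : act 3 q75 = q76) (h76 : act 2 q76 = q77) (h77 : act 1 q77 = p0) : act 3 p16 = q17 := by
  have hr := R11 p0
  subst h0
  subst h1
  subst h2
  subst h3
  subst h4
  subst h5
  subst h6
  subst h7
  subst h8
  subst h9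
  subst h10
  subst h11
  subst h12
  subst h13
  subst h14
  subst h15
  subst h77
  subst h76
  subst h75
  subst h74
  subst h73
  subst h72
  subst h71
  subst h70
  subst h69
  subst h68
  subst h67
  subst h66
  subst h65
  subst h64
  subst h63
  subst h62
  subst h61
  subst h60
  subst h59
  subst h58
  subst h57
  subst h56
  subst h55
  subst h54
  subst h53
  subst h52
  subst h51
  subst h50
  subst h49
  subst h48
  subst h47
  subst h46
  subst h45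
  subst h44
  subst h43
  subst h42
  subst h41
  subst h40
  subst h39
  subst h38
  subst h37
  subst h36
  subst h35
  subst h34
  subst h33
  subst h32
  subst h31
  subst h30
  subst h29
  subst h28
  subst h27
  subst h26
  subst h25
  subst h24
  subst h23
  subst h22
  subst h21
  subst h20
  subst h19
  subst h18
  subst h17
  exact ij (ij (ij (ij (ij (ij (ij (ij (ij (ij (ij (ij (ij (ij (ij (ij (ij (ij (ij (ij (ij (ij (ij (ij (ij (ij (ij (ij (ij (ij (ij (ij (ij (ij (ij (ij (ij (ij (ij (ij (ij (ij (ij (ij (ij (ij (ij (ij (ij (ij (ij (ij (ij (ij (ij (ij (ij (ij (ij (ij (ij (hr)))))))))))))))))))))))))))))))))))))))))))))))))))))))))))))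

theorem d11_23 {p0 p1 p2 p3 p4 p5 p6 p7 p8 p9 p10 p11 p12 p13 p14 p15 p16 p17 p18 p19 p20 p21 p22 p23 q24 q25 q26 q27 q28 q29 q30 q31 q32 q33 q34 q35 q36 q37 q38 q39 q40 q41 q42 q43 q44 q45 q46 q47 q48 q49 q50 q51 q52 q53 q54 q55 q56 q57 q58 q59 q60 q61 q62 q63 q64 q65 q66 q67 q68 q69 q70 q71 q72 q73 q74 q75 q76 q77 : Q} (h0 : act 4 p0 = p1) (h1 : act 3 p1 = p2) (h2 : act 2 p2 = p3) (h3 : act 3 p3 = p4) (h4 : act 2 p4 = p5) (h5 : act 1 p5 = p6) (h6 : act 3 p6 = p7) (h7 : act 2 p7 = p8) (h8 : act 3 p8 = p9) (h9 : act 2 p9 = p10) (h10 : act 1 p10 = p11) (h11 : act 3 p11 = p12) (h12 : act 2 p12 = p13) (h13 : act 3 p13 = p14) (h14 : act 2 p14 = p15) (h15 : act 1 p15 = p16) (h16 : act 3 p16 = p17) (h17 : act 2 p17 = p18) (h18 : act 3 p18 = p19) (h19 : act 2 p19 = p20) (h20 : act 1 p20 = p21) (h21 : act 3 p21 = p22) (h22 : act 2 p22 = p23) (h24 : act 2 q24 = q25) (h25 : act 1 q25 = q26) (h26 : act 4 q26 =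 q27) (h27 : act 3 q27 = q28) (h28 : act 2 q28 = q29) (h29 : act 3 q29 = q30) (h30 : act 2 q30 = q31) (h31 : act 1 q31 = q32) (h32 : act 3 q32 = q33) (h33 : act 2 q33 = q34) (h34 : act 3 q34 = q35) (h35 : act 2 q35 = q36) (h36 : act 1 q36 = q37) (h37 : act 3 q37 = q38) (h38 : act 2 q38 = q39) (h39 : act 3 q39 = q40) (h40 : act 2 q40 = q41) (h41 : act 1 q41 = q42) (h42 : act 3 q42 = q43) (h43 : act 2 q43 = q44) (h44 : act 3 q44 = q45) (h45 : act 2 q45 = q46) (h46 : act 1 q46 = q47) (h47 : act 3 q47 = q48) (h48 : act 2 q48 = q49) (h49 : act 3 q49 = q50) (h50 : act 2 q50 = q51) (h51 : act 1 q51 = q52) (h52 : act 4 q52 = q53) (h53 : act 3 q53 = q54) (h54 : act 2 q54 = q55) (h55 : act 3 q55 = q56) (h56 : act 2 q56 = q57) (h57 : act 1 q57 = q58) (h58 : act 3 q58 = q59) (h59 : act 2 q59 = q60) (h60 : act 3 q60 = q61) (h61 : act 2 q61 = q62) (h62 : act 1 q62 = q63) (h63 : act 3 q63 = q64) (h64 : act 2 q64 = q65)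 (h65 : act 3 q65 = q66) (h66 : act 2 q66 = q67) (h67 : act 1 q67 = q68) (h68 : act 3 q68 = q69) (h69 : act 2 q69 = q70) (h70 : act 3 q70 = q71) (h71 : act 2 q71 = q72) (h72 : act 1 q72 = q73) (h73 : act 3 q73 = q74) (h74 : act 2 q74 = q75) (h75 : act 3 q75 = q76) (h76 : act 2 q76 = q77) (h77 : act 1 q77 = p0) : act 3 p23 = q24 := by
  have hr := R11 p0
  subst h0
  subst h1
  subst h2
  subst h3
  subst h4
  subst h5
  subst h6
  subst h7
  subst h8
  subst h9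
  subst h10
  subst h11
  subst h12
  subst h13
  subst h14
  subst h15
  subst h16
  subst h17
  subst h18
  subst h19
  subst h20
  subst h21
  subst h22
  subst h77
  subst h76
  subst h75
  subst h74
  subst h73
  subst h72
  subst h71
  subst h70
  subst h69
  subst h68
  subst h67
  subst h66
  subst h65
  subst h64
  subst h63
  subst h62
  subst h61
  subst h60
  subst h59
  subst h58
  subst h57
  subst h56
  subst h55
  subst h54
  subst h53
  subst h52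
  subst h51
  subst h50
  subst h49
  subst h48
  subst h47
  subst h46
  subst h45
  subst h44
  subst h43
  subst h42
  subst h41
  subst h40
  subst h39
  subst h38
  subst h37
  subst h36
  subst h35
  subst h34
  subst h33
  subst h32
  subst h31
  subst h30
  subst h29
  subst h28
  subst h27
  subst h26
  subst h25
  subst h24
  exact ij (ij (ij (ij (ij (ij (ij (ij (ij (ij (ij (ij (ij (ij (ij (ij (ij (ij (ij (ij (ij (ij (ij (ij (ij (ij (ij (ij (ij (ij (ij (ij (ij (ij (ij (ij (ij (ij (ij (ij (ij (ij (ij (ij (ij (ij (ij (ij (ij (ij (ij (ij (ij (ij (hr))))))))))))))))))))))))))))))))))))))))))))))))))))))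

theorem d11_45 {p0 p1 p2 p3 p4 p5 p6 p7 p8 p9 p10 p11 p12 p13 p14 p15 p16 p17 p18 p19 p20 p21 p22 p23 p24 p25 p26 p27 p28 p29 p30 p31 p32 p33 p34 p35 p36 p37 p38 p39 p40 p41 p42 p43 p44 p45 q46 q47 q48 q49 q50 q51 q52 q53 q54 q55 q56 q57 q58 q59 q60 q61 q62 q63 q64 q65 q66 q67 q68 q69 q70 q71 q72 q73 q74 q75 q76 q77 : Q} (h0 : act 4 p0 = p1) (h1 : act 3 p1 = p2) (h2 : act 2 p2 = p3) (h3 : act 3 p3 = p4) (h4 : act 2 p4 = p5) (h5 : act 1 p5 = p6) (h6 : act 3 p6 = p7) (h7 : act 2 p7 = p8) (h8 : act 3 p8 = p9) (h9 : act 2 p9 = p10) (h10 : act 1 p10 = p11) (h11 : act 3 p11 = p12) (h12 : act 2 p12 = p13) (h13 : act 3 p13 = p14) (h14 : act 2 p14 = p15) (h15 : act 1 p15 = p16) (h16 : act 3 p16 = p17) (h17 : act 2 p17 = p18) (h18 : act 3 p18 = p19) (h19 : act 2 p19 = p20) (h20 : act 1 p20 = p21) (h21 : act 3 p21 = p22) (h22 : act 2 p22 = p23) (h23 : act 3 p23 = p24) (h24 : act 2 p24 = p25) (h25 : act 1 p25 =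 p26) (h26 : act 4 p26 = p27) (h27 : act 3 p27 = p28) (h28 : act 2 p28 = p29) (h29 : act 3 p29 = p30) (h30 : act 2 p30 = p31) (h31 : act 1 p31 = p32) (h32 : act 3 p32 = p33) (h33 : act 2 p33 = p34) (h34 : act 3 p34 = p35) (h35 : act 2 p35 = p36) (h36 : act 1 p36 = p37) (h37 : act 3 p37 = p38) (h38 : act 2 p38 = p39) (h39 : act 3 p39 = p40) (h40 : act 2 p40 = p41) (h41 : act 1 p41 = p42) (h42 : act 3 p42 = p43) (h43 : act 2 p43 = p44) (h44 : act 3 p44 = p45) (h46 : act 1 q46 = q47) (h47 : act 3 q47 = q48) (h48 : act 2 q48 = q49) (h49 : act 3 q49 = q50) (h50 : act 2 q50 = q51) (h51 : act 1 q51 = q52) (h52 : act 4 q52 = q53) (h53 : act 3 q53 = q54) (h54 : act 2 q54 = q55) (h55 : act 3 q55 = q56) (h56 : act 2 q56 = q57) (h57 : act 1 q57 = q58) (h58 : act 3 q58 = q59) (h59 : act 2 q59 = q60) (h60 : act 3 q60 = q61) (h61 : act 2 q61 = q62) (h62 : act 1 q62 = q63) (h63 : act 3 q63 = q64) (h64 : act 2 q64 = q65)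 (h65 : act 3 q65 = q66) (h66 : act 2 q66 = q67) (h67 : act 1 q67 = q68) (h68 : act 3 q68 = q69) (h69 : act 2 q69 = q70) (h70 : act 3 q70 = q71) (h71 : act 2 q71 = q72) (h72 : act 1 q72 = q73) (h73 : act 3 q73 = q74) (h74 : act 2 q74 = q75) (h75 : act 3 q75 = q76) (h76 : act 2 q76 = q77) (h77 : act 1 q77 = p0) : act 2 p45 = q46 := by
  have hr := R11 p0
  subst h0
  subst h1
  subst h2
  subst h3
  subst h4
  subst h5
  subst h6
  subst h7
  subst h8
  subst h9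
  subst h10
  subst h11
  subst h12
  subst h13
  subst h14
  subst h15
  subst h16
  subst h17
  subst h18
  subst h19
  subst h20
  subst h21
  subst h22
  subst h23
  subst h24
  subst h25
  subst h26
  subst h27
  subst h28
  subst h29
  subst h30
  subst h31
  subst h32
  subst h33
  subst h34
  subst h35
  subst h36
  subst h37
  subst h38
  subst h39
  subst h40
  subst h41
  subst h42
  subst h43
  subst h44
  subst h77
  subst h76
  subst h75
  subst h74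
  subst h73
  subst h72
  subst h71
  subst h70
  subst h69
  subst h68
  subst h67
  subst h66
  subst h65
  subst h64
  subst h63
  subst h62
  subst h61
  subst h60
  subst h59
  subst h58
  subst h57
  subst h56
  subst h55
  subst h54
  subst h53
  subst h52
  subst h51
  subst h50
  subst h49
  subst h48
  subst h47
  subst h46
  exact ij (ij (ij (ij (ij (ij (ij (ij (ij (ij (ij (ij (ij (ij (ij (ij (ij (ij (ij (ij (ij (ij (ij (ij (ij (ij (ij (ij (ij (ij (ij (ij (hr))))))))))))))))))))))))))))))))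

theorem d12_0 {p0 : Q} (hr : act 0 p0 = p0) : act 0 p0 = p0 := by
  exact hr

theorem d13_0 {p0 : Q} (hr : act 1 p0 = p0) : act 1 p0 = p0 := by
  exact hr

theorem d14_0 {p0 : Q} (hr : act 2 p0 = p0) : act 2 p0 = p0 := by
  exact hr

theorem d15_0 {p0 : Q} (hr : act 3 p0 = p0) : act 3 p0 = p0 := by
  exact hr


end Cfsg.Agent.Helper17.SuzP2TC
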